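/-
Overgroups of an orthogonal group over an extension field: basic notions.
-/
import Cfsg.Agent.Lib.MaxSub.ExtSymp.Transvection
import Cfsg.Agent.Lib.FiniteForms.Witt
import Mathlib.RingTheory.Trace.Basic

set_option autoImplicit false
set_option maxHeartbeats 400000
set_option linter.unusedSectionVars false

namespace CfsgLib.MaxSub.ExtOrthMax

open Module
open CfsgLib.MaxSub.ExtLin (Lin Mem mem_lin mem_lin_iff finrank_lin)
open CfsgLib.MaxSub.ExtSymp (eq_zero_of_trace exists_both)

variable {F K V : Type*} [Field F] [Fintype F] [Field K] [Algebra F K] [FiniteDimensional F K]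
  [AddCommGroup V] [Module F V] [Module K V] [IsScalarTower F K V] [FiniteDimensional F V]

/-- An overgroup of the orthogonal group of `β` inside that of the trace form `f`. -/
structure OX (f : V →ₗ[F] V →ₗ[F] F) (β : V →ₗ[K] V →ₗ[K] K) (G : Subgroup (V ≃ₗ[F] V)) : Prop where
  two : (2 : F) ≠ 0
  tr : ∀ x y, f x y = Algebra.trace F K (β x y)
  symm : ∀ x y, β x y = β y x
  nd : ∀ x, (∀ y, β x y = 0) → x = 0
  eich : ∀ e a : V, β e e = 0 → β e a = 0 →
    ∃ g ∈ G, ∀ y, g y = y + β e y • a - (β a y + β a a / 2 * β e y) • e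
  iso : ∀ g ∈ G, ∀ x y, f (g x) (g y) = f x y
  prime : (finrank F K).Prime
  dim : 3 * finrank F K ≤ finrank F V
  small : finrank K V = 3 → 3 ≤ finrank F K ∧ ∀ g ∈ G, LinearEquiv.det g = 1
  dim_two : finrank F K = 2 → 5 ≤ finrank K V ∨ (finrank K V = 4 ∧
    ∀ u z : V, u ≠ 0 → β u u = 0 → β z z = 0 → β u z = 0 → z ∈ K ∙ u)
  nospread : ∃ g ∈ G, ∃ (k : K) (v : V), g (k • v) ∉ K ∙ g v

variable {f : V →ₗ[F] V →ₗ[F] F} {β : V →ₗ[K] V →ₗ[K] K} {G : Subgroup (V ≃ₗ[F] V)}

/-- A member: the image of a singular line. -/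
def IsMem (β : V →ₗ[K] V →ₗ[K] K) (G : Subgroup (V ≃ₗ[F] V)) (M : Submodule F V) : Prop :=
  ∃ g ∈ G, ∃ v : V, v ≠ 0 ∧ β v v = 0 ∧ M = (Lin F K v).map g.toLinearMap

/-- The additive generation of a field by its squares, for linear maps. -/
theorem zero_of_squares {W : Type*} [AddCommGroup W] (h2 : (2 : K) ≠ 0) (φ : K →+ W)
    (h : ∀ x : K, φ (x * x) = 0) (c : K) : φ c = 0 := by
  rw [show c = (c + 1) / 2 * ((c + 1) / 2) - (c - 1) / 2 * ((c - 1) / 2) by field_simp; ring,
    map_sub, h, h, sub_zero]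

section

variable (O : OX f β G)
include O

theorem two_K : (2 : K) ≠ 0 := fun h => O.two
  ((algebraMap F K).injective (by rw [map_ofNat, map_zero]; exact h))

theorem finite_K : Finite K := Module.finite_of_finite F

theorem finite_VK : Module.Finite K V := Module.Finite.right F K V

theorem rank_mul : finrank F V = finrank F K * finrank K V := (Module.finrank_mul_finrank F K V).symm

theorem three_le : 3 ≤ finrank K V := by
  have h := O.dim
  rw [rank_mul O, mul_comm 3] at h
  exact Nat.le_of_mul_le_mul_left h O.prime.pos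

theorem f_symm (x y : V) : f x y = f y x := by rw [O.tr, O.tr, O.symm]

theorem f_smul_right (x : V) (k : K) (y : V) : f x (k • y) = Algebra.trace F K (k * β x y) := by
  rw [O.tr, map_smul, smul_eq_mul]

theorem f_smul_left (k : K) (x y : V) : f (k • x) y = Algebra.trace F K (k * β x y) := by
  rw [O.tr, map_smul, LinearMap.smul_apply, smul_eq_mul]

theorem f_lin {e y : V} (h : ∀ u ∈ Lin F K e, f y u = 0) : β e y = 0 :=
  eq_zero_of_trace (F := F) fun k => by
    rw [O.symm e y]
    exact (f_smul_right O y k e).symm.trans (h _ (mem_lin_iff.2 ⟨k, rfl⟩))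

theorem f_lin' {e y : V} (h : β e y = 0) : ∀ u ∈ Lin F K e, f y u = 0 := fun u hu => by
  obtain ⟨k, rfl⟩ := mem_lin_iff.1 hu
  rw [f_smul_right O, O.symm, h, mul_zero, map_zero]

theorem beta_lin {e u : V} (he : β e e = 0) (h : u ∈ Lin F K e) : β e u = 0 := by
  obtain ⟨k, rfl⟩ := mem_lin_iff.1 h
  rw [map_smul, he, smul_zero]

theorem mem_ti {M : Submodule F V} (h : IsMem β G M) : ∀ x ∈ M, ∀ y ∈ M, f x y = 0 := by
  obtain ⟨g, hg, v, -, hv, rfl⟩ := h
  rintro _ ⟨x, hx, rfl⟩ _ ⟨y, hy, rfl⟩
  show f (g x) (g y) = 0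
  rw [O.iso g hg]
  obtain ⟨a, rfl⟩ := mem_lin_iff.1 hx
  rw [f_smul_left O, beta_lin O hv hy, mul_zero, map_zero]

theorem mem_finrank {M : Submodule F V} (h : IsMem β G M) : finrank F M = finrank F K := by
  obtain ⟨g, hg, v, hv0, -, rfl⟩ := h
  rw [LinearEquiv.finrank_map_eq, finrank_lin hv0]

theorem mem_map {M : Submodule F V} (h : IsMem β G M) {g : V ≃ₗ[F] V} (hg : g ∈ G) :
    IsMem β G (M.map g.toLinearMap) := by
  obtain ⟨g', hg', v, hv0, hv, rfl⟩ := h
  refine ⟨g * g', mul_mem hg hg', v, hv0, hv, ?_⟩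
  rw [← Submodule.map_comp]
  rfl

theorem mem_of_lin {e : V} (he0 : e ≠ 0) (he : β e e = 0) : IsMem β G (Lin F K e) :=
  ⟨1, one_mem G, e, he0, he, (Submodule.map_id _).symm⟩

/-- A functional on `V` is given by a vector. -/
theorem exists_repr (φ : Dual K V) : ∃ a, ∀ y, β a y = φ y := by
  haveI := finite_VK O
  have hinj : Function.Injective β :=
    LinearMap.ker_eq_bot.1 (LinearMap.ker_eq_bot'.2 fun x hx => O.nd x fun y => by
      rw [hx, LinearMap.zero_apply])
  obtain ⟨a, ha⟩ := (LinearMap.injective_iff_surjective_of_finrank_eq_finrank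
    (Subspace.dual_finrank_eq (K := K) (V := V)).symm).1 hinj φ
  exact ⟨a, fun y => by rw [ha]⟩

/-- Separation by the form. -/
theorem exists_sep {P : Submodule K V} {w : V} (hw : w ∉ P) (k : K) :
    ∃ a, (∀ x ∈ P, β a x = 0) ∧ β a w = k := by
  obtain ⟨φ, hφ, hφP⟩ := Submodule.exists_dual_map_eq_bot_of_notMem hw inferInstance
  obtain ⟨a, ha⟩ := exists_repr O ((k / φ w) • φ)
  refine ⟨a, fun x hx => ?_, ?_⟩
  · have h0 : φ x = 0 := (Submodule.mem_bot K).1 (hφP ▸ Submodule.mem_map_of_mem hx)
    rw [ha, LinearMap.smul_apply, h0, smul_zero]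
  · rw [ha, LinearMap.smul_apply, smul_eq_mul, div_mul_cancel₀ _ hφ]

theorem exists_sep_one {x w : V} (hw : w ∉ K ∙ x) (k : K) : ∃ a, β x a = 0 ∧ β a w = k := by
  obtain ⟨a, ha, hk⟩ := exists_sep O hw k
  exact ⟨a, by rw [O.symm]; exact ha x (Submodule.mem_span_singleton_self x), hk⟩

theorem exists_partner {x : V} (hx : x ≠ 0) : ∃ a, β x a = 1 := by
  obtain ⟨a, -, ha⟩ := exists_sep O (P := ⊥) (w := x) (fun h => hx ((Submodule.mem_bot K).1 h)) 1
  exact ⟨a, by rw [O.symm]; exact ha⟩

/-- The perpendicular of two vectors. -/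
def perp₂ (β : V →ₗ[K] V →ₗ[K] K) (x y : V) : Submodule K V := LinearMap.ker (β x) ⊓ LinearMap.ker (β y)

omit O in
theorem mem_perp₂ {x y a : V} : a ∈ perp₂ β x y ↔ β x a = 0 ∧ β y a = 0 := Iff.rfl

theorem perp₂_rank (x y : V) : finrank K V ≤ finrank K (perp₂ β x y) + 2 := by
  haveI := finite_VK O
  have hk : ∀ z, finrank K V ≤ finrank K (LinearMap.ker (β z)) + 1 := fun z => by
    have h1 := LinearMap.finrank_range_add_finrank_ker (β z)
    have h2 := Submodule.finrank_le (LinearMap.range (β z))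
    rw [Module.finrank_self] at h2
    omega
  have h := Submodule.finrank_sup_add_finrank_inf_eq (LinearMap.ker (β x)) (LinearMap.ker (β y))
  have h2 := Submodule.finrank_le (LinearMap.ker (β x) ⊔ LinearMap.ker (β y))
  have h3 := hk x
  have h4 := hk y
  rw [perp₂]
  omega

/-- Singular vectors in large subspaces. -/
theorem exists_sing_in {P : Submodule K V} (hP : 3 ≤ finrank K P) :
    ∃ e ∈ P, e ≠ 0 ∧ β e e = 0 := by
  haveI := finite_VK O
  haveI := finite_K O
  obtain ⟨e, he0, he⟩ := CfsgLib.FiniteForms.exists_singular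
    ((LinearMap.BilinMap.toQuadraticMap β).comp P.subtype) hP
  exact ⟨e.1, e.2, fun h => he0 (Subtype.ext h), he⟩

theorem exists_sing : ∃ e : V, e ≠ 0 ∧ β e e = 0 := by
  obtain ⟨e, -, h⟩ := exists_sing_in O (P := ⊤) (by rw [finrank_top]; have := three_le O; omega)
  exact ⟨e, h⟩

/-- Shifting a vector by a singular one. -/
theorem sing_shift {e y : V} (he : β e e = 0) (hey : β e y = 1) :
    ∃ c : K, β (y + c • e) (y + c • e) = 0 ∧ β e (y + c • e) = 1 := by
  refine ⟨-(β y y / 2), ?_, ?_⟩
  · have := two_K O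
    simp only [map_add, map_smul, LinearMap.add_apply, LinearMap.smul_apply, he, O.symm y e, hey,
      smul_eq_mul, mul_zero, add_zero, mul_one]
    field_simp
    ring
  · rw [map_add, map_smul, he, smul_zero, add_zero, hey]

theorem exists_opp {e : V} (he0 : e ≠ 0) (he : β e e = 0) : ∃ e', β e' e' = 0 ∧ β e e' = 1 := by
  obtain ⟨y, hy⟩ := exists_partner O he0
  obtain ⟨c, h1, h2⟩ := sing_shift O he hy
  exact ⟨_, h1, h2⟩

/-- An anisotropic vector perpendicular to a hyperbolic pair. -/
theorem exists_aniso {e e' : V} (he : β e e = 0) (he' : β e' e' = 0) (h : β e e' ≠ 0) :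
    ∃ v, β e v = 0 ∧ β e' v = 0 ∧ β v v ≠ 0 := by
  haveI := finite_VK O
  by_contra hc
  push Not at hc
  have hz : ∀ a, β e a = 0 → β e' a = 0 → a = 0 := fun a h1 h2 => by
    refine O.nd a fun y => ?_
    have hy : ∀ y', β e y' = 0 → β e' y' = 0 → β a y' = 0 := fun y' h3 h4 => by
      have e1 := hc _ (show β e (a + y') = 0 by rw [map_add, h1, h3, add_zero])
        (show β e' (a + y') = 0 by rw [map_add, h2, h4, add_zero])
      simp only [map_add, LinearMap.add_apply, hc a h1 h2, hc y' h3 h4, O.symm y' a, zero_add,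
        add_zero] at e1
      have := two_K O
      exact (mul_eq_zero.1 (show (2 : K) * β a y' = 0 by linear_combination e1)).resolve_left this
    have h' := hy (y - (β e' y / β e' e) • e - (β e y / β e e') • e')
      (by simp only [map_sub, map_smul, he, smul_eq_mul, mul_zero, sub_zero]
          rw [div_mul_cancel₀ _ h, sub_self])
      (by simp only [map_sub, map_smul, he', smul_eq_mul, mul_zero, sub_zero]
          rw [div_mul_cancel₀ _ (by rwa [O.symm] at h), sub_self])
    simp only [map_sub, map_smul, O.symm a e, h1, O.symm a e', h2, smul_zero, sub_zero] at h'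
    exact h'
  have h1 : perp₂ β e e' = ⊥ := (Submodule.eq_bot_iff _).2 fun a ha => hz a ha.1 ha.2
  have h2 := perp₂_rank O e e'
  rw [h1, finrank_bot] at h2
  have := three_le O
  omega

/-- The singular vectors through a plane and an anisotropic vector. -/
theorem sing_triple {e e' v : V} (he : β e e = 0) (he' : β e' e' = 0) (h : β e e' ≠ 0)
    (h1 : β e v = 0) (h2 : β e' v = 0) (t : K) :
    β (e + t • v + (-(t * t * β v v) / (2 * β e e')) • e')
      (e + t • v + (-(t * t * β v v) / (2 * β e e')) • e') = 0 := by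
  have := two_K O
  simp only [map_add, map_smul, LinearMap.add_apply, LinearMap.smul_apply, he, he', O.symm v e, h1,
    O.symm v e', h2, O.symm e' e, smul_eq_mul, mul_zero, add_zero, zero_add]
  field_simp
  ring

/-- An element of the orthogonal group maps a singular vector to a multiple of another. -/
theorem move_opp {e e' x : V} (he : β e e = 0) (he' : β e' e' = 0) (hx : β x x = 0)
    (h1 : β x e ≠ 0) (h2 : β x e' ≠ 0) :
    ∃ g ∈ G, (∀ (k : K) (v : V), g (k • v) = k • g v) ∧ g e = (β x e / β x e') • e' := by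
  set s := β x e / β x e' with hs
  have hxs : β x (s • e') = β x e := by rw [map_smul, smul_eq_mul, hs, div_mul_cancel₀ _ h2]
  set a := (β x e)⁻¹ • (s • e' - e) with ha
  have hxa : β x a = 0 := by rw [ha, map_smul, map_sub, hxs, sub_self, smul_zero]
  obtain ⟨g, hg, hgy⟩ := O.eich x a hx hxa
  refine ⟨g, hg, fun k v => ?_, ?_⟩
  · rw [hgy, hgy]
    simp only [map_smul, smul_eq_mul, smul_sub, smul_add, smul_smul]
    congr 2
    ring
  · have hae : β a e = (β x e)⁻¹ * (s * β e e') := by
      rw [O.symm, ha, map_smul, map_sub, map_smul, he, sub_zero, smul_eq_mul, smul_eq_mul]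
    have haa : β a a = (β x e)⁻¹ * ((β x e)⁻¹ * (-2 * (s * β e e'))) := by
      simp only [ha, map_smul, map_sub, LinearMap.smul_apply, LinearMap.sub_apply, he, he',
        O.symm e' e, smul_eq_mul]
      ring
    have := two_K O
    rw [hgy, show β a e + β a a / 2 * β x e = 0 by rw [hae, haa]; field_simp; ring, zero_smul,
      sub_zero, ha, smul_smul, mul_inv_cancel₀ h1, one_smul, add_sub_cancel]

/-- A singular vector away from two given ones. -/
theorem exists_away {e e' : V} (he0 : e ≠ 0) (he'0 : e' ≠ 0) (he : β e e = 0) (he' : β e' e' = 0) :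
    ∃ x, β x x = 0 ∧ β x e ≠ 0 ∧ β x e' ≠ 0 := by
  have hK := two_K O
  rcases eq_or_ne (β e e') 0 with h | h
  · obtain ⟨y, hy1, hy2⟩ := exists_both (φ := β e) (ψ := β e')
      (by obtain ⟨a, ha⟩ := exists_partner O he0; exact ⟨a, ha ▸ one_ne_zero⟩)
      (by obtain ⟨a, ha⟩ := exists_partner O he'0; exact ⟨a, ha ▸ one_ne_zero⟩)
    obtain ⟨c, hc1, hc2⟩ := sing_shift O he (y := (β e y)⁻¹ • y)
      (by rw [map_smul, smul_eq_mul, inv_mul_cancel₀ hy1])
    refine ⟨_, hc1, by rw [O.symm, hc2]; exact one_ne_zero, ?_⟩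
    rw [O.symm, map_add, map_smul, map_smul, O.symm e' e, h, smul_zero, add_zero, smul_eq_mul]
    exact mul_ne_zero (inv_ne_zero hy1) hy2
  · obtain ⟨v, h1, h2, h3⟩ := exists_aniso O he he' h
    refine ⟨_, sing_triple O he he' h h1 h2 1, ?_, ?_⟩
    · simp only [map_add, map_smul, LinearMap.add_apply, LinearMap.smul_apply, he, O.symm v e, h1,
        O.symm e' e, smul_eq_mul, zero_add, mul_zero, one_mul]
      exact mul_ne_zero (div_ne_zero (neg_ne_zero.2 h3) (mul_ne_zero hK h)) h
    · simp only [map_add, map_smul, LinearMap.add_apply, LinearMap.smul_apply, he', O.symm v e', h2,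
        smul_eq_mul, add_zero, mul_zero]
      exact h

/-- The orthogonal group is transitive on singular lines. -/
theorem line_move {e e' : V} (he0 : e ≠ 0) (he'0 : e' ≠ 0) (he : β e e = 0) (he' : β e' e' = 0) :
    ∃ g ∈ G, ∃ s : K, s ≠ 0 ∧ ∀ k : K, g (k • e) = (k * s) • e' := by
  obtain ⟨x, hx, h1, h2⟩ := exists_away O he0 he'0 he he'
  obtain ⟨g, hg, hl, hge⟩ := move_opp O he he' hx h1 h2
  exact ⟨g, hg, _, div_ne_zero h1 h2, fun k => by rw [hl, hge, smul_smul]⟩

/-- Scalings of a singular line by squares. -/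
theorem scale {e : V} (he0 : e ≠ 0) (he : β e e = 0) {t : K} (ht : t ≠ 0) :
    ∃ g ∈ G, ∀ k : K, g (k • e) = (k * (t * t)) • e := by
  have hK := two_K O
  obtain ⟨e', he', hee'⟩ := exists_opp O he0 he
  have h : β e e' ≠ 0 := by rw [hee']; exact one_ne_zero
  obtain ⟨v, h1, h2, h3⟩ := exists_aniso O he he' h
  have hval : ∀ t : K, β (e + t • v + (-(t * t * β v v) / (2 * β e e')) • e') e
      = -(t * t * β v v) / 2 ∧ β (e + t • v + (-(t * t * β v v) / (2 * β e e')) • e') e' = 1 := by
    intro t
    constructor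
    · simp only [map_add, map_smul, LinearMap.add_apply, LinearMap.smul_apply, he, O.symm v e, h1,
        O.symm e' e, hee', smul_eq_mul, zero_add, mul_zero, mul_one]
    · simp only [map_add, map_smul, LinearMap.add_apply, LinearMap.smul_apply, he', O.symm v e', h2,
        hee', smul_eq_mul, add_zero, mul_zero]
  have hn : ∀ t : K, t ≠ 0 → -(t * t * β v v) / 2 ≠ 0 := fun t ht =>
    div_ne_zero (neg_ne_zero.2 (mul_ne_zero (mul_ne_zero ht ht) h3)) hK
  obtain ⟨g₁, hg₁, l₁, e₁⟩ := move_opp O he he' (sing_triple O he he' h h1 h2 t)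
    (by rw [(hval t).1]; exact hn t ht) (by rw [(hval t).2]; exact one_ne_zero)
  obtain ⟨g₂, hg₂, l₂, e₂⟩ := move_opp O he' he (sing_triple O he he' h h1 h2 1)
    (by rw [(hval 1).2]; exact one_ne_zero) (by rw [(hval 1).1]; exact hn 1 one_ne_zero)
  refine ⟨g₂ * g₁, mul_mem hg₂ hg₁, fun k => ?_⟩
  show g₂ (g₁ (k • e)) = _
  rw [l₁, e₁, l₂, l₂, e₂, smul_smul, smul_smul, (hval t).1, (hval t).2, (hval 1).1, (hval 1).2]
  congr 1
  field_simp

/-- A member is the image of any given singular line. -/
theorem mem_std {M : Submodule F V} (h : IsMem β G M) {e : V} (he0 : e ≠ 0) (he : β e e = 0) :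
    ∃ g ∈ G, M = (Lin F K e).map g.toLinearMap := by
  obtain ⟨g, hg, v, hv0, hv, rfl⟩ := h
  obtain ⟨t, ht, s, hs, hts⟩ := line_move O he0 hv0 he hv
  refine ⟨g * t, mul_mem hg ht, ?_⟩
  have : (Lin F K e).map t.toLinearMap = Lin F K v := by
    refine le_antisymm ?_ fun z hz => ?_
    · rintro _ ⟨x, hx, rfl⟩
      obtain ⟨k, rfl⟩ := mem_lin_iff.1 hx
      exact mem_lin_iff.2 ⟨k * s, (hts k).symm⟩
    · obtain ⟨k, rfl⟩ := mem_lin_iff.1 hz
      exact ⟨(k / s) • e, mem_lin_iff.2 ⟨_, rfl⟩, by
        show t ((k / s) • e) = k • v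
        rw [hts, div_mul_cancel₀ k hs]⟩
  rw [← this, ← Submodule.map_comp]
  rfl

theorem map_inv {g : V ≃ₗ[F] V} (U : Submodule F V) :
    (U.map g.toLinearMap).map (g⁻¹ : V ≃ₗ[F] V).toLinearMap = U := by
  rw [← Submodule.map_comp]
  refine Eq.trans ?_ (Submodule.map_id U)
  congr 1
  exact LinearMap.ext fun x => g.symm_apply_apply x

theorem pairs_of_members {M N : Submodule F V} (hM : IsMem β G M) (hN : IsMem β G N) {e : V}
    (he0 : e ≠ 0) (he : β e e = 0) : ∃ g ∈ G, IsMem β G (M.map g.toLinearMap) ∧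
      N.map g.toLinearMap = Lin F K e := by
  obtain ⟨g, hg, rfl⟩ := mem_std O hN he0 he
  exact ⟨g⁻¹, inv_mem hg, mem_map O hM (inv_mem hg), map_inv O _⟩

/-- An element which is not semilinear moves a singular line off all lines. -/
theorem exists_nonline : ∃ M : Submodule F V, IsMem β G M ∧ ∀ v : V, M ≠ Lin F K v := by
  haveI := finite_VK O
  have hK := two_K O
  obtain ⟨g, hg, k₀, v₀, hkv⟩ := O.nospread
  by_contra hc
  push Not at hc
  have hline : ∀ e : V, β e e = 0 → ∀ k : K, g (k • e) ∈ K ∙ g e := by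
    intro e he k
    rcases eq_or_ne e 0 with rfl | he0
    · rw [smul_zero, map_zero]; exact zero_mem _
    obtain ⟨v, hv⟩ := hc _ (mem_map O (mem_of_lin O he0 he) hg)
    have hge : g e ∈ Lin F K v := by
      rw [← hv]; exact ⟨e, mem_lin_iff.2 ⟨1, one_smul _ _⟩, rfl⟩
    have hgk : g (k • e) ∈ Lin F K v := by
      rw [← hv]; exact ⟨k • e, mem_lin_iff.2 ⟨k, rfl⟩, rfl⟩
    obtain ⟨a, ha⟩ := mem_lin_iff.1 hge
    obtain ⟨b, hb⟩ := mem_lin_iff.1 hgk
    have ha0 : a ≠ 0 := fun h => he0 (g.map_eq_zero_iff.1 (by rw [← ha, h, zero_smul]))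
    exact Submodule.mem_span_singleton.2 ⟨b / a, by
      rw [← hb, ← ha, smul_smul, div_mul_cancel₀ b ha0]⟩
  simp only [Submodule.mem_span_singleton] at hline
  choose! θ hθ using hline
  -- images of independent singular lines are independent
  have hind : ∀ {a b : V} {A B : K}, β a a = 0 → β b b = 0 → a ≠ 0 → b ∉ K ∙ a →
      A • g a + B • g b = 0 → A = 0 ∧ B = 0 := by
    intro a b A B ha hb ha0 hba h
    haveI := finite_K O
    have hsur : ∀ x : V, β x x = 0 → x ≠ 0 → ∀ A : K, ∃ c : K, g (c • x) = A • g x := fun x hx hx0 A => by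
      have hinj : Function.Injective (θ x) := fun c d hcd => smul_left_injective K hx0
        (g.injective (by
          show g (c • x) = g (d • x)
          rw [← hθ x hx, ← hθ x hx, hcd]))
      obtain ⟨c, hc⟩ := Finite.surjective_of_injective hinj A
      exact ⟨c, by rw [← hθ x hx, hc]⟩
    have hb0 : b ≠ 0 := fun e => hba (e ▸ zero_mem _)
    obtain ⟨c, hc⟩ := hsur a ha ha0 A
    obtain ⟨d, hd⟩ := hsur b hb hb0 B
    rw [← hc, ← hd, ← map_add, g.map_eq_zero_iff] at h
    have hd0 : d = 0 := by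
      by_contra hd0
      refine hba (Submodule.mem_span_singleton.2 ⟨-(c / d), smul_right_injective V hd0 ?_⟩)
      show d • (-(c / d)) • a = d • b
      rw [smul_smul, mul_neg, mul_div_cancel₀ _ hd0, neg_smul]
      exact (eq_neg_of_add_eq_zero_right h).symm
    rw [hd0, zero_smul, add_zero, smul_eq_zero] at h
    rw [hd0, zero_smul, map_zero, eq_comm, smul_eq_zero] at hd
    rw [h.resolve_right ha0, zero_smul, map_zero, eq_comm, smul_eq_zero] at hc
    exact ⟨hc.resolve_right (fun e => ha0 (g.map_eq_zero_iff.1 e)),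
      hd.resolve_right (fun e => hb0 (g.map_eq_zero_iff.1 e))⟩
  have hθ1 : ∀ x : V, β x x = 0 → x ≠ 0 → θ x 1 = 1 := fun x hx hx0 => by
    have := hθ x hx 1
    rw [one_smul] at this
    exact smul_left_injective K (fun e => hx0 (g.map_eq_zero_iff.1 e))
      (show θ x 1 • g x = (1 : K) • g x by rw [one_smul]; exact this)
  have hperp : ∀ a b : V, β a a = 0 → β b b = 0 → β a b = 0 → a ≠ 0 → b ∉ K ∙ a →
      ∀ k, θ a k = θ b k := by
    intro a b ha hb hab ha0 hba k
    have hs : β (a + b) (a + b) = 0 := by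
      simp only [map_add, LinearMap.add_apply, ha, hb, O.symm b a, hab, add_zero]
    have h := hθ _ hs k
    rw [smul_add, map_add, map_add, smul_add, ← hθ a ha, ← hθ b hb, ← sub_eq_zero] at h
    have h' : (θ (a + b) k - θ a k) • g a + (θ (a + b) k - θ b k) • g b = 0 := by
      rw [← h]; module
    obtain ⟨h1, h2⟩ := hind ha hb ha0 hba h'
    linear_combination h2 - h1
  -- on a hyperbolic pair
  have hopp : ∀ a b : V, β a a = 0 → β b b = 0 → β a b ≠ 0 → ∀ k, θ a k = θ b k := by
    intro a b ha hb hab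
    obtain ⟨v, h1, h2, h3⟩ := exists_aniso O ha hb hab
    have ha0 : a ≠ 0 := fun e => hab (by rw [e, map_zero, LinearMap.zero_apply])
    have hb0 : b ≠ 0 := fun e => hab (by rw [e, map_zero])
    have hba : b ∉ K ∙ a := fun e => by
      obtain ⟨c, rfl⟩ := Submodule.mem_span_singleton.1 e
      exact hab (by rw [map_smul, ha, smul_zero])
    have key : ∀ t : K, t ≠ 0 → ∀ k,
        θ a k * θ b (-(t * t * β v v) / (2 * β a b)) = θ b (k * (-(t * t * β v v) / (2 * β a b))) := by
      intro t ht k
      set s := -(t * t * β v v) / (2 * β a b) with hs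
      have hx : β (a + t • v + s • b) (a + t • v + s • b) = 0 := sing_triple O ha hb hab h1 h2 t
      have hy : β (a + (-t) • v + s • b) (a + (-t) • v + s • b) = 0 := by
        have := sing_triple O ha hb hab h1 h2 (-t)
        rwa [neg_mul_neg, ← hs] at this
      set x := a + t • v + s • b with hxdef
      set y := a + (-t) • v + s • b with hydef
      clear_value x y
      have hsum : ∀ c : K, c • x + c • y = (2 * c) • a + (2 * (c * s)) • b := fun c => by
        rw [hxdef, hydef]; module
      have e1 := congrArg g (hsum k)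
      have e2 : g ((1 : K) • x + (1 : K) • y) = g ((2 * 1 : K) • a + (2 * (1 * s) : K) • b) :=
        congrArg g (hsum 1)
      rw [map_add, map_add, ← hθ x hx, ← hθ y hy, ← hθ a ha, ← hθ b hb] at e1
      rw [mul_one, one_mul, one_smul, one_smul, map_add, map_add, ← hθ a ha, ← hθ b hb] at e2
      -- the images of the two lines of `x` and `y` are independent
      have hxy : y ∉ K ∙ x := fun e => by
        obtain ⟨c, hc⟩ := Submodule.mem_span_singleton.1 e
        have e3 := congrArg (β b) hc
        have e4 := congrArg (β v) hc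
        simp only [hxdef, hydef, map_add, map_smul, smul_eq_mul, O.symm v a, h1, O.symm v b, h2, hb,
          mul_zero, add_zero, zero_add] at e3 e4
        have hc1 : c = 1 := mul_right_cancel₀ (b := β b a) (by rwa [O.symm] at hab)
          (by rw [e3, one_mul])
        rw [hc1, one_mul] at e4
        have : (2 : K) * (t * β v v) = 0 := by linear_combination e4
        exact mul_ne_zero hK (mul_ne_zero ht h3) this
      have hx0 : x ≠ 0 := fun e => hab (by
        have := congrArg (β b) e
        rw [map_zero] at this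
        simp only [hxdef, map_add, map_smul, h2, hb, smul_zero, add_zero] at this
        rw [O.symm, this])
      have hy0 : y ≠ 0 := fun e => hxy (e ▸ zero_mem _)
      have hga : g a ≠ 0 := fun e => ha0 (g.map_eq_zero_iff.1 e)
      have h2a : θ a (2 * k) = 2 * θ a k := smul_left_injective K hga (by
        show θ a (2 * k) • g a = (2 * θ a k) • g a
        rw [hθ a ha, mul_smul, mul_smul, hθ a ha, two_smul, two_smul, map_add])
      have h2b : ∀ c, θ b (2 * c) = 2 * θ b c := fun c =>
        smul_left_injective K (fun e => hb0 (g.map_eq_zero_iff.1 e)) (by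
          show θ b (2 * c) • g b = (2 * θ b c) • g b
          rw [hθ b hb, mul_smul, mul_smul, hθ b hb, two_smul, two_smul, map_add])
      have h2one : θ a 2 = 2 := smul_left_injective K hga (by
        show θ a 2 • g a = (2 : K) • g a
        rw [hθ a ha, two_smul, two_smul, map_add])
      rw [h2a, h2b] at e1
      rw [h2one, h2b] at e2
      have h5 : θ x k • g x + θ y k • g y = θ a k • (g x + g y) +
          (2 * (θ b (k * s) - θ a k * θ b s)) • g b := by
        rw [e1, e2]; module
      -- compare with the independence of the lines of `a` and `b`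
      by_contra hne
      set D := 2 * (θ b (k * s) - θ a k * θ b s) with hD
      have hD0 : D ≠ 0 := mul_ne_zero hK (sub_ne_zero.2 (Ne.symm hne))
      obtain ⟨c, hc⟩ : ∃ c : K, g (c • b) = D • g b := by
        haveI := finite_K O
        obtain ⟨c, hc⟩ := Finite.surjective_of_injective (f := θ b) (fun c d hcd =>
          smul_left_injective K hb0 (g.injective (by
            show g (c • b) = g (d • b)
            rw [← hθ b hb, ← hθ b hb, hcd]))) D
        exact ⟨c, by rw [← hθ b hb, hc]⟩
      haveI := finite_K O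
      have hsur : ∀ z : V, β z z = 0 → z ≠ 0 → ∀ A : K, ∃ c : K, g (c • z) = A • g z :=
        fun z hz hz0 A => by
        obtain ⟨c, hc⟩ := Finite.surjective_of_injective (f := θ z) (fun c d hcd =>
          smul_left_injective K hz0 (g.injective (by
            show g (c • z) = g (d • z)
            rw [← hθ z hz, ← hθ z hz, hcd]))) A
        exact ⟨c, by rw [← hθ z hz, hc]⟩
      obtain ⟨p, hp⟩ := hsur x hx hx0 (θ x k - θ a k)
      obtain ⟨p', hp'⟩ := hsur y hy hy0 (θ y k - θ a k)
      have h6 : p • x + p' • y = c • b := g.injective (by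
        rw [map_add, hp, hp', hc]
        linear_combination (norm := module) h5)
      have e3 := congrArg (β b) h6
      have e4 := congrArg (β v) h6
      simp only [hxdef, hydef, map_add, map_smul, smul_eq_mul, O.symm v a, h1, O.symm v b, h2, hb,
        mul_zero, add_zero, zero_add] at e3 e4
      have hpp : p + p' = 0 := by
        have : (p + p') * β b a = 0 := by linear_combination e3
        exact (mul_eq_zero.1 this).resolve_right (by rwa [O.symm])
      have hp0 : p = 0 := by
        have : (p - p') * (t * β v v) = 0 := by linear_combination e4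
        have h7 := (mul_eq_zero.1 this).resolve_right (mul_ne_zero ht h3)
        exact (mul_eq_zero.1 (show (2 : K) * p = 0 by linear_combination h7 + hpp)).resolve_left hK
      rw [hp0, zero_add] at hpp
      rw [hp0, hpp, zero_smul, zero_smul, add_zero, eq_comm, smul_eq_zero] at h6
      rw [h6.resolve_right hb0, zero_smul, map_zero, eq_comm, smul_eq_zero] at hc
      exact hD0 (hc.resolve_right fun e => hb0 (g.map_eq_zero_iff.1 e))
    -- the map on the first line is multiplicative
    set S := -(β v v) / (2 * β a b) with hS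
    have hS0 : S ≠ 0 := div_ne_zero (neg_ne_zero.2 h3) (mul_ne_zero hK hab)
    have key1 : ∀ k, θ b (k * S) = θ a k * θ b S := fun k => by
      have := key 1 one_ne_zero k
      rw [one_mul, one_mul, ← hS] at this
      exact this.symm
    have hgb : θ b S ≠ 0 := fun e => hb0 (by
      have := hθ b hb S
      rw [e, zero_smul, eq_comm, g.map_eq_zero_iff, smul_eq_zero] at this
      exact this.resolve_left hS0)
    have hmul : ∀ k t : K, θ a (k * (t * t)) = θ a k * θ a (t * t) := fun k t => by
      rcases eq_or_ne t 0 with rfl | ht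
      · have h0 : θ a 0 = 0 := by
          have := hθ a ha 0
          rw [zero_smul, map_zero, smul_eq_zero] at this
          exact this.resolve_right fun e => ha0 (g.map_eq_zero_iff.1 e)
        rw [mul_zero, mul_zero, h0, mul_zero]
      have := key t ht k
      rw [show -(t * t * β v v) / (2 * β a b) = t * t * S by rw [hS]; ring, key1,
        ← mul_assoc k, key1] at this
      exact (mul_right_cancel₀ hgb (by rw [← this]; ring)).symm
    have hadd : ∀ c d : K, θ a (c + d) = θ a c + θ a d := fun c d =>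
      smul_left_injective K (fun e => ha0 (g.map_eq_zero_iff.1 e)) (by
        show θ a (c + d) • g a = (θ a c + θ a d) • g a
        rw [hθ a ha, add_smul, add_smul, hθ a ha, hθ a ha, map_add])
    have hmul' : ∀ k l : K, θ a (k * l) = θ a k * θ a l := fun k l => sub_eq_zero.1
      (zero_of_squares hK (AddMonoidHom.mk' (fun l => θ a (k * l) - θ a k * θ a l) fun c d => by
        rw [mul_add, hadd, hadd]; ring) (fun t => sub_eq_zero.2 (hmul k t)) l)
    intro l
    have e1 := key1 (l / S)
    rw [div_mul_cancel₀ l hS0] at e1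
    have e2 := key1 (1 / S)
    rw [div_mul_cancel₀ 1 hS0, hθ1 b hb hb0] at e2
    rw [e1, div_eq_mul_one_div, hmul', mul_assoc, ← e2, mul_one]
  have hall : ∀ a b : V, β a a = 0 → β b b = 0 → a ≠ 0 → b ≠ 0 → ∀ k, θ a k = θ b k := by
    intro a b ha hb ha0 hb0 k
    obtain ⟨x, hx, h1, h2⟩ := exists_away O ha0 hb0 ha hb
    rw [← hopp x a hx ha h1, hopp x b hx hb h2]
  obtain ⟨e₀, he₀0, he₀⟩ := exists_sing O
  have hsing : ∀ x : V, β x x = 0 → ∀ k : K, g (k • x) = θ e₀ k • g x := fun x hx k => by
    rcases eq_or_ne x 0 with rfl | hx0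
    · simp
    rw [hall e₀ x he₀ hx he₀0 hx0, hθ x hx]
  -- every vector is a combination of singular ones
  refine hkv (Submodule.mem_span_singleton.2 ⟨θ e₀ k₀, ?_⟩)
  obtain ⟨e', he', hee'⟩ := exists_opp O he₀0 he₀
  obtain ⟨c, hc⟩ : ∃ c : K, c = β e₀ v₀ := ⟨_, rfl⟩
  obtain ⟨w, hw⟩ : ∃ w, w = v₀ - (c - 1) • e' := ⟨_, rfl⟩
  obtain ⟨d, hd, -⟩ := sing_shift O he₀ (y := w) (by
    rw [hw, map_sub, map_smul, hee', smul_eq_mul, mul_one, ← hc]; ring)
  have hv : v₀ = (w + d • e₀) + (c - 1) • e' + (-d) • e₀ := by rw [hw]; module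
  generalize hu : w + d • e₀ = u at hd hv
  generalize hu' : (c - 1) • e' = u' at hv
  generalize hu'' : (-d) • e₀ = u'' at hv
  have h1 : β u' u' = 0 := by rw [← hu']; simp [he']
  have h2 : β u'' u'' = 0 := by rw [← hu'']; simp [he₀]
  rw [hv, smul_add k₀, smul_add k₀, map_add g, map_add g, map_add g, map_add g,
    hsing u hd, hsing u' h1, hsing u'' h2, smul_add, smul_add]

end

end CfsgLib.MaxSub.ExtOrthMax
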