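/-
Two members meeting in a hyperplane and perpendicular to each other.
-/
import Cfsg.Agent.Lib.MaxSub.ExtOrthMax.Basic
import Mathlib.FieldTheory.ChevalleyWarning

set_option autoImplicit false
set_option maxHeartbeats 400000
set_option linter.unusedSectionVars false

namespace CfsgLib.MaxSub.ExtOrthMax

open Module
open CfsgLib.MaxSub.ExtLin (Lin mem_lin_iff finrank_lin finrank_restrict)
open CfsgLib.MaxSub.ExtSymp (eq_zero_of_trace)

/-- A common zero of a few quadratic functions. -/
theorem exists_zero {F A : Type*} [Field F] [Fintype F] [AddCommGroup A] [Module F A]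
    [FiniteDimensional F A] {m : ℕ} (h : 2 * m < finrank F A) (B : Fin m → A →ₗ[F] A →ₗ[F] F)
    (l : Fin m → A →ₗ[F] F) : ∃ a : A, a ≠ 0 ∧ ∀ i, B i a a + l i a = 0 := by
  classical
  let b := Module.finBasis F A
  let P : Fin m → MvPolynomial (Fin (finrank F A)) F := fun i =>
    (∑ j, ∑ k, MvPolynomial.C (B i (b j) (b k)) * MvPolynomial.X j * MvPolynomial.X k) +
      ∑ j, MvPolynomial.C (l i (b j)) * MvPolynomial.X j
  have hdeg : ∀ i, (P i).totalDegree ≤ 2 := fun i => by
    refine (MvPolynomial.totalDegree_add _ _).trans (max_le ?_ ?_)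
    · refine MvPolynomial.totalDegree_finsetSum_le fun j _ =>
        MvPolynomial.totalDegree_finsetSum_le fun k _ => ?_
      refine (MvPolynomial.totalDegree_mul _ _).trans ?_
      rw [MvPolynomial.totalDegree_X]
      have := MvPolynomial.totalDegree_mul
        (MvPolynomial.C (B i (b j) (b k)) : MvPolynomial (Fin (finrank F A)) F) (MvPolynomial.X j)
      rw [MvPolynomial.totalDegree_C, MvPolynomial.totalDegree_X] at this
      omega
    · refine MvPolynomial.totalDegree_finsetSum_le fun j _ => ?_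
      have := MvPolynomial.totalDegree_mul
        (MvPolynomial.C (l i (b j)) : MvPolynomial (Fin (finrank F A)) F) (MvPolynomial.X j)
      rw [MvPolynomial.totalDegree_C, MvPolynomial.totalDegree_X] at this
      omega
  have heval : ∀ i (c : Fin (finrank F A) → F), MvPolynomial.eval c (P i) =
      B i (∑ j, c j • b j) (∑ j, c j • b j) + l i (∑ j, c j • b j) := by
    intro i c
    simp only [P, map_add, map_sum, map_mul, MvPolynomial.eval_C, MvPolynomial.eval_X,
      LinearMap.sum_apply, map_smul, LinearMap.smul_apply, smul_eq_mul, Finset.mul_sum]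
    congr 1
    · rw [Finset.sum_comm]
      exact Finset.sum_congr rfl fun j _ => Finset.sum_congr rfl fun k _ => by ring
    · exact Finset.sum_congr rfl fun j _ => by ring
  have hdvd := char_dvd_card_solutions_of_sum_lt (ringChar F) (s := Finset.univ) (f := P) (by
    refine lt_of_le_of_lt (Finset.sum_le_card_nsmul _ _ 2 fun i _ => hdeg i) ?_
    rw [Finset.card_univ, Fintype.card_fin, Fintype.card_fin, smul_eq_mul]; omega)
  have h0 : ∀ i ∈ (Finset.univ : Finset (Fin m)), MvPolynomial.eval (0 : Fin (finrank F A) → F) (P i) = 0 :=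
    fun i _ => by rw [heval]; simp
  obtain ⟨x, hx⟩ : ∃ x : {c : Fin (finrank F A) → F //
      ∀ i ∈ (Finset.univ : Finset (Fin m)), MvPolynomial.eval c (P i) = 0}, x ≠ ⟨0, h0⟩ := by
    have h1 : 0 < Fintype.card {c : Fin (finrank F A) → F //
        ∀ i ∈ (Finset.univ : Finset (Fin m)), MvPolynomial.eval c (P i) = 0} :=
      Fintype.card_pos_iff.2 ⟨⟨0, h0⟩⟩
    have h2 := Nat.le_of_dvd h1 (by convert hdvd)
    have h3 := (CharP.char_is_prime F (ringChar F)).two_le
    have : 1 < Fintype.card {c : Fin (finrank F A) → F //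
        ∀ i ∈ (Finset.univ : Finset (Fin m)), MvPolynomial.eval c (P i) = 0} := by omega
    exact Fintype.exists_ne_of_one_lt_card this _
  refine ⟨b.equivFun.symm x.1, fun h' => hx (Subtype.ext ?_), fun i => ?_⟩
  · exact b.equivFun.symm.injective (h'.trans (map_zero _).symm)
  · rw [Basis.equivFun_symm_apply, ← heval]
    exact x.2 i (Finset.mem_univ i)

variable {F K V : Type*} [Field F] [Fintype F] [Field K] [Algebra F K] [FiniteDimensional F K]
  [AddCommGroup V] [Module F V] [Module K V] [IsScalarTower F K V] [FiniteDimensional F V]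
  {f : V →ₗ[F] V →ₗ[F] F} {β : V →ₗ[K] V →ₗ[K] K} {G : Subgroup (V ≃ₗ[F] V)}

/-- A member meeting a singular line, of given dimension of intersection. -/
structure Meet (F : Type*) {K V : Type*} [Field F] [Field K] [Algebra F K] [AddCommGroup V]
    [Module F V] [Module K V] [IsScalarTower F K V] (β : V →ₗ[K] V →ₗ[K] K)
    (G : Subgroup (V ≃ₗ[F] V)) (M : Submodule F V) (e : V) : Prop where
  mem : IsMem β G M
  ne0 : e ≠ 0
  sing : β e e = 0
  ne : M ≠ Lin F K e

section

variable (O : OX f β G)
include O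

theorem eq_of_le_mem {M N : Submodule F V} (hM : IsMem β G M) (hN : IsMem β G N) (h : M ≤ N) :
    M = N :=
  Submodule.eq_of_le_of_finrank_eq h (by rw [mem_finrank O hM, mem_finrank O hN])

theorem map_fix {M : Submodule F V} {g : V ≃ₗ[F] V} {x : V} (hx : x ∈ M) (h : g x = x) :
    x ∈ M.map g.toLinearMap := ⟨x, hx, h⟩

theorem finrank_perp₂ (hd : 4 ≤ finrank K V) (x y : V) :
    2 * finrank F K ≤ finrank F ((perp₂ β x y).restrictScalars F) := by
  rw [finrank_restrict, mul_comm 2]
  refine Nat.mul_le_mul_left _ ?_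
  have := perp₂_rank O x y
  omega

/-- Two different members meet. -/
theorem exists_meet_four (hd : 4 ≤ finrank K V) :
    ∃ M e, Meet F β G M e ∧ M ⊓ Lin F K e ≠ ⊥ := by
  haveI := finite_VK O
  obtain ⟨M, hM, hnl⟩ := exists_nonline O
  have hpos : 0 < finrank F M := by rw [mem_finrank O hM]; exact O.prime.pos
  haveI : Nontrivial M := Module.nontrivial_of_finrank_pos hpos
  obtain ⟨⟨z, hzM⟩, hz⟩ := exists_ne (0 : M)
  have hz0 : z ≠ 0 := fun h => hz (Subtype.ext h)
  have hsub : ∀ v : V, v ≠ 0 → ¬ M ≤ Lin F K v := fun v hv hle =>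
    hnl v (Submodule.eq_of_le_of_finrank_eq hle (by rw [mem_finrank O hM, finrank_lin hv]))
  obtain ⟨w, hw, hwz⟩ := SetLike.not_le_iff_exists.1 (hsub z hz0)
  have hwz' : w ∉ K ∙ z := hwz
  have hstep : ∃ g ∈ G, g z = z ∧ M.map g.toLinearMap ≠ M := by
    by_contra hc
    push Not at hc
    have hst : ∀ e a : V, β e e = 0 → β e z = 0 → β e a = 0 → β a z = 0 →
        β e w • a - (β a w + β a a / 2 * β e w) • e ∈ M := fun e a he hez hea haz => by
      obtain ⟨g, hg, hgy⟩ := O.eich e a he hea
      have hgz : g z = z := by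
        simp [hgy, hez, haz]
      have h : g w ∈ M := by
        have : g w ∈ M.map g.toLinearMap := ⟨w, hw, rfl⟩
        rwa [hc g hg hgz] at this
      have h' := M.sub_mem h hw
      rw [hgy] at h'
      convert h' using 1
      abel
    by_cases hcase : ∃ e, β e e = 0 ∧ β e z = 0 ∧ β e w ≠ 0
    · obtain ⟨e, he, hez, hew⟩ := hcase
      have he0 : e ≠ 0 := fun h => hew (by rw [h, map_zero, LinearMap.zero_apply])
      have hle : (perp₂ β e z).restrictScalars F ≤ M ⊔ Lin F K e := by
        intro a ha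
        obtain ⟨ha1, ha2⟩ := ha
        have h1 := hst e ((β e w)⁻¹ • a) he hez
          (by rw [map_smul, LinearMap.mem_ker.1 ha1, smul_zero])
          (by rw [O.symm, map_smul, LinearMap.mem_ker.1 ha2, smul_zero])
        rw [smul_smul, mul_inv_cancel₀ hew, one_smul] at h1
        exact Submodule.mem_sup.2 ⟨_, h1, _, mem_lin_iff.2 ⟨_, rfl⟩, sub_add_cancel a _⟩
      have h1 := finrank_perp₂ O hd e z
      have h2 := Submodule.finrank_add_le_finrank_add_finrank M (Lin F K e)
      rw [mem_finrank O hM, finrank_lin he0] at h2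
      have heq := Submodule.eq_of_le_of_finrank_le hle (by omega)
      have : w ∈ (perp₂ β e z).restrictScalars F := by
        rw [heq]; exact Submodule.mem_sup_left hw
      exact hew (LinearMap.mem_ker.1 this.1)
    push Not at hcase
    have hout : ∀ e, β e e = 0 → β z e = 0 → e ∈ K ∙ z := by
      intro e he hze
      by_contra hez
      refine hwz' ?_
      have hew := hcase e he (by rw [O.symm]; exact hze)
      by_contra hw'
      obtain ⟨a, ha, haw⟩ := exists_sep_one O hw' 1
      obtain ⟨a₀, ha₀, ha₀e⟩ := exists_sep_one O hez 1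
      have hkey : ∀ a, β z a = 0 → β e a ≠ 0 → β a w = 0 := fun a h1 h2 => by
        have hK := two_K O
        have h3 := hcase (a + (-(β a a) / (2 * β e a)) • e)
          (by simp only [map_add, map_smul, LinearMap.add_apply, LinearMap.smul_apply, he,
                O.symm a e, smul_eq_mul, mul_zero, add_zero]
              field_simp
              ring)
          (by rw [O.symm, map_add, map_smul, h1, hze, smul_zero, add_zero])
        rwa [map_add, LinearMap.add_apply, map_smul, LinearMap.smul_apply, hew, smul_zero,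
          add_zero] at h3
      rcases eq_or_ne (β e a) 0 with h | h
      · have h1 := hkey (a + a₀) (by rw [map_add, ha, ha₀, add_zero])
          (by rw [map_add, h, zero_add, O.symm, ha₀e]; exact one_ne_zero)
        have h2 := hkey a₀ ha₀ (by rw [O.symm, ha₀e]; exact one_ne_zero)
        rw [map_add, LinearMap.add_apply, haw, h2, add_zero] at h1
        exact one_ne_zero h1
      · exact one_ne_zero (haw.symm.trans (hkey a ha h))
    obtain ⟨e, heP, he0, he⟩ := exists_sing_in O (P := LinearMap.ker (β z)) (by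
      have h1 := LinearMap.finrank_range_add_finrank_ker (β z)
      have h2 := Submodule.finrank_le (LinearMap.range (β z))
      rw [Module.finrank_self] at h2
      omega)
    obtain ⟨c, hc'⟩ := Submodule.mem_span_singleton.1 (hout e he heP)
    have hc0 : c ≠ 0 := fun h => he0 (by rw [← hc', h, zero_smul])
    have hzz : β z z = 0 := by
      rw [← hc'] at he
      simpa [hc0] using he
    have hzw : β z w = 0 := hcase z hzz hzz
    refine hnl z (Submodule.eq_of_le_of_finrank_eq (fun y hy => ?_) ?_).symm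
    · obtain ⟨k, rfl⟩ := mem_lin_iff.1 hy
      obtain ⟨a, ha, haw⟩ := exists_sep_one O hwz' (-k)
      have h1 := hst z a hzz hzz ha (by rw [O.symm]; exact ha)
      rw [hzw, haw, zero_smul, mul_zero, add_zero, zero_sub, neg_smul, neg_neg] at h1
      exact h1
    · rw [mem_finrank O hM, finrank_lin hz0]
  obtain ⟨g, hg, hgz, hne⟩ := hstep
  obtain ⟨e, he0, he⟩ := exists_sing O
  obtain ⟨t, ht, htM, htN⟩ := pairs_of_members O (mem_map O hM hg) hM he0 he
  refine ⟨(M.map g.toLinearMap).map t.toLinearMap, e, ⟨htM, he0, he, fun h => ?_⟩, fun h => ?_⟩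
  · rw [← htN] at h
    exact hne (Submodule.map_injective_of_injective (f := t.toLinearMap) t.injective h)
  · have h1 : t z ∈ (M.map g.toLinearMap).map t.toLinearMap ⊓ Lin F K e :=
      ⟨⟨z, map_fix O hzM hgz, rfl⟩, htN ▸ ⟨z, hzM, rfl⟩⟩
    rw [h, Submodule.mem_bot, t.map_eq_zero_iff] at h1
    exact hz0 h1

/-- From two different members, a member and a line. -/
theorem meet_of_members {M N : Submodule F V} (hM : IsMem β G M) (hN : IsMem β G N) (hne : M ≠ N) :
    ∃ M' e, Meet F β G M' e ∧ ∃ g ∈ G, M' = M.map g.toLinearMap ∧ Lin F K e = N.map g.toLinearMap := by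
  obtain ⟨e, he0, he⟩ := exists_sing O
  obtain ⟨t, ht, htM, htN⟩ := pairs_of_members O hM hN he0 he
  refine ⟨_, e, ⟨htM, he0, he, fun h => ?_⟩, t, ht, rfl, htN.symm⟩
  rw [← htN] at h
  exact hne (Submodule.map_injective_of_injective (f := t.toLinearMap) t.injective h)

theorem meet_lt {M : Submodule F V} {e : V} (P : Meet F β G M e) :
    finrank F ↥(M ⊓ Lin F K e) < finrank F K := by
  refine lt_of_le_of_ne ((Submodule.finrank_mono inf_le_left).trans (mem_finrank O P.mem).le) fun h => ?_
  refine P.ne (eq_of_le_mem O P.mem (mem_of_lin O P.ne0 P.sing) ?_)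
  rw [← Submodule.eq_of_le_of_finrank_eq (inf_le_left : M ⊓ Lin F K e ≤ M)
    (by rw [h, mem_finrank O P.mem])]
  exact inf_le_right

/-- The members from a member and its image, with a further common vector. -/
theorem grow_of {M : Submodule F V} (hM : IsMem β G M) {g : V ≃ₗ[F] V} (hg : g ∈ G)
    (hne : M.map g.toLinearMap ≠ M) {U : Submodule F V} (hU : U ≤ M) (hUg : ∀ u ∈ U, g u = u)
    {x : V} (hx : x ∈ M.map g.toLinearMap) (hxM : x ∈ M) (hxU : x ∉ U) :
    ∃ M' e, Meet F β G M' e ∧ finrank F U < finrank F ↥(M' ⊓ Lin F K e) := by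
  obtain ⟨M', e, P, t, ht, rfl, hN⟩ := meet_of_members O (mem_map O hM hg) hM hne
  refine ⟨_, e, P, ?_⟩
  rw [hN, ← Submodule.map_inf t.toLinearMap t.injective, LinearEquiv.finrank_map_eq]
  refine Submodule.finrank_lt_finrank_of_lt (lt_of_le_of_ne
    (le_inf (fun u hu => map_fix O (hU hu) (hUg u hu)) hU) fun h => hxU (h ▸ ⟨hx, hxM⟩))

omit [Fintype F] [FiniteDimensional F K] [FiniteDimensional F V] O in
theorem scalar_self {e : V} {k : K} (U : Submodule F V) :
    k ∈ U.comap ((LinearMap.toSpanSingleton K V e).restrictScalars F) ↔ k • e ∈ U := Iff.rfl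

/-- Three independent vectors detect the zero vector, in dimension three. -/
theorem eq_zero_of_three (hd : finrank K V = 3) {a b c : V}
    (hli : ∀ p q s : K, p • a + q • b + s • c = 0 → p = 0 ∧ q = 0 ∧ s = 0) {y : V}
    (ha : β y a = 0) (hb : β y b = 0) (hc : β y c = 0) : y = 0 := by
  haveI := finite_VK O
  have h : LinearIndependent K ![a, b, c] := Fintype.linearIndependent_iff.2 fun g hg i => by
    obtain ⟨h1, h2, h3⟩ := hli (g 0) (g 1) (g 2) (by simpa [Fin.sum_univ_three] using hg)
    fin_cases i <;> assumption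
  have hspan := h.span_eq_top_of_card_eq_finrank (by rw [Fintype.card_fin, hd])
  refine O.nd y fun t => ?_
  have ht : t ∈ Submodule.span K (Set.range ![a, b, c]) := hspan ▸ Submodule.mem_top
  obtain ⟨g, rfl⟩ := (Submodule.mem_span_range_iff_exists_fun K).1 ht
  simp [Fin.sum_univ_three, ha, hb, hc]

/-- A singular vector perpendicular to another one lies in its line, in dimension three. -/
theorem perp_sing (hd : finrank K V = 3) {e y : V} (he0 : e ≠ 0) (he : β e e = 0)
    (hey : β e y = 0) (hy : β y y = 0) : y ∈ K ∙ e := by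
  haveI := finite_VK O
  by_contra hye
  obtain ⟨a, ha, hae⟩ := exists_sep O hye 1
  obtain ⟨b, hb⟩ := exists_partner O he0
  have hy'0 : y - β b y • e = 0 := eq_zero_of_three O hd (a := e) (b := y) (c := b)
    (fun x₀ x₁ x₂ h => by
      have h1 := congrArg (β e) h
      simp only [map_add, map_smul, map_zero, he, hey, hb, smul_eq_mul, mul_zero, mul_one, zero_add] at h1
      subst h1
      rw [zero_smul, add_zero] at h
      have h2 := congrArg (β a) h
      simp only [map_add, map_smul, map_zero, ha e (Submodule.mem_span_singleton_self e), hae,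
        smul_eq_mul, mul_zero, mul_one, zero_add] at h2
      subst h2
      rw [zero_smul, add_zero, smul_eq_zero] at h
      exact ⟨h.resolve_right he0, rfl, rfl⟩)
    (by simp [he, O.symm y e, hey])
    (by simp [hey, hy])
    (by simp [hb, O.symm y b])
  exact hye (Submodule.mem_span_singleton.2 ⟨β b y, (sub_eq_zero.1 hy'0).symm⟩)

/-- A further perpendicular vector, in dimension three. -/
theorem bigger_three (hd : finrank K V = 3) (hr5 : 5 ≤ finrank F K) {M : Submodule F V} {e : V} (P : Meet F β G M e)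
    (hU : M ⊓ Lin F K e ≠ ⊥) {z w : V} (hz : z ∈ M) (hzN : z ∉ Lin F K e) (hez : β e z = 0)
    (hw : w ∈ M) (hew : β e w ≠ 0) :
    ∃ M' e', Meet F β G M' e' ∧ finrank F ↥(M ⊓ Lin F K e) < finrank F ↥(M' ⊓ Lin F K e') := by
  haveI := finite_VK O
  by_contra hc
  set U := M ⊓ Lin F K e with hUdef
  have hK := two_K O
  have hcz : β z z ≠ 0 := fun h => hzN (perp_sing O hd P.ne0 P.sing hez h)
  set c := β z z with hcdef
  set W := U.comap ((LinearMap.toSpanSingleton K V e).restrictScalars F) with hW
  have mem_W : ∀ k : K, k ∈ W ↔ k • e ∈ U := fun k => Iff.rfl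
  have hea : ∀ k : K, β e ((k / c) • z) = 0 := fun k => by rw [map_smul, hez, smul_zero]
  -- the stabilising elements
  have stab : ∀ k ∈ W, ∀ y ∈ M,
      y + β e y • (k / c) • z - (k / c * β z y + k / c * k / 2 * β e y) • e ∈ M := by
    intro k hk y hy
    obtain ⟨g, hg, hgy⟩ := O.eich e ((k / c) • z) P.sing (hea k)
    have hg' : ∀ y, g y = y + β e y • (k / c) • z - (k / c * β z y + k / c * k / 2 * β e y) • e := by
      intro y
      rw [hgy]
      simp only [map_smul, LinearMap.smul_apply, smul_eq_mul, ← hcdef]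
      congr 2
      field_simp
    have hgM : M.map g.toLinearMap = M := by
      by_contra hne
      refine hc (grow_of O P.mem hg hne inf_le_left (fun u hu => ?_) (x := g z) ⟨z, hz, rfl⟩ ?_ ?_)
      · obtain ⟨l, rfl⟩ := mem_lin_iff.1 hu.2
        simp [hg', P.sing, O.symm z e, hez]
      · rw [hg', hez, zero_smul, add_zero, mul_zero, add_zero, ← hcdef, div_mul_cancel₀ _ hcz]
        exact M.sub_mem hz ((mem_W k).1 hk).1
      · rw [hg', hez, zero_smul, add_zero, mul_zero, add_zero, ← hcdef, div_mul_cancel₀ _ hcz]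
        exact fun h => hzN (by simpa using (Lin F K e).add_mem h.2 ((mem_W k).1 hk).2)
    have : g y ∈ M.map g.toLinearMap := ⟨y, hy, rfl⟩
    rwa [hgM, hg'] at this
  obtain ⟨u, hu, hu0⟩ := (Submodule.ne_bot_iff _).1 hU
  obtain ⟨k₀, rfl⟩ := mem_lin_iff.1 hu.2
  have hk₀0 : k₀ ≠ 0 := fun h => hu0 (by rw [h, zero_smul])
  have hk₀ : k₀ ∈ W := hu
  have hWtop : W ≠ ⊤ := fun h => P.ne (eq_of_le_mem O (mem_of_lin O P.ne0 P.sing) P.mem fun y hy => by
    obtain ⟨k, rfl⟩ := mem_lin_iff.1 hy
    exact ((mem_W k).1 (h ▸ Submodule.mem_top)).1).symm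
  -- the vectors of the member perpendicular to the line
  have hsub : ∀ z' ∈ M, β e z' = 0 → ∃ x : F, z' - x • z ∈ U := by
    intro z' hz' hez'
    let S : Subalgebra F K :=
      { carrier := {s | ∀ k ∈ W, s * k ∈ W}
        mul_mem' := fun {a b} ha hb k hk => by rw [mul_assoc]; exact ha _ (hb k hk)
        add_mem' := fun {a b} ha hb k hk => by rw [add_mul]; exact W.add_mem (ha k hk) (hb k hk)
        algebraMap_mem' := fun x k hk => by rw [← Algebra.smul_def]; exact W.smul_mem x hk }
    have hζ : β z z' / c ∈ S := fun k hk => by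
      refine (mem_W _).2 ⟨?_, mem_lin_iff.2 ⟨_, rfl⟩⟩
      have h := M.sub_mem hz' (stab k hk z' hz')
      rw [hez', zero_smul, add_zero, mul_zero, add_zero, sub_sub_cancel] at h
      rwa [show β z z' / c * k = k / c * β z z' by ring]
    haveI := Subalgebra.isSimpleOrder_of_finrank_prime F K O.prime
    rcases eq_bot_or_eq_top S with h | h
    · rw [h, Algebra.mem_bot] at hζ
      obtain ⟨x, hx⟩ := hζ
      refine ⟨x, M.sub_mem hz' (M.smul_mem x hz), ?_⟩
      have hx' : β z z' = algebraMap F K x * c := by rw [hx, div_mul_cancel₀ _ hcz]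
      obtain ⟨l, hl⟩ := Submodule.mem_span_singleton.1 (perp_sing O hd P.ne0 P.sing
        (y := z' - x • z) (by rw [map_sub, ← algebraMap_smul K x z, map_smul, hez, hez', smul_zero, sub_zero])
        (by
          -- it is also perpendicular to `z`
          set y := z' - x • z with hy
          have h1 : β z y = 0 := by
            rw [hy, map_sub, ← algebraMap_smul K x z, map_smul, smul_eq_mul, ← hcdef, hx', sub_self]
          by_contra hyy
          have hey : β e y = 0 := by
            rw [hy, map_sub, ← algebraMap_smul K x z, map_smul, hez, hez', smul_zero, sub_zero]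
          -- a combination is singular
          refine P.ne0 (eq_zero_of_three O hd (a := e) (b := z) (c := y) (fun x₀ x₁ x₂ h => ?_)
            P.sing hez hey)
          have h2 := congrArg (β z) h
          simp only [map_add, map_smul, map_zero, O.symm z e, hez, h1, ← hcdef, smul_eq_mul,
            mul_zero, zero_add, add_zero, mul_eq_zero, hcz, or_false] at h2
          subst h2
          have h3 := congrArg (β y) h
          simp only [map_add, map_smul, map_zero, O.symm y e, hey, O.symm y z, h1, smul_eq_mul,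
            mul_zero, zero_add, mul_eq_zero, hyy, or_false] at h3
          subst h3
          simp only [zero_smul, add_zero, smul_eq_zero, P.ne0, or_false] at h
          exact ⟨h, rfl, rfl⟩))
      exact mem_lin_iff.2 ⟨l, hl⟩
    · exfalso
      refine hWtop (Submodule.eq_top_iff'.2 fun l => ?_)
      have := (h ▸ Algebra.mem_top : l / k₀ ∈ S) k₀ hk₀
      rwa [div_mul_cancel₀ _ hk₀0] at this
  -- products lie in one line over the ground field
  have hprod : ∀ m ∈ M, ∀ k ∈ W, ∃ x : F, β e m * k = algebraMap F K x * c := by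
    intro m hm k hk
    have hd' := M.sub_mem (stab k hk m hm) (stab (-k) (W.neg_mem hk) m hm)
    obtain ⟨x, hx⟩ := hsub _ hd' (by
      simp only [map_sub, map_add, map_smul, hez, P.sing, smul_zero, add_zero, sub_zero, sub_self])
    obtain ⟨l, hl⟩ := mem_lin_iff.1 hx.2
    refine ⟨x / 2, ?_⟩
    have h := congrArg (β z) hl
    simp only [map_sub, map_add, map_smul, O.symm z e, hez, ← algebraMap_smul K x z, ← hcdef,
      smul_eq_mul, mul_zero, sub_zero] at h
    rw [map_div₀, map_ofNat]
    field_simp at h ⊢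
    linear_combination -h
  have hUle : finrank F U ≤ 1 := by
    have hle : U ≤ F ∙ (k₀ • e) := by
      intro y hy
      obtain ⟨k, rfl⟩ := mem_lin_iff.1 hy.2
      obtain ⟨x₁, h1⟩ := hprod w hw k hy
      obtain ⟨x₀, h0⟩ := hprod w hw k₀ hk₀
      have hx₀ : x₀ ≠ 0 := fun h => mul_ne_zero hew hk₀0 (by rw [h0, h, map_zero, zero_mul])
      refine Submodule.mem_span_singleton.2 ⟨x₁ / x₀, ?_⟩
      rw [← smul_assoc]
      congr 1
      rw [Algebra.smul_def, map_div₀]
      have : algebraMap F K x₀ ≠ 0 := (map_ne_zero _).2 hx₀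
      rw [div_mul_eq_mul_div, div_eq_iff this]
      refine mul_left_cancel₀ hew ?_
      linear_combination (algebraMap F K x₁) * h0 - (algebraMap F K x₀) * h1
    exact (Submodule.finrank_mono hle).trans (by
      simpa using finrank_span_le_card ({k₀ • e} : Set V) (R := F))
  have hMle : M ≤ U ⊔ Submodule.span F {z, w} := by
    intro m hm
    obtain ⟨x₁, h1⟩ := hprod m hm k₀ hk₀
    obtain ⟨x₀, h0⟩ := hprod w hw k₀ hk₀
    have hx₀ : algebraMap F K x₀ ≠ 0 := fun h => mul_ne_zero hew hk₀0 (by rw [h0, h, zero_mul])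
    obtain ⟨x, hx⟩ := hsub _ (M.sub_mem hm (M.smul_mem (x₁ / x₀) hw)) (by
      rw [map_sub, ← algebraMap_smul K (x₁ / x₀) w, map_smul, smul_eq_mul, map_div₀, sub_eq_zero,
        div_mul_eq_mul_div, eq_div_iff hx₀]
      refine mul_right_cancel₀ hk₀0 ?_
      linear_combination (algebraMap F K x₀) * h1 - (algebraMap F K x₁) * h0)
    refine Submodule.mem_sup.2 ⟨_, hx, x • z + (x₁ / x₀) • w,
      Submodule.mem_span_pair.2 ⟨x, x₁ / x₀, rfl⟩, by abel⟩
  have h1 := Submodule.finrank_mono hMle
  have h2 := Submodule.finrank_add_le_finrank_add_finrank U (Submodule.span F {z, w})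
  have h3 : finrank F (Submodule.span F ({z, w} : Set V)) ≤ 2 :=
    (show finrank F (Submodule.span F ({z, w} : Set V)) ≤ 2 by
      classical
      have h := finrank_span_finset_le_card (R := F) ({z, w} : Finset V)
      rw [Finset.coe_insert, Finset.coe_singleton] at h
      exact le_trans h Finset.card_le_two)
  rw [mem_finrank O P.mem] at h1
  omega

/-- A further perpendicular vector makes the intersection larger. -/
theorem bigger (h5 : finrank K V = 3 → 5 ≤ finrank F K) {M : Submodule F V} {e : V}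
    (P : Meet F β G M e)
    (hU : M ⊓ Lin F K e ≠ ⊥) (hj : finrank F ↥(M ⊓ Lin F K e) + 2 ≤ finrank F K)
    {z : V} (hz : z ∈ M) (hzN : z ∉ Lin F K e) (hez : β e z = 0) :
    ∃ M' e', Meet F β G M' e' ∧ finrank F ↥(M ⊓ Lin F K e) < finrank F ↥(M' ⊓ Lin F K e') := by
  haveI := finite_VK O
  set U := M ⊓ Lin F K e with hUdef
  have hzU : z ∉ U := fun h => hzN h.2
  have fix : ∀ {a : V} {g : V ≃ₗ[F] V}, β e a = 0 →
      (∀ y, g y = y + β e y • a - (β a y + β a a / 2 * β e y) • e) → ∀ u ∈ U, g u = u := by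
    intro a g ha hgy u hu
    obtain ⟨k, rfl⟩ := mem_lin_iff.1 hu.2
    simp [hgy, P.sing, O.symm a e, ha]
  by_cases hcase : ∃ w ∈ M, β e w ≠ 0
  · obtain ⟨w, hw, hew⟩ := hcase
    by_contra hc
    have hle : (perp₂ β e z).restrictScalars F ≤ M ⊔ Lin F K e := by
      intro a ha
      obtain ⟨ha1, ha2⟩ := ha
      set a' := (β e w)⁻¹ • a with ha'
      have hea' : β e a' = 0 := by rw [ha', map_smul, LinearMap.mem_ker.1 ha1, smul_zero]
      have haz : β a' z = 0 := by rw [O.symm, ha', map_smul, LinearMap.mem_ker.1 ha2, smul_zero]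
      obtain ⟨g, hg, hgy⟩ := O.eich e a' P.sing hea'
      have hgz : g z = z := by
        simp [hgy, hez, haz]
      have hgM : M.map g.toLinearMap = M := by
        by_contra hne
        exact hc (grow_of O P.mem hg hne inf_le_left (fix hea' hgy)
          (map_fix O hz hgz) hz hzU)
      have h1 : g w ∈ M := by
        have : g w ∈ M.map g.toLinearMap := ⟨w, hw, rfl⟩
        rwa [hgM] at this
      rw [hgy, ha', smul_smul, mul_inv_cancel₀ hew, one_smul, ← ha'] at h1
      refine Submodule.mem_sup.2 ⟨_, M.sub_mem h1 hw, _,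
        mem_lin_iff.2 ⟨β a' w + β a' a' / 2 * β e w, rfl⟩, ?_⟩
      abel
    rcases Nat.lt_or_ge (finrank K V) 4 with hd | hd
    · have hd3 : finrank K V = 3 := by have := three_le O; omega
      exact hc (bigger_three O hd3 (h5 hd3) P hU hz hzN hez hw hew)
    have h1 := finrank_perp₂ O hd e z
    have h2 := Submodule.finrank_sup_add_finrank_inf_eq M (Lin F K e)
    rw [mem_finrank O P.mem, finrank_lin P.ne0, ← hUdef] at h2
    have h3 := Submodule.finrank_mono hle
    have h4 : 0 < finrank F U := by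
      rw [Nat.pos_iff_ne_zero]; exact fun h => hU (Submodule.finrank_eq_zero.1 h)
    omega
  push Not at hcase
  by_contra hc
  set W := U.comap ((LinearMap.toSpanSingleton K V e).restrictScalars F) with hW
  have mem_W : ∀ k : K, k ∈ W ↔ k • e ∈ U := fun k => Iff.rfl
  have stab : ∀ a : V, β e a = 0 → β a z • e ∈ U → ∀ w ∈ M, β a w • e ∈ M := by
    intro a ha hk w hw
    obtain ⟨g, hg, hgy⟩ := O.eich e a P.sing ha
    have hgw : ∀ y ∈ M, g y = y - β a y • e := fun y hy => by
      rw [hgy, hcase y hy, zero_smul, mul_zero, add_zero, add_zero]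
    have hgM : M.map g.toLinearMap = M := by
      by_contra hne
      refine hc (grow_of O P.mem hg hne inf_le_left (fix ha hgy) (x := g z) ⟨z, hz, rfl⟩ ?_ ?_)
      · rw [hgw z hz]; exact M.sub_mem hz hk.1
      · rw [hgw z hz]; exact fun h => hzU (by simpa using U.add_mem h hk)
    have h1 : g w ∈ M := by
      have : g w ∈ M.map g.toLinearMap := ⟨w, hw, rfl⟩
      rwa [hgM] at this
    have h2 := M.sub_mem hw h1
    rwa [hgw w hw, sub_sub_cancel] at h2
  have hez' : z ∉ K ∙ e := hzN
  have hWtop : W ≠ ⊤ := fun h => by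
    refine absurd (Submodule.finrank_mono (show Lin F K e ≤ U from fun y hy => ?_)) ?_
    · obtain ⟨k, rfl⟩ := mem_lin_iff.1 hy
      exact (mem_W k).1 (h ▸ Submodule.mem_top)
    · rw [finrank_lin P.ne0]; omega
  have hspan : ∀ w ∈ M, w ∈ Submodule.span K {e, z} := by
    intro w hw
    by_contra hwP
    obtain ⟨k, -, hk⟩ := SetLike.exists_of_lt (lt_top_iff_ne_top.2 hWtop)
    obtain ⟨a, ha, haw⟩ := exists_sep O hwP k
    refine hk ((mem_W k).2 ⟨?_, mem_lin_iff.2 ⟨k, rfl⟩⟩)
    rw [← haw]
    refine stab a (by rw [O.symm]; exact ha e (Submodule.subset_span (by simp))) ?_ w hw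
    rw [ha z (Submodule.subset_span (by simp)), zero_smul]; exact zero_mem _
  have hsub : M ≤ U ⊔ F ∙ z := by
    intro w hw
    obtain ⟨c, t, hct⟩ := Submodule.mem_span_pair.1 (hspan w hw)
    have htW : ∀ k ∈ W, t * k ∈ W := fun k hk => by
      obtain ⟨a, ha, haz⟩ := exists_sep_one O hez' k
      have h1 := stab a ha (by rw [haz]; exact (mem_W k).1 hk) w hw
      rw [← hct, map_add, map_smul, map_smul, O.symm a e, ha, haz, smul_zero, zero_add,
        smul_eq_mul] at h1
      exact (mem_W _).2 ⟨h1, mem_lin_iff.2 ⟨_, rfl⟩⟩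
    let S : Subalgebra F K :=
      { carrier := {s | ∀ k ∈ W, s * k ∈ W}
        mul_mem' := fun {a b} ha hb k hk => by rw [mul_assoc]; exact ha _ (hb k hk)
        add_mem' := fun {a b} ha hb k hk => by rw [add_mul]; exact W.add_mem (ha k hk) (hb k hk)
        algebraMap_mem' := fun c k hk => by rw [← Algebra.smul_def]; exact W.smul_mem c hk }
    haveI := Subalgebra.isSimpleOrder_of_finrank_prime F K O.prime
    rcases eq_bot_or_eq_top S with h | h
    · have ht : t ∈ S := htW
      rw [h, Algebra.mem_bot] at ht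
      obtain ⟨t', rfl⟩ := ht
      rw [algebraMap_smul] at hct
      refine Submodule.mem_sup.2 ⟨c • e, ⟨?_, mem_lin_iff.2 ⟨_, rfl⟩⟩, t' • z,
        Submodule.smul_mem _ _ (Submodule.mem_span_singleton_self z), hct⟩
      have := M.sub_mem hw (M.smul_mem t' hz)
      rwa [← hct, add_sub_cancel_right] at this
    · exfalso
      obtain ⟨u, hu, hu0⟩ := (Submodule.ne_bot_iff _).1 hU
      obtain ⟨k, rfl⟩ := mem_lin_iff.1 hu.2
      have hk0 : k ≠ 0 := fun h => hu0 (by rw [h, zero_smul])
      refine hWtop (Submodule.eq_top_iff'.2 fun l => ?_)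
      have hl : l / k ∈ S := h ▸ Algebra.mem_top
      have := hl k ((mem_W k).2 hu)
      rwa [div_mul_cancel₀ _ hk0] at this
  have h1 := Submodule.finrank_mono hsub
  have h2 := Submodule.finrank_add_le_finrank_add_finrank U (F ∙ z)
  have h3 : finrank F (F ∙ z) ≤ 1 := by
    have := finrank_span_le_card ({z} : Set V) (R := F)
    simpa using this
  rw [mem_finrank O P.mem] at h1
  omega

/-- A conjugate of a member perpendicular to a vector of it. -/
theorem exists_perp_image {M : Submodule F V} {e : V} (P : Meet F β G M e)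
    (hU : M ⊓ Lin F K e ≠ ⊥) (hM0 : ∀ y ∈ M, β e y = 0 → y ∈ Lin F K e)
    (hd : 4 ≤ finrank K V ∨ finrank F K < 2 * finrank F ↥(M ⊓ Lin F K e)) :
    ∃ g ∈ G, M.map g.toLinearMap ≠ M ∧ (∀ u ∈ M ⊓ Lin F K e, g u = u) ∧
      ∃ w ∈ M, w ∉ Lin F K e ∧ ∀ m ∈ M, f (g w) m = 0 := by
  set U := M ⊓ Lin F K e with hUdef
  set N := Lin F K e with hN
  have hUlt : finrank F U < finrank F K := meet_lt O P
  obtain ⟨w, hw, hwU⟩ : ∃ w ∈ M, w ∉ U := by
    by_contra hc
    push Not at hc
    have := Submodule.finrank_mono (show M ≤ U from hc)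
    rw [mem_finrank O P.mem] at this
    omega
  have hwN : w ∉ N := fun h => hwU ⟨hw, h⟩
  have hφ : β e w ≠ 0 := fun h => hwN (hM0 w hw h)
  obtain ⟨C, hC⟩ := Submodule.exists_isCompl (U.comap M.subtype)
  obtain ⟨C', hC'⟩ := Submodule.exists_isCompl
    (N.comap ((LinearMap.ker (β e)).restrictScalars F).subtype)
  have hCdim : finrank F C + finrank F U = finrank F K := by
    have h1 := Submodule.finrank_add_eq_of_isCompl hC
    rw [(Submodule.comapSubtypeEquivOfLe (show U ≤ M from inf_le_left)).finrank_eq, mem_finrank O P.mem] at h1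
    omega
  have hC'dim : finrank F C' + finrank F K + finrank F K ≥ finrank F V := by
    haveI := finite_VK O
    have hle : N ≤ (LinearMap.ker (β e)).restrictScalars F := fun y hy => beta_lin O P.sing hy
    have h1 := Submodule.finrank_add_eq_of_isCompl hC'
    rw [(Submodule.comapSubtypeEquivOfLe hle).finrank_eq, finrank_lin P.ne0, finrank_restrict] at h1
    have h2 := LinearMap.finrank_range_add_finrank_ker (β e)
    have h3 := Submodule.finrank_le (LinearMap.range (β e))
    rw [Module.finrank_self] at h3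
    have h4 := rank_mul O
    have : finrank F K * finrank K V ≤
        finrank F K * finrank K (LinearMap.ker (β e)) + finrank F K := by
      rw [← Nat.mul_succ]; exact Nat.mul_le_mul_left _ (by omega)
    omega
  obtain ⟨b, hb⟩ : ∃ b : Fin (finrank F C) → V, ∀ i, b i = ((Module.finBasis F C i).1 : V) :=
    ⟨fun i => _, fun i => rfl⟩
  let T := Algebra.trace F K
  let ι : C' →ₗ[F] V := ((LinearMap.ker (β e)).restrictScalars F).subtype ∘ₗ C'.subtype
  have hι : ∀ a : C', β e (ι a) = 0 := fun a => a.1.2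
  let Bq : C' →ₗ[F] C' →ₗ[F] K := LinearMap.mk₂ F (fun a a' => β (ι a) (ι a'))
    (fun a a' y => by rw [map_add, map_add, LinearMap.add_apply])
    (fun c a y => by
      rw [map_smul, ← algebraMap_smul K c (ι a), map_smul, LinearMap.smul_apply, smul_eq_mul,
        Algebra.smul_def])
    (fun a y y' => by rw [map_add, map_add])
    (fun c a y => by
      rw [map_smul, ← algebraMap_smul K c (ι y), map_smul, smul_eq_mul, Algebra.smul_def])
  let Bw : C' →ₗ[F] K := ((β w).restrictScalars F).comp ι
  obtain ⟨a, ha0, ha⟩ := exists_zero (A := C') (m := finrank F C) (by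
      have := rank_mul O
      have h4 : 4 ≤ finrank K V → 4 * finrank F K ≤ finrank F V := fun h => by
        rw [rank_mul O, mul_comm 4]; exact Nat.mul_le_mul_left _ h
      have := O.dim
      rcases hd with hd | hd
      · have := h4 hd
        have : 0 < finrank F U := by
          rw [Nat.pos_iff_ne_zero]; exact fun h => hU (Submodule.finrank_eq_zero.1 h)
        omega
      have : 0 < finrank F U := by
        rw [Nat.pos_iff_ne_zero]; exact fun h => hU (Submodule.finrank_eq_zero.1 h)
      omega)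
    (fun i => LinearMap.compr₂ Bq ((T.comp (LinearMap.mulLeft F (-(β e w / 2 * β e (b i)))))))
    (fun i => T.comp ((LinearMap.mulLeft F (β e w)).comp (((β (b i)).restrictScalars F).comp ι)
      - (LinearMap.mulLeft F (β e (b i))).comp Bw))
  obtain ⟨g, hg, hgy⟩ := O.eich e (ι a) P.sing (hι a)
  have haN : ι a ∉ N := fun h => ha0 (by
    have h2 := hC'.disjoint.le_bot (⟨h, a.2⟩ : (a : ((LinearMap.ker (β e)).restrictScalars F)) ∈
      N.comap ((LinearMap.ker (β e)).restrictScalars F).subtype ⊓ C')
    exact Subtype.ext ((Submodule.mem_bot F).1 h2))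
  have hfix : ∀ u ∈ U, g u = u := fun u hu => by
    rw [hgy, beta_lin O P.sing hu.2, zero_smul, mul_zero, add_zero, add_zero]
    obtain ⟨k, rfl⟩ := mem_lin_iff.1 hu.2
    rw [map_smul, O.symm (ι a) e, hι, smul_zero, zero_smul, sub_zero]
  refine ⟨g, hg, fun hgM => ?_, hfix, w, hw, hwN, fun m hm => ?_⟩
  · have h1 : g w ∈ M := by
      have : g w ∈ M.map g.toLinearMap := ⟨w, hw, rfl⟩
      rwa [hgM] at this
    have h2 := M.sub_mem h1 hw
    rw [hgy] at h2
    have h3 : w + β e w • ι a - (β (ι a) w + β (ι a) (ι a) / 2 * β e w) • e - w ∈ N :=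
      hM0 _ h2 (by simp only [map_sub, map_add, map_smul, hι, P.sing, smul_zero, add_zero,
                     sub_zero, sub_self])
    have h4 : β e w • ι a ∈ N := by
      have := N.add_mem h3 (mem_lin_iff.2 ⟨β (ι a) w + β (ι a) (ι a) / 2 * β e w, rfl⟩ :
        (β (ι a) w + β (ι a) (ι a) / 2 * β e w) • e ∈ N)
      convert this using 1
      abel
    obtain ⟨k, hk⟩ := mem_lin_iff.1 h4
    exact haN (mem_lin_iff.2 ⟨k / β e w, by
      rw [div_eq_inv_mul, mul_smul, hk, smul_smul, inv_mul_cancel₀ hφ, one_smul]⟩)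
  · have hUz : ∀ u ∈ U, f (g w) u = 0 := fun u hu => by
      conv_lhs => rw [← hfix u hu]
      rw [O.iso g hg]
      exact mem_ti O P.mem w hw u hu.1
    obtain ⟨⟨u, huM⟩, hu, c, hc, huc⟩ := Submodule.mem_sup.1
      (hC.sup_eq_top ▸ Submodule.mem_top : (⟨m, hm⟩ : M) ∈ U.comap M.subtype ⊔ C)
    have hmuc : m = u + (c : V) := (congrArg Subtype.val huc).symm
    rw [hmuc, map_add, hUz u hu, zero_add]
    have hbi : ∀ i, f (g w) (b i) = 0 := fun i => by
      have h := ha i
      have hwb : T (β w (b i)) = 0 := by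
        rw [← O.tr]
        exact mem_ti O P.mem w hw (b i) (by rw [hb]; exact (Module.finBasis F C i).1.2)
      rw [hgy, O.tr]
      simp only [map_sub, map_add, map_smul, LinearMap.sub_apply, LinearMap.add_apply,
        LinearMap.smul_apply, smul_eq_mul]
      simp only [LinearMap.compr₂_apply, LinearMap.coe_comp, Function.comp_apply, LinearMap.mulLeft_apply,
        LinearMap.sub_apply, LinearMap.restrictScalars_apply, map_sub, Bq, Bw, LinearMap.mk₂_apply,
        O.symm (b i) (ι a), O.symm w (ι a)] at h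
      have e1 : (β (ι a) w + β (ι a) (ι a) / 2 * β e w) * β e (b i) =
          β e (b i) * β (ι a) w - -(β e w / 2 * β e (b i)) * β (ι a) (ι a) := by ring
      rw [e1, map_sub]
      linear_combination h + hwb
    have : (c : V) = ∑ i, (Module.finBasis F C).repr ⟨c, hc⟩ i • b i := by
      simp only [hb]
      have h := congrArg (fun z : C => ((z : M) : V)) ((Module.finBasis F C).sum_repr ⟨c, hc⟩)
      exact h.symm.trans (by simp only [Submodule.coe_sum, Submodule.coe_smul])
    rw [this, map_sum]
    exact Finset.sum_eq_zero fun i _ => by rw [map_smul, hbi, smul_zero]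

/-- A larger intersection. -/
theorem climb {M : Submodule F V} {e : V} (P : Meet F β G M e) (hU : M ⊓ Lin F K e ≠ ⊥)
    (hj : finrank F ↥(M ⊓ Lin F K e) + 2 ≤ finrank F K)
    (hd : 4 ≤ finrank K V ∨ finrank F K < 2 * finrank F ↥(M ⊓ Lin F K e)) :
    ∃ M' e', Meet F β G M' e' ∧ finrank F ↥(M ⊓ Lin F K e) < finrank F ↥(M' ⊓ Lin F K e') := by
  have h5 : finrank K V = 3 → 5 ≤ finrank F K := fun h => by
    rcases hd with hd | hd <;> omega
  by_cases h0 : ∀ y ∈ M, β e y = 0 → y ∈ Lin F K e
  · obtain ⟨g, hg, hne, hfix, w, hw, hwN, hgw⟩ := exists_perp_image O P hU h0 hd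
    by_cases hx : ∃ x ∈ M.map g.toLinearMap ⊓ M, x ∉ M ⊓ Lin F K e
    · obtain ⟨x, ⟨hx1, hx2⟩, hxU⟩ := hx
      exact grow_of O P.mem hg hne inf_le_left hfix hx1 hx2 hxU
    push Not at hx
    have heq : M.map g.toLinearMap ⊓ M = M ⊓ Lin F K e :=
      le_antisymm hx (le_inf (fun u hu => map_fix O hu.1 (hfix u hu)) inf_le_left)
    obtain ⟨M', e', P', t, ht, rfl, hN⟩ := meet_of_members O (mem_map O P.mem hg) P.mem hne
    have hinf : (M.map g.toLinearMap).map t.toLinearMap ⊓ Lin F K e' =
        (M ⊓ Lin F K e).map t.toLinearMap := by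
      rw [hN, ← Submodule.map_inf t.toLinearMap t.injective, heq]
    rw [← LinearEquiv.finrank_map_eq t (M ⊓ Lin F K e), ← hinf] at hj ⊢
    refine bigger O h5 P' (fun h => hU ?_) hj (z := t (g w)) ⟨g w, ⟨w, hw, rfl⟩, rfl⟩ ?_ ?_
    · rw [hinf, ← Submodule.map_bot t.toLinearMap] at h
      exact Submodule.map_injective_of_injective (f := t.toLinearMap) t.injective h
    · rw [hN]
      rintro ⟨x, hx', hxe⟩
      rw [show x = g w from t.injective hxe] at hx'
      have hU' : g w ∈ M ⊓ Lin F K e := heq ▸ ⟨⟨w, hw, rfl⟩, hx'⟩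
      have : g (g w) = g w := hfix _ hU'
      rw [g.injective this] at hU'
      exact hwN hU'.2
    · refine f_lin O fun u hu => ?_
      rw [hN] at hu
      obtain ⟨m, hm, rfl⟩ := hu
      show f (t (g w)) (t m) = 0
      rw [O.iso t ht]
      exact hgw m hm
  · push Not at h0
    obtain ⟨z, hz, hez, hzN⟩ := h0
    exact bigger O h5 P hU hj hz hzN hez

end

end CfsgLib.MaxSub.ExtOrthMax
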