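/-
Dimension three: rotations, involutions and two members meeting in two dimensions.
-/
import Cfsg.Agent.Lib.MaxSub.ExtOrthMax.Meet
import Mathlib.FieldTheory.Finite.Basic
import Mathlib.NumberTheory.LegendreSymbol.QuadraticChar.Basic

set_option autoImplicit false
set_option maxHeartbeats 400000
set_option linter.unusedSectionVars false
set_option linter.style.haveILetI false

namespace CfsgLib.MaxSub.ExtOrthMax

open Module
open CfsgLib.MaxSub.ExtLin (Lin mem_lin_iff finrank_lin finrank_restrict)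
open CfsgLib.MaxSub.ExtSymp (eq_zero_of_trace)

variable {F K V : Type*} [Field F] [Fintype F] [Field K] [Algebra F K] [FiniteDimensional F K]
  [AddCommGroup V] [Module F V] [Module K V] [IsScalarTower F K V] [FiniteDimensional F V]
  {f : V →ₗ[F] V →ₗ[F] F} {β : V →ₗ[K] V →ₗ[K] K} {G : Subgroup (V ≃ₗ[F] V)}

/-- No two different members meet in more than `j` dimensions. -/
def NG (F : Type*) {K V : Type*} [Field F] [Field K] [Algebra F K] [AddCommGroup V] [Module F V]
    [Module K V] [IsScalarTower F K V] (β : V →ₗ[K] V →ₗ[K] K) (G : Subgroup (V ≃ₗ[F] V)) (j : ℕ) :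
    Prop :=
  ∀ M e, Meet F β G M e → finrank F ↥(M ⊓ Lin F K e) ≤ j

section

variable (O : OX f β G)
include O

theorem ng_pair {j : ℕ} (hng : NG F β G j) {M N : Submodule F V} (hM : IsMem β G M)
    (hN : IsMem β G N) (hne : M ≠ N) : finrank F ↥(M ⊓ N) ≤ j := by
  obtain ⟨M', e, P, g, hg, rfl, hgN⟩ := meet_of_members O hM hN hne
  have h := hng _ _ P
  rwa [hgN, ← Submodule.map_inf g.toLinearMap g.injective, LinearEquiv.finrank_map_eq] at h

theorem no_perp_members (h5 : finrank K V = 3 → 5 ≤ finrank F K) {j : ℕ} (hng : NG F β G j) (hj0 : 0 < j) (hj : j + 2 ≤ finrank F K)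
    {M N : Submodule F V} (hM : IsMem β G M) (hN : IsMem β G N) (hne : M ≠ N)
    (hle : j ≤ finrank F ↥(M ⊓ N)) {z : V} (hz : z ∈ M) (hzN : z ∉ N) (hperp : ∀ n ∈ N, f z n = 0) :
    False := by
  obtain ⟨M', e, P, g, hg, rfl, hgN⟩ := meet_of_members O hM hN hne
  have hinf : M.map g.toLinearMap ⊓ Lin F K e = (M ⊓ N).map g.toLinearMap := by
    rw [hgN, Submodule.map_inf g.toLinearMap g.injective]
  have hfin : finrank F ↥(M.map g.toLinearMap ⊓ Lin F K e) = finrank F ↥(M ⊓ N) := by
    rw [hinf, LinearEquiv.finrank_map_eq]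
  have hle' := ng_pair O hng hM hN hne
  obtain ⟨M₁, e₁, P₁, h₁⟩ := bigger O h5 P (fun h => by rw [h, finrank_bot] at hfin; omega) (by omega)
    (z := g z) ⟨z, hz, rfl⟩ (fun h => hzN (by
      rw [hgN] at h
      obtain ⟨x, hx, hxz⟩ := h
      rwa [← show x = z from g.injective hxz]))
    (f_lin O fun u hu => by
      rw [hgN] at hu
      obtain ⟨n, hn, rfl⟩ := hu
      show f (g z) (g n) = 0
      rw [O.iso g hg]
      exact hperp n hn)
  have := hng _ _ P₁
  omega

/-- A member equal to a line comes from a singular vector. -/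
theorem line_sing {M : Submodule F V} (hM : IsMem β G M) {v : V} (h : M = Lin F K v) :
    β v v = 0 :=
  eq_zero_of_trace (F := F) fun k => by
    rw [← f_smul_left O]
    exact mem_ti O hM _ (h ▸ mem_lin_iff.2 ⟨k, rfl⟩) _ (h ▸ mem_lin_iff.2 ⟨1, one_smul _ _⟩)

theorem not_line {M : Submodule F V} {e : V} (P : Meet F β G M e) (hd : finrank K V = 3)
    (hU : M ⊓ Lin F K e ≠ ⊥) (v : V) : M ≠ Lin F K v := by
  intro h
  obtain ⟨u, hu, hu0⟩ := (Submodule.ne_bot_iff _).1 hU
  obtain ⟨k, rfl⟩ := mem_lin_iff.1 hu.2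
  obtain ⟨l, hl⟩ := mem_lin_iff.1 (show k • e ∈ Lin F K v from h ▸ hu.1)
  have hk : k ≠ 0 := fun hk => hu0 (by rw [hk, zero_smul])
  have he : e = (l / k) • v := by
    rw [div_eq_inv_mul, mul_smul, hl, smul_smul, inv_mul_cancel₀ hk, one_smul]
  refine P.ne (h.trans (le_antisymm ?_ ?_))
  · intro y hy
    obtain ⟨p, rfl⟩ := mem_lin_iff.1 hy
    have hlk : l / k ≠ 0 := fun h0 => P.ne0 (by rw [he, h0, zero_smul])
    exact mem_lin_iff.2 ⟨p / (l / k), by rw [he, smul_smul, div_mul_cancel₀ _ hlk]⟩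
  · intro y hy
    obtain ⟨p, rfl⟩ := mem_lin_iff.1 hy
    exact mem_lin_iff.2 ⟨p * (l / k), by rw [he, smul_smul]⟩

/-- The coordinates of a hyperbolic pair and a perpendicular vector. -/
theorem frame_expand (hd : finrank K V = 3) {e e' v : V} (he : β e e = 0) (he' : β e' e' = 0)
    (hee' : β e e' = 1) (hev : β e v = 0) (he'v : β e' v = 0) (hv : β v v ≠ 0) (y : V) :
    y = β e' y • e + (β v y / β v v) • v + β e y • e' := by
  refine sub_eq_zero.1 (eq_zero_of_three O hd (a := e) (b := v) (c := e') (fun p q s h => ?_) ?_ ?_ ?_)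
  · have h1 := congrArg (β e') h
    have h2 := congrArg (β v) h
    have h3 := congrArg (β e) h
    simp only [map_add, map_smul, map_zero, he, he', hee', hev, he'v, O.symm e' e, O.symm v e,
      O.symm v e', smul_eq_mul, mul_zero, mul_one, add_zero, zero_add] at h1 h2 h3
    exact ⟨h1, (mul_eq_zero.1 h2).resolve_right hv, h3⟩
  all_goals
    simp only [map_sub, map_add, map_smul, LinearMap.sub_apply, LinearMap.add_apply,
      LinearMap.smul_apply, he, he', hee', hev, he'v, O.symm e' e, O.symm v e, O.symm v e',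
      O.symm y e, O.symm y v, O.symm y e', smul_eq_mul, mul_zero, mul_one, add_zero, zero_add,
      div_mul_cancel₀ _ hv, sub_self]

theorem ringChar_ne : ringChar K ≠ 2 := fun h => two_K O (by
  haveI := ringChar.charP K
  haveI : CharP K 2 := h ▸ ringChar.charP K
  exact CharP.cast_eq_zero K 2)

theorem odd_card : Nat.card K % 2 = 1 := by
  haveI := finite_K O
  letI := Fintype.ofFinite K
  rw [Nat.card_eq_fintype_card]
  exact FiniteField.odd_card_of_char_ne_two (ringChar_ne O)

/-- An involution of the orthogonal group with given axis. -/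
theorem gamma_mem (hd : finrank K V = 3) {a b c : V} (hab : β a b = 0) (hac : β a c = 0)
    (hbc : β b c = 0) (ha : β a a ≠ 0) (hc : β c c ≠ 0) {s : K} (hs : s ≠ 0)
    (hsq : β a a * β b b = s * s) :
    ∃ g ∈ G, ∀ y, g y = (2 * β c y / β c c) • c - y := by
  classical
  haveI := finite_K O
  letI := Fintype.ofFinite K
  have h2 := two_K O
  have hb : β b b ≠ 0 := fun h => mul_ne_zero hs hs (by rw [← hsq, h, mul_zero])
  obtain ⟨x, x', hx⟩ := FiniteField.exists_root_sum_quadratic
    (f := Polynomial.C (β a a) * Polynomial.X ^ 2 + Polynomial.C (0 : K) * Polynomial.X +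
      Polynomial.C (β c c))
    (g := Polynomial.C (β b b) * Polynomial.X ^ 2 + Polynomial.C (0 : K) * Polynomial.X +
      Polynomial.C (0 : K))
    (Polynomial.degree_quadratic ha) (Polynomial.degree_quadratic hb)
    (by rw [← Nat.card_eq_fintype_card]; exact odd_card O)
  simp only [Polynomial.eval_add, Polynomial.eval_mul, Polynomial.eval_C, Polynomial.eval_pow,
    Polynomial.eval_X, zero_mul, add_zero] at hx
  set d := x • a + x' • b with hd'
  set v := (-(x' * β b b)) • a + (x * β a a) • b with hv'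
  have hdd : β d d = -β c c := by
    simp only [hd', map_add, map_smul, LinearMap.add_apply, LinearMap.smul_apply, hab, O.symm b a,
      smul_eq_mul, mul_zero, add_zero, zero_add]
    linear_combination hx
  have hcd : β c d = 0 := by
    simp [hd', O.symm c a, hac, O.symm c b, hbc]
  have hcv : β c v = 0 := by
    simp [hv', O.symm c a, hac, O.symm c b, hbc]
  have hdv : β d v = 0 := by
    simp only [hd', hv', map_add, map_smul, LinearMap.add_apply, LinearMap.smul_apply, hab,
      O.symm b a, smul_eq_mul, mul_zero, add_zero, zero_add]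
    ring
  have hvv : β v v = -(β c c * (s * s)) := by
    simp only [hv', map_add, map_smul, LinearMap.add_apply, LinearMap.smul_apply, hab,
      O.symm b a, smul_eq_mul, mul_zero, add_zero, zero_add]
    linear_combination (β a a * β b b) * hx - β c c * hsq
  have hvv0 : β v v ≠ 0 := by rw [hvv]; exact neg_ne_zero.2 (mul_ne_zero hc (mul_ne_zero hs hs))
  -- the frame
  obtain ⟨e, hedef⟩ : ∃ e, e = (1 / 2 : K) • (c + d) := ⟨_, rfl⟩
  obtain ⟨e', he'def⟩ : ∃ e', e' = (1 / β c c) • (c - d) := ⟨_, rfl⟩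
  have he : β e e = 0 := by
    simp only [hedef, map_add, map_smul, LinearMap.add_apply, LinearMap.smul_apply, O.symm d c, hcd,
      hdd, smul_eq_mul]
    ring
  have he' : β e' e' = 0 := by
    simp only [he'def, map_sub, map_smul, LinearMap.sub_apply, LinearMap.smul_apply, O.symm d c, hcd,
      hdd, smul_eq_mul]
    ring
  have hee' : β e e' = 1 := by
    simp only [hedef, he'def, map_add, map_sub, map_smul, LinearMap.add_apply, LinearMap.smul_apply,
      O.symm d c, hcd, hdd, smul_eq_mul]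
    field_simp
    ring
  have hev : β e v = 0 := by simp [hedef, hcv, hdv]
  have he'v : β e' v = 0 := by simp [he'def, hcv, hdv]
  have hce : c = e + (β c c / 2) • e' := by
    rw [hedef, he'def]
    match_scalars <;> field_simp <;> ring
  obtain ⟨g₁, hg₁, h₁⟩ := O.eich e' ((1 / s) • v) he' (by rw [map_smul, he'v, smul_zero])
  obtain ⟨g₂, hg₂, h₂⟩ := O.eich e ((-(2 / (β c c * s))) • v) he (by rw [map_smul, hev, smul_zero])
  refine ⟨g₁ * g₂ * g₁, mul_mem (mul_mem hg₁ hg₂) hg₁, fun y => ?_⟩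
  show g₁ (g₂ (g₁ y)) = _
  obtain ⟨C, hC⟩ : ∃ C, C = β c c := ⟨_, rfl⟩
  rw [← hC] at hvv hce hc ⊢
  have hy := frame_expand O hd he he' hee' hev he'v hvv0 y
  obtain ⟨ρ, hρ⟩ : ∃ ρ, ρ = β e' y := ⟨_, rfl⟩
  obtain ⟨ζ, hζ⟩ : ∃ ζ, ζ = β v y / β v v := ⟨_, rfl⟩
  obtain ⟨φ, hφ⟩ : ∃ φ, φ = β e y := ⟨_, rfl⟩
  rw [← hρ, ← hζ, ← hφ] at hy
  clear hρ hζ hφ hx hedef he'def hdd hcd hdv
  subst hy
  rw [h₁, h₂, h₁, hce]
  simp only [map_add, map_sub, map_smul, LinearMap.add_apply, LinearMap.sub_apply,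
    LinearMap.smul_apply, he, he', hee', hev, he'v, O.symm e' e, O.symm v e, O.symm v e', hvv,
    ← hC, smul_eq_mul, mul_zero, mul_one, add_zero, zero_add, sub_zero]
  have h4 : (4 : K) ≠ 0 := by
    rw [show (4 : K) = 2 * 2 by norm_num]; exact mul_ne_zero h2 h2
  match_scalars <;> field_simp <;> first | ring1 | (ring_nf; field_simp; ring1)

/-- An element whose square lies in the ground field lies there, in odd degree. -/
theorem mem_of_sq (hr : finrank F K ≠ 2) {x : K} (h : x * x ∈ (⊥ : Subalgebra F K)) :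
    x ∈ (⊥ : Subalgebra F K) := by
  obtain ⟨a, ha⟩ := Algebra.mem_bot.1 h
  let p : Submodule F K := Submodule.span F {1, x}
  let S : Subalgebra F K := p.toSubalgebra (Submodule.subset_span (by simp)) (by
    intro u w hu hw
    obtain ⟨a₁, b₁, rfl⟩ := Submodule.mem_span_pair.1 hu
    obtain ⟨a₂, b₂, rfl⟩ := Submodule.mem_span_pair.1 hw
    refine Submodule.mem_span_pair.2 ⟨a₁ * a₂ + b₁ * b₂ * a, a₁ * b₂ + b₁ * a₂, ?_⟩
    simp only [Algebra.smul_def, map_add, map_mul, mul_one]
    linear_combination (algebraMap F K b₁ * algebraMap F K b₂) * ha)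
  haveI := Subalgebra.isSimpleOrder_of_finrank_prime F K O.prime
  rcases eq_bot_or_eq_top S with hS | hS
  · rw [← hS]
    exact (Submodule.subset_span (by simp) : x ∈ p)
  · exfalso
    have htop : p = ⊤ := Submodule.eq_top_iff'.2 fun y => (hS ▸ Algebra.mem_top : y ∈ S)
    have h1 : finrank F p ≤ 2 := by
      classical
      have h := finrank_span_finset_le_card (R := F) ({1, x} : Finset K)
      rw [Finset.coe_insert, Finset.coe_singleton] at h
      exact le_trans h Finset.card_le_two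
    rw [htop, finrank_top] at h1
    have := O.prime.two_le
    omega

theorem degree_ne_two (hd : finrank K V = 3) : finrank F K ≠ 2 := by
  have := (O.small hd).1
  omega

theorem sq_mul {a b : K} (ha : ¬ IsSquare a) (hb : ¬ IsSquare b) : IsSquare (a * b) := by
  classical
  haveI := finite_K O
  letI := Fintype.ofFinite K
  have ha0 : a ≠ 0 := fun h => ha (h ▸ IsSquare.zero)
  have hb0 : b ≠ 0 := fun h => hb (h ▸ IsSquare.zero)
  rw [← quadraticChar_one_iff_isSquare (mul_ne_zero ha0 hb0), map_mul,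
    (quadraticChar_neg_one_iff_not_isSquare (a := a)).2 ha,
    (quadraticChar_neg_one_iff_not_isSquare (a := b)).2 hb]
  norm_num

/-- A multiple by the ground field is a square. -/
theorem exists_sq_mul (hr : finrank F K ≠ 2) {C : K} (hC : C ≠ 0) :
    ∃ x : F, x ≠ 0 ∧ ∃ t : K, t ≠ 0 ∧ t * t = algebraMap F K x * C := by
  haveI : Finite F := inferInstance
  by_cases h : IsSquare C
  · obtain ⟨t, ht⟩ := h
    exact ⟨1, one_ne_zero, t, fun h => hC (by rw [ht, h, zero_mul]), by rw [map_one, one_mul, ht]⟩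
  obtain ⟨n, hn⟩ := FiniteField.exists_nonsquare (F := F) (fun h => O.two (by
    haveI : CharP F 2 := h ▸ ringChar.charP F
    exact CharP.cast_eq_zero F 2))
  have hn0 : n ≠ 0 := fun h => hn (h ▸ IsSquare.zero)
  have hnK : ¬ IsSquare (algebraMap F K n) := by
    rintro ⟨s, hs⟩
    obtain ⟨a, ha⟩ := Algebra.mem_bot.1 (mem_of_sq O hr (x := s) (by rw [← hs]; exact Subalgebra.algebraMap_mem _ n))
    refine hn ⟨a, (algebraMap F K).injective ?_⟩
    rw [map_mul, ha, hs]
  obtain ⟨t, ht⟩ := sq_mul O hnK h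
  exact ⟨n, hn0, t, fun h' => mul_ne_zero ((map_ne_zero _).2 hn0) hC (by rw [ht, h', zero_mul]), ht.symm⟩

theorem exists_sq_notMem (hr : finrank F K ≠ 2) {C : K} (hC : C ≠ 0) :
    ∃ t : K, C * (t * t) ∉ (⊥ : Subalgebra F K) := by
  by_contra hc
  push Not at hc
  obtain ⟨c, hc1⟩ := Algebra.mem_bot.1 (hc 1)
  rw [one_mul, mul_one] at hc1
  have hc0 : c ≠ 0 := fun h => hC (by rw [← hc1, h, map_zero])
  have hall : ∀ y : K, y ∈ (⊥ : Subalgebra F K) := fun y => mem_of_sq O hr (by
    obtain ⟨a, ha⟩ := Algebra.mem_bot.1 (hc y)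
    rw [show y * y = algebraMap F K (a / c) by
      rw [map_div₀, ha, hc1, mul_div_cancel_left₀ _ hC]]
    exact Subalgebra.algebraMap_mem _ _)
  have h1 := Subalgebra.bot_eq_top_iff_finrank_eq_one.1 (eq_top_iff.2 fun y _ => hall y : (⊥ : Subalgebra F K) = ⊤)
  exact O.prime.one_lt.ne' h1

/-- A nonzero vector perpendicular to two others. -/
theorem exists_perp_pair (hd : finrank K V = 3) (a b : V) :
    ∃ c, c ≠ 0 ∧ β a c = 0 ∧ β b c = 0 := by
  haveI := finite_VK O
  have h := perp₂_rank O a b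
  haveI : Nontrivial (perp₂ β a b) := Module.nontrivial_of_finrank_pos (R := K) (by omega)
  obtain ⟨⟨c, hc⟩, hc0⟩ := exists_ne (0 : perp₂ β a b)
  exact ⟨c, fun h => hc0 (Subtype.ext h), hc.1, hc.2⟩

theorem aniso_of_orth (hd : finrank K V = 3) {a b c : V} (ha : β a a ≠ 0) (hb : β b b ≠ 0)
    (hab : β a b = 0) (hac : β a c = 0) (hbc : β b c = 0) (hc0 : c ≠ 0) : β c c ≠ 0 := by
  intro hc
  refine hc0 (eq_zero_of_three O hd (a := a) (b := b) (c := c) (fun p q s h => ?_)
    (by rw [O.symm, hac]) (by rw [O.symm, hbc]) hc)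
  have h1 := congrArg (β a) h
  have h2 := congrArg (β b) h
  simp only [map_add, map_smul, map_zero, hab, O.symm b a, hac, hbc, smul_eq_mul, mul_zero, add_zero,
    zero_add, mul_eq_zero, ha, hb, or_false] at h1 h2
  subst h1 h2
  simp only [zero_smul, zero_add, smul_eq_zero, hc0, or_false] at h
  exact ⟨rfl, rfl, h⟩

/-- A member is moved by a rotation around a given anisotropic vector. -/
theorem exists_rot (hd : finrank K V = 3) {M : Submodule F V} (hM : IsMem β G M)
    (hnl : ∀ v : V, M ≠ Lin F K v) {z : V} (hz : β z z ≠ 0) :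
    ∃ R ∈ G, (∀ k : K, R (k • z) = k • z) ∧ M.map R.toLinearMap ≠ M := by
  haveI := finite_VK O
  haveI := finite_K O
  letI := Fintype.ofFinite K
  have h2 := two_K O
  have hr := degree_ne_two O hd
  -- a vector of the plane with the same value
  obtain ⟨p, hp0, hzp, -⟩ := exists_perp_pair O hd z z
  obtain ⟨p₁, hp₁, hzp₁⟩ : ∃ p₁, β p₁ p₁ ≠ 0 ∧ β z p₁ = 0 := by
    by_cases hpp : β p p = 0
    · obtain ⟨y, hy, hyp⟩ := exists_sep_one O (x := z) (w := p) (fun h => by
        obtain ⟨l, rfl⟩ := Submodule.mem_span_singleton.1 h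
        rw [map_smul, smul_eq_mul, mul_eq_zero] at hzp
        exact hp0 (by rw [hzp.resolve_right hz, zero_smul])) 1
      refine ⟨y + ((1 - β y y) / 2) • p, ?_, by rw [map_add, hy, map_smul, hzp, smul_zero, add_zero]⟩
      simp only [map_add, map_smul, LinearMap.add_apply, LinearMap.smul_apply, hpp, hyp, O.symm p y,
        smul_eq_mul, mul_zero, add_zero, mul_one]
      rw [show β y y + (1 - β y y) / 2 + (1 - β y y) / 2 = 1 by field_simp; ring]
      exact one_ne_zero
    · exact ⟨p, hpp, hzp⟩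
  obtain ⟨p₂, hp₂0, hzp₂, hp₁p₂⟩ := exists_perp_pair O hd z p₁
  have hp₂ := aniso_of_orth O hd hz hp₁ hzp₁ hzp₂ hp₁p₂ hp₂0
  obtain ⟨x, x', hx⟩ := FiniteField.exists_root_sum_quadratic
    (f := Polynomial.C (β p₁ p₁) * Polynomial.X ^ 2 + Polynomial.C (0 : K) * Polynomial.X +
      Polynomial.C (-β z z))
    (g := Polynomial.C (β p₂ p₂) * Polynomial.X ^ 2 + Polynomial.C (0 : K) * Polynomial.X +
      Polynomial.C (0 : K))
    (Polynomial.degree_quadratic hp₁) (Polynomial.degree_quadratic hp₂)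
    (by rw [← Nat.card_eq_fintype_card]; exact odd_card O)
  simp only [Polynomial.eval_add, Polynomial.eval_mul, Polynomial.eval_C, Polynomial.eval_pow,
    Polynomial.eval_X, zero_mul, add_zero] at hx
  obtain ⟨b, hbdef⟩ : ∃ b, b = x • p₁ + x' • p₂ := ⟨_, rfl⟩
  have hbb : β b b = β z z := by
    simp only [hbdef, map_add, map_smul, LinearMap.add_apply, LinearMap.smul_apply, hp₁p₂,
      O.symm p₂ p₁, smul_eq_mul, mul_zero, add_zero, zero_add]
    linear_combination hx
  have hzb : β z b = 0 := by simp [hbdef, hzp₁, hzp₂]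
  obtain ⟨c, hc0, hzc, hbc⟩ := exists_perp_pair O hd z b
  have hb : β b b ≠ 0 := by rw [hbb]; exact hz
  have hcc := aniso_of_orth O hd hz hb hzb hzc hbc hc0
  -- the second vector
  obtain ⟨t, ht⟩ := exists_sq_notMem O hr (div_ne_zero hcc hz)
  obtain ⟨T, hT⟩ : ∃ T, T = β c c / β z z * (t * t) := ⟨_, rfl⟩
  rw [← hT] at ht
  have hT1 : T + 1 ≠ 0 := fun h => ht (by
    rw [show T = algebraMap F K (-1) by rw [map_neg, map_one]; linear_combination h]
    exact Subalgebra.algebraMap_mem _ _)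
  obtain ⟨ρ, hρ⟩ : ∃ ρ, ρ = (T - 1) / (T + 1) := ⟨_, rfl⟩
  obtain ⟨σ, hσ⟩ : ∃ σ, σ = t * (ρ - 1) := ⟨_, rfl⟩
  have hconic : ρ * ρ * β z z + σ * σ * β c c = β z z := by
    have hTc : β c c * (t * t) = T * β z z := by rw [hT]; field_simp
    rw [hσ, show t * (ρ - 1) * (t * (ρ - 1)) * β c c = β c c * (t * t) * ((ρ - 1) * (ρ - 1)) by ring,
      hTc, hρ]
    field_simp
    ring
  have hρF : ρ * ρ ∉ (⊥ : Subalgebra F K) := fun h => by
    obtain ⟨a, ha⟩ := Algebra.mem_bot.1 (mem_of_sq O hr h)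
    have h1 : (T - 1) = ρ * (T + 1) := by rw [hρ, div_mul_cancel₀ _ hT1]
    have ha1 : 1 - a ≠ 0 := fun h' => h2 (by
      have : algebraMap F K a = 1 := by rw [← sub_eq_zero.1 h', map_one]
      rw [← ha, this, one_mul] at h1
      linear_combination -h1)
    refine ht (Algebra.mem_bot.2 ⟨(1 + a) / (1 - a), ?_⟩)
    rw [map_div₀, map_add, map_sub, map_one, ha, div_eq_iff]
    · linear_combination -h1
    · rw [← ha, ← map_one (algebraMap F K), ← map_sub]
      exact (map_ne_zero _).2 ha1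
  obtain ⟨b', hb'def⟩ : ∃ b', b' = ρ • b + σ • c := ⟨_, rfl⟩
  obtain ⟨c', hc'def⟩ : ∃ c', c' = (σ * β c c) • b - (ρ * β z z) • c := ⟨_, rfl⟩
  have hb'b' : β b' b' = β z z := by
    simp only [hb'def, map_add, map_smul, LinearMap.add_apply, LinearMap.smul_apply, hbc, O.symm c b,
      hbb, smul_eq_mul, mul_zero, add_zero, zero_add]
    linear_combination hconic
  have hb'c' : β b' c' = 0 := by
    simp only [hb'def, hc'def, map_add, map_sub, map_smul, LinearMap.add_apply, LinearMap.sub_apply,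
      LinearMap.smul_apply, hbc, O.symm c b, hbb, smul_eq_mul, mul_zero, add_zero, zero_add,
      sub_zero, zero_sub]
    ring
  have hzb' : β z b' = 0 := by simp [hb'def, hzb, hzc]
  have hzc' : β z c' = 0 := by simp [hc'def, hzb, hzc]
  have hc'c' : β c' c' = β z z * β z z * β c c := by
    simp only [hc'def, map_sub, map_smul, LinearMap.sub_apply, LinearMap.smul_apply, hbc, O.symm c b,
      hbb, smul_eq_mul, mul_zero, sub_zero, zero_sub]
    linear_combination (β c c * β z z) * hconic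
  have hc'0 : β c' c' ≠ 0 := by rw [hc'c']; exact mul_ne_zero (mul_ne_zero hz hz) hcc
  have hcc' : β c c' = -(ρ * β z z * β c c) := by
    simp only [hc'def, map_sub, map_smul, O.symm c b, hbc, smul_eq_mul, mul_zero, zero_sub]
  obtain ⟨g, hg, hgy⟩ := gamma_mem O hd hzb hzc hbc hz hcc hz (by rw [hbb])
  obtain ⟨g', hg', hgy'⟩ := gamma_mem O hd hzb' hzc' hb'c' hz hc'0 hz (by rw [hb'b'])
  have hgz : ∀ k : K, g (k • z) = -(k • z) := fun k => by
    rw [hgy, map_smul, O.symm c z, hzc, smul_zero, mul_zero, zero_div, zero_smul, zero_sub]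
  have hgz' : ∀ k : K, g' (k • z) = -(k • z) := fun k => by
    rw [hgy', map_smul, O.symm c' z, hzc', smul_zero, mul_zero, zero_div, zero_smul, zero_sub]
  refine ⟨g * g', mul_mem hg hg', fun k => by
    show g (g' (k • z)) = _
    rw [hgz', map_neg, hgz, neg_neg], fun hRM => ?_⟩
  -- the inverse
  have hinv : ∀ y ∈ M, g' (g y) ∈ M := fun y hy => by
    rw [← hRM] at hy
    obtain ⟨w, hw, rfl⟩ := hy
    show g' (g (g (g' w))) ∈ M
    have hi : ∀ u, g (g u) = u := fun u => by
      rw [hgy, hgy u, map_sub, map_smul, smul_eq_mul, sub_eq_iff_eq_add]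
      rw [div_mul_cancel₀ _ hcc]
      module
    have hi' : ∀ u, g' (g' u) = u := fun u => by
      rw [hgy', hgy' u, map_sub, map_smul, smul_eq_mul, sub_eq_iff_eq_add]
      rw [div_mul_cancel₀ _ hc'0]
      module
    rwa [hi, hi']
  obtain ⟨σ₀, hσ₀⟩ : ∃ σ₀, σ₀ = ρ * ρ - 1 := ⟨_, rfl⟩
  -- the sum of the rotation and its inverse
  let pr : V → V := fun y => y - (β z y / β z z) • z
  have hsum : ∀ y, g (g' y) + g' (g y) - (2 : K) • y = (4 * σ₀) • pr y := by
    intro y
    have hy : β z (pr y) = 0 := by simp [pr, hz]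
    -- coordinates in the plane
    have hexp : pr y = (β b y / β z z) • b + (β c y / β c c) • c := by
      refine sub_eq_zero.1 (eq_zero_of_three O hd (a := z) (b := b) (c := c) (fun p q s h => ?_) ?_ ?_ ?_)
      · have h1 := congrArg (β z) h
        have h2 := congrArg (β b) h
        have h3 := congrArg (β c) h
        simp only [map_add, map_smul, map_zero, hzb, hzc, O.symm b z, O.symm c z, hbc, O.symm c b,
          smul_eq_mul, mul_zero, add_zero, zero_add, mul_eq_zero, hz, hb, hcc, or_false] at h1 h2 h3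
        exact ⟨h1, h2, h3⟩
      all_goals
        simp only [pr, map_sub, map_add, map_smul, LinearMap.sub_apply, LinearMap.add_apply,
          LinearMap.smul_apply, hzb, hzc, O.symm b z, O.symm c z, hbc, O.symm c b, O.symm y z,
          O.symm y b, O.symm y c, hbb, smul_eq_mul, mul_zero, add_zero, zero_add, sub_zero]
        field_simp
        ring
    have hy' : y = (β z y / β z z) • z + (β b y / β z z) • b + (β c y / β c c) • c := by
      rw [add_assoc, ← hexp]
      simp [pr]
    rw [hexp]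
    obtain ⟨p, hp⟩ : ∃ p, p = β z y / β z z := ⟨_, rfl⟩
    obtain ⟨q, hq⟩ : ∃ q, q = β b y / β z z := ⟨_, rfl⟩
    obtain ⟨s, hs⟩ : ∃ s, s = β c y / β c c := ⟨_, rfl⟩
    rw [← hp, ← hq, ← hs] at hy'
    rw [← hq, ← hs]
    clear hp hq hs hexp hy
    subst hy'
    rw [hgy, hgy', hgy', hgy]
    have hbc' : β b c' = σ * β c c * β z z := by
      simp only [hc'def, map_sub, map_smul, hbc, hbb, smul_eq_mul, mul_zero, sub_zero]
    simp only [map_add, map_sub, map_smul, hzc', O.symm c' z, O.symm c' b, hbc', O.symm c' c, hcc',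
      O.symm c z, hzc, O.symm c b, hbc, hc'c', smul_eq_mul, mul_zero, add_zero, zero_add, sub_zero]
    rw [hc'def, hσ₀]
    match_scalars <;> field_simp <;>
      first
      | ring1
      | linear_combination (-(4 * q)) * hconic
      | linear_combination (4 * q) * hconic
  -- the multipliers of the projection
  let S₀ : Submodule F K :=
    { carrier := {s | ∀ y ∈ M, s • pr y ∈ M}
      zero_mem' := fun y _ => by rw [zero_smul]; exact zero_mem _
      add_mem' := fun {p q} hp hq y hy => by rw [add_smul]; exact M.add_mem (hp y hy) (hq y hy)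
      smul_mem' := fun x p hp y hy => by rw [smul_assoc]; exact M.smul_mem x (hp y hy) }
  have hpr : ∀ (s : K) (y : V), pr (s • pr y) = s • pr y := fun s y => by
    simp [pr, hz]
  have hmul : ∀ p ∈ S₀, ∀ q ∈ S₀, p * q ∈ S₀ := fun p hp q hq y hy => by
    have h := hp _ (hq y hy)
    rwa [hpr, smul_smul] at h
  have hσS : σ₀ ∈ S₀ := fun y hy => by
    have h1 : g (g' y) + g' (g y) - (2 : K) • y ∈ M := by
      refine M.sub_mem (M.add_mem ?_ (hinv y hy)) ?_
      · have : (g * g') y ∈ M.map (g * g').toLinearMap := ⟨y, hy, rfl⟩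
        rwa [hRM] at this
      · rw [two_smul]; exact M.add_mem hy hy
    rw [hsum] at h1
    have h4 : (4 : F) ≠ 0 := by
      rw [show (4 : F) = 2 * 2 by norm_num]; exact mul_ne_zero O.two O.two
    have h := M.smul_mem (4 : F)⁻¹ h1
    rwa [← smul_assoc, Algebra.smul_def, map_inv₀, map_ofNat, ← mul_assoc,
      inv_mul_cancel₀ (show (4 : K) ≠ 0 by
        rw [show (4 : K) = 2 * 2 by norm_num]; exact mul_ne_zero h2 h2), one_mul] at h
  have hσF : σ₀ ∉ (⊥ : Subalgebra F K) := fun h => hρF (by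
    rw [show ρ * ρ = σ₀ + 1 by rw [hσ₀]; ring]
    exact add_mem h (one_mem _))
  let S : Subalgebra F K :=
    { carrier := {s | ∀ k ∈ S₀, s * k ∈ S₀}
      mul_mem' := fun {a b} ha hb k hk => by rw [mul_assoc]; exact ha _ (hb k hk)
      add_mem' := fun {a b} ha hb k hk => by rw [add_mul]; exact S₀.add_mem (ha k hk) (hb k hk)
      algebraMap_mem' := fun x k hk => by rw [← Algebra.smul_def]; exact S₀.smul_mem x hk }
  haveI := Subalgebra.isSimpleOrder_of_finrank_prime F K O.prime
  have hS : S = ⊤ := (eq_bot_or_eq_top S).resolve_left fun h =>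
    hσF (h ▸ (show σ₀ ∈ S from fun k hk => hmul _ hσS k hk))
  have hσ0 : σ₀ ≠ 0 := fun h => hσF (by rw [h]; exact zero_mem _)
  have hall : ∀ k : K, k ∈ S₀ := fun k => by
    have := (hS ▸ Algebra.mem_top : k / σ₀ ∈ S) σ₀ hσS
    rwa [div_mul_cancel₀ _ hσ0] at this
  by_cases hex : ∃ y ∈ M, pr y ≠ 0
  · obtain ⟨y, hy, hy0⟩ := hex
    refine hnl (pr y) (Submodule.eq_of_le_of_finrank_eq (fun w hw => ?_) ?_).symm
    · obtain ⟨k, rfl⟩ := mem_lin_iff.1 hw
      exact hall k y hy
    · rw [finrank_lin hy0, mem_finrank O hM]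
  · push Not at hex
    refine hnl z (Submodule.eq_of_le_of_finrank_eq (fun y hy => ?_) ?_)
    · exact mem_lin_iff.2 ⟨_, (sub_eq_zero.1 (hex y hy)).symm⟩
    · rw [finrank_lin (fun h => hz (by rw [h, map_zero])), mem_finrank O hM]

/-- Two different members meet, in dimension three. -/
theorem exists_meet_three (hd : finrank K V = 3) : ∃ M e, Meet F β G M e ∧ M ⊓ Lin F K e ≠ ⊥ := by
  haveI := finite_VK O
  obtain ⟨M, hM, hnl⟩ := exists_nonline O
  obtain ⟨z, hzM, hz⟩ : ∃ z ∈ M, β z z ≠ 0 := by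
    by_contra hc
    push Not at hc
    have hpos : 0 < finrank F M := by rw [mem_finrank O hM]; exact O.prime.pos
    haveI : Nontrivial M := Module.nontrivial_of_finrank_pos hpos
    obtain ⟨⟨x, hx⟩, hx0⟩ := exists_ne (0 : M)
    have hx0' : x ≠ 0 := fun h => hx0 (Subtype.ext h)
    refine hnl x (Submodule.eq_of_le_of_finrank_eq (fun y hy => ?_) ?_)
    · have hxy : β x y = 0 := by
        have h := hc _ (M.add_mem hx hy)
        simp only [map_add, LinearMap.add_apply, hc x hx, hc y hy, O.symm y x, zero_add, add_zero] at h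
        have : (2 : K) * β x y = 0 := by linear_combination h
        exact (mul_eq_zero.1 this).resolve_left (two_K O)
      obtain ⟨k, hk⟩ := Submodule.mem_span_singleton.1 (perp_sing O hd hx0' (hc x hx) hxy (hc y hy))
      exact mem_lin_iff.2 ⟨k, hk⟩
    · rw [finrank_lin hx0', mem_finrank O hM]
  obtain ⟨R, hR, hRz, hne⟩ := exists_rot O hd hM hnl hz
  obtain ⟨e, he0, he⟩ := exists_sing O
  obtain ⟨t, ht, htM, htN⟩ := pairs_of_members O (mem_map O hM hR) hM he0 he
  have hRz' : R z = z := by simpa using hRz 1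
  refine ⟨_, e, ⟨htM, he0, he, fun h => ?_⟩, fun h => ?_⟩
  · rw [← htN] at h
    exact hne (Submodule.map_injective_of_injective (f := t.toLinearMap) t.injective h)
  · have h1 : t z ∈ (M.map R.toLinearMap).map t.toLinearMap ⊓ Lin F K e :=
      ⟨⟨z, map_fix O hzM hRz', rfl⟩, htN ▸ ⟨z, hzM, rfl⟩⟩
    rw [h, Submodule.mem_bot, t.map_eq_zero_iff] at h1
    exact hz (by rw [h1, map_zero])

theorem perp₂_line (hd : finrank K V = 3) {a b : V} (ha : a ≠ 0) (hb : b ∉ K ∙ a) {x y : V}
    (hx : x ∈ perp₂ β a b) (hy : y ∈ perp₂ β a b) (hx0 : x ≠ 0) : y ∈ K ∙ x := by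
  haveI := finite_VK O
  obtain ⟨p, hpa, hpb⟩ := exists_sep O hb 1
  obtain ⟨q, hq⟩ := exists_partner O ha
  have hp : β a p = 0 := by rw [O.symm]; exact hpa a (Submodule.mem_span_singleton_self a)
  rw [O.symm] at hpb
  have hsur : Function.Surjective ((β a).prod (β b)) := fun ⟨s, t⟩ =>
    ⟨s • q + (t - s * β b q) • p, Prod.ext (by simp [hp, hq]) (by simp [hpb])⟩
  have h1 := LinearMap.finrank_range_add_finrank_ker ((β a).prod (β b))
  rw [LinearMap.range_eq_top.2 hsur, finrank_top, Module.finrank_prod, Module.finrank_self, hd,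
    LinearMap.ker_prod] at h1
  have h1' : finrank K ↥(perp₂ β a b) = 1 := by rw [perp₂]; omega
  obtain ⟨c, hc⟩ := exists_smul_eq_of_finrank_eq_one h1' (x := (⟨x, hx⟩ : perp₂ β a b))
    (fun h => hx0 (congrArg Subtype.val h)) ⟨y, hy⟩
  exact Submodule.mem_span_singleton.2 ⟨c, congrArg Subtype.val hc⟩

/-- Two different members meet in two dimensions. -/
theorem exists_two (hd : finrank K V = 3) (hr5 : 5 ≤ finrank F K) :
    ∃ M e, Meet F β G M e ∧ 2 ≤ finrank F ↥(M ⊓ Lin F K e) := by
  haveI := finite_VK O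
  by_contra hcon
  have hng : NG F β G 1 := fun M e P => by
    by_contra h
    exact hcon ⟨M, e, P, by omega⟩
  have h2 := two_K O
  have hr2 := degree_ne_two O hd
  obtain ⟨M, e, P, hU⟩ := exists_meet_three O hd
  have hnl := not_line O P hd hU
  have hMmem := P.mem
  -- rotations forbid two dimensions on an anisotropic line
  have hline : ∀ d : V, β d d ≠ 0 → finrank F ↥(M ⊓ Lin F K d) ≤ 1 := by
    intro d hdd
    obtain ⟨R, hR, hRd, hne⟩ := exists_rot O hd hMmem hnl hdd
    refine le_trans (Submodule.finrank_mono (le_inf ?_ inf_le_left))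
      (ng_pair O hng (mem_map O hMmem hR) hMmem hne)
    intro y hy
    obtain ⟨k, rfl⟩ := mem_lin_iff.1 hy.2
    exact map_fix O hy.1 (hRd k)
  -- involutions
  obtain ⟨Ax, hAx⟩ : ∃ Ax : V → Prop, ∀ c, Ax c ↔ β c c ≠ 0 ∧
      ∀ y ∈ M, (2 * β c y / β c c) • c - y ∈ M := ⟨_, fun c => Iff.rfl⟩
  have haxis : ∀ z ∈ M, β z z ≠ 0 → ∃ c, Ax c ∧ (z ∈ K ∙ c ∨ β c z = 0) := by
    intro z hz hzz
    -- a perpendicular vector of the member
    let h : M →ₗ[F] K := ((β z).restrictScalars F).comp M.subtype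
    have hrange : LinearMap.range h ≤ LinearMap.ker (Algebra.trace F K) := by
      rintro _ ⟨y, rfl⟩
      rw [LinearMap.mem_ker]
      show Algebra.trace F K (β z y.1) = 0
      rw [← O.tr]
      exact mem_ti O hMmem z hz y.1 y.2
    have hTr : finrank F (LinearMap.ker (Algebra.trace F K)) < finrank F K :=
      Submodule.finrank_lt fun htop => by
        obtain ⟨k, hk⟩ := ExtSymp.exists_trace_ne (F := F) (one_ne_zero : (1 : K) ≠ 0)
        rw [mul_one] at hk
        exact hk (LinearMap.mem_ker.1 (htop ▸ Submodule.mem_top))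
    haveI : Nontrivial (LinearMap.ker h) := Module.nontrivial_of_finrank_pos (R := F) (by
      have h1 := LinearMap.finrank_range_add_finrank_ker h
      have h2 := Submodule.finrank_mono hrange
      rw [mem_finrank O hMmem] at h1
      omega)
    obtain ⟨⟨⟨w, hw⟩, hzw⟩, hw0'⟩ := exists_ne (0 : LinearMap.ker h)
    have hw0 : w ≠ 0 := fun e => hw0' (Subtype.ext (Subtype.ext e))
    replace hzw : β z w = 0 := hzw
    have hww : β w w ≠ 0 := by
      intro hww
      refine no_perp_members O (fun _ => hr5) hng Nat.one_pos (by omega) hMmem (mem_of_lin O hw0 hww) (hnl w) ?_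
        hz ?_ ?_
      · refine Submodule.one_le_finrank_iff.2 fun h => hw0 ?_
        exact (Submodule.mem_bot F).1 (h ▸ ⟨hw, mem_lin_iff.2 ⟨1, one_smul _ _⟩⟩)
      · intro hzN
        obtain ⟨k, rfl⟩ := mem_lin_iff.1 hzN
        exact hzz (by simp [hww])
      · rintro n hn
        obtain ⟨k, rfl⟩ := mem_lin_iff.1 hn
        rw [f_smul_right O, hzw, mul_zero, map_zero]
    obtain ⟨c₃, hc₃0, hzc, hwc⟩ := exists_perp_pair O hd z w
    have hcc := aniso_of_orth O hd hzz hww hzw hzc hwc hc₃0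
    have hlast : ∀ c g, g ∈ G → β c c ≠ 0 → (∀ y, g y = (2 * β c y / β c c) • c - y) →
        (z ∈ K ∙ c ∨ β c z = 0) → (w ∈ K ∙ c ∨ β c w = 0) → ∃ c, Ax c ∧ (z ∈ K ∙ c ∨ β c z = 0) := by
      intro c g hg hc hgy hz' hw'
      refine ⟨c, (hAx c).2 ⟨hc, fun y hy => ?_⟩, hz'⟩
      have hfix : ∀ u ∈ M, (u ∈ K ∙ c ∨ β c u = 0) → u ∈ M.map g.toLinearMap := by
        rintro u hu (h | h)
        · obtain ⟨l, rfl⟩ := Submodule.mem_span_singleton.1 h
          refine ⟨l • c, hu, ?_⟩
          show g (l • c) = l • c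
          rw [hgy, map_smul, smul_eq_mul, show 2 * (l * β c c) / β c c = 2 * l by field_simp]
          module
        · refine ⟨-u, M.neg_mem hu, ?_⟩
          show g (-u) = u
          rw [hgy, map_neg, h, neg_zero, mul_zero, zero_div, zero_smul, zero_sub, neg_neg]
      have hgM : M.map g.toLinearMap = M := by
        by_contra hne
        have hle := ng_pair O hng (mem_map O hMmem hg) hMmem hne
        have hli : LinearIndependent F ![z, w] := LinearIndependent.pair_iff.2 fun s t hst => by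
          have h1 := congrArg (β z) hst
          have h2 := congrArg (β w) hst
          simp only [map_add, map_zero, ← algebraMap_smul K s z, ← algebraMap_smul K t w, map_smul,
            hzw, O.symm w z, smul_eq_mul, mul_zero, add_zero, zero_add, mul_eq_zero, hzz, hww,
            or_false, map_eq_zero] at h1 h2
          exact ⟨h1, h2⟩
        have h2 := finrank_span_eq_card hli
        have h3 := Submodule.finrank_mono (show Submodule.span F (Set.range ![z, w]) ≤
            M.map g.toLinearMap ⊓ M from Submodule.span_le.2 (by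
          rintro _ ⟨i, rfl⟩
          fin_cases i
          · exact ⟨hfix z hz hz', hz⟩
          · exact ⟨hfix w hw hw', hw⟩))
        rw [h2, Fintype.card_fin] at h3
        omega
      have : g y ∈ M.map g.toLinearMap := ⟨y, hy, rfl⟩
      rwa [hgM, hgy] at this
    have hmk : ∀ {a b : V} {s : K}, β a a ≠ 0 → β b b ≠ 0 → β a a * β b b = s * s → s ≠ 0 :=
      fun ha hb h h0 => mul_ne_zero ha hb (by rw [h, h0, mul_zero])
    by_cases hs₁ : IsSquare (β z z * β w w)
    · obtain ⟨s, hs⟩ := hs₁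
      obtain ⟨g, hg, hgy⟩ := gamma_mem O hd hzw hzc hwc hzz hcc (hmk hzz hww hs) hs
      exact hlast c₃ g hg hcc hgy (Or.inr (by rw [O.symm, hzc])) (Or.inr (by rw [O.symm, hwc]))
    by_cases hs₂ : IsSquare (β z z * β c₃ c₃)
    · obtain ⟨s, hs⟩ := hs₂
      obtain ⟨g, hg, hgy⟩ := gamma_mem O hd hzc hzw (by rw [O.symm, hwc]) hzz hww (hmk hzz hcc hs) hs
      exact hlast w g hg hww hgy (Or.inr (by rw [O.symm, hzw]))
        (Or.inl (Submodule.mem_span_singleton_self w))
    · obtain ⟨s, hs⟩ := sq_mul O hs₁ hs₂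
      have hs' : β w w * β c₃ c₃ = s / β z z * (s / β z z) := by
        field_simp
        linear_combination hs
      obtain ⟨g, hg, hgy⟩ := gamma_mem O hd hwc (by rw [O.symm, hzw]) (by rw [O.symm, hzc]) hww hzz
        (hmk hww hcc hs') hs'
      exact hlast z g hg hzz hgy (Or.inl (Submodule.mem_span_singleton_self z)) (Or.inr hzw)
  -- the decomposition of an axis
  have hhalf : ∀ c, Ax c → ∀ y ∈ M, (β c y / β c c) • c ∈ M := by
    intro c hc y hy
    have h := M.smul_mem (2 : F)⁻¹ (M.add_mem hy (((hAx c).1 hc).2 y hy))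
    rwa [add_sub_cancel, ← smul_assoc, Algebra.smul_def, map_inv₀, map_ofNat, ← mul_div_assoc,
      ← mul_assoc, inv_mul_cancel₀ h2, one_mul] at h
  have hB : ∀ c, Ax c →
      finrank F K ≤ finrank F ↥(M ⊓ (LinearMap.ker (β c)).restrictScalars F) + 1 := by
    intro c hc
    have hc0 := ((hAx c).1 hc).1
    have hle : M ≤ (M ⊓ Lin F K c) ⊔ (M ⊓ (LinearMap.ker (β c)).restrictScalars F) := fun y hy =>
      Submodule.mem_sup.2 ⟨_, ⟨hhalf c hc y hy, mem_lin_iff.2 ⟨_, rfl⟩⟩, y - (β c y / β c c) • c,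
        ⟨M.sub_mem hy (hhalf c hc y hy), by
          show β c (y - (β c y / β c c) • c) = 0
          rw [map_sub, map_smul, smul_eq_mul, div_mul_cancel₀ _ hc0, sub_self]⟩, add_sub_cancel _ _⟩
    have h1 := Submodule.finrank_mono hle
    have h2 := Submodule.finrank_add_le_finrank_add_finrank (M ⊓ Lin F K c)
      (M ⊓ (LinearMap.ker (β c)).restrictScalars F)
    have h3 := hline c hc0
    rw [mem_finrank O hMmem] at h1
    omega
  -- only one axis
  have huniq : ∀ c c', Ax c → Ax c' → c' ∈ K ∙ c := by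
    intro c c' hc hc'
    by_contra hcc
    have hc0 : c ≠ 0 := fun h => ((hAx c).1 hc).1 (by rw [h, map_zero])
    set A := M ⊓ (LinearMap.ker (β c)).restrictScalars F with hA
    set A' := M ⊓ (LinearMap.ker (β c')).restrictScalars F with hA'
    have h1 := Submodule.finrank_sup_add_finrank_inf_eq A A'
    have h2 := Submodule.finrank_mono (sup_le (inf_le_left : A ≤ M) (inf_le_left : A' ≤ M))
    rw [mem_finrank O hMmem] at h2
    have h3 := hB c hc
    have h4 := hB c' hc'
    rw [← hA] at h3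
    rw [← hA'] at h4
    have h5 : 3 ≤ finrank F ↥(A ⊓ A') := by
      have e1 : finrank F ↥(A ⊔ A') ≤ finrank F K := h2
      have e2 : finrank F ↥(A ⊔ A') + finrank F ↥(A ⊓ A') = finrank F ↥A + finrank F ↥A' := h1
      omega
    haveI : Nontrivial ↥(A ⊓ A') := Module.nontrivial_of_finrank_pos (R := F) (by omega)
    obtain ⟨⟨x, hx⟩, hx0'⟩ := exists_ne (0 : ↥(A ⊓ A'))
    have hx0 : x ≠ 0 := fun h => hx0' (Subtype.ext h)
    have hle : A ⊓ A' ≤ M ⊓ Lin F K x := fun y hy => ⟨hy.1.1, by
      obtain ⟨k, hk⟩ := Submodule.mem_span_singleton.1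
        (perp₂_line O hd hc0 hcc (x := x) (y := y) ⟨hx.1.2, hx.2.2⟩ ⟨hy.1.2, hy.2.2⟩ hx0)
      exact mem_lin_iff.2 ⟨k, hk⟩⟩
    have h6 := Submodule.finrank_mono hle
    by_cases hxx : β x x = 0
    · have := ng_pair O hng hMmem (mem_of_lin O hx0 hxx) (hnl x)
      omega
    · have := hline x hxx
      omega
  -- a common axis
  obtain ⟨u, hu, hu0⟩ := (Submodule.ne_bot_iff _).1 hU
  obtain ⟨k₀, rfl⟩ := mem_lin_iff.1 hu.2
  have hk₀ : k₀ ≠ 0 := fun h => hu0 (by rw [h, zero_smul])
  have hU1 : 1 ≤ finrank F ↥(M ⊓ Lin F K e) := Submodule.one_le_finrank_iff.2 hU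
  obtain ⟨w, hw, hwN⟩ : ∃ w ∈ M, w ∉ Lin F K e := by
    by_contra hc
    push Not at hc
    exact P.ne (eq_of_le_mem O hMmem (mem_of_lin O P.ne0 P.sing) hc)
  have hew : β e w ≠ 0 := fun h => no_perp_members O (fun _ => hr5) hng Nat.one_pos (by omega) hMmem
    (mem_of_lin O P.ne0 P.sing) P.ne hU1 hw hwN fun n hn => by
      obtain ⟨k, rfl⟩ := mem_lin_iff.1 hn
      rw [f_smul_right O, O.symm, h, mul_zero, map_zero]
  obtain ⟨z₀, hz₀, hz₀z⟩ : ∃ z ∈ M, β z z ≠ 0 := by
    by_contra hc
    push Not at hc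
    have h := hc _ (M.add_mem hu.1 hw)
    simp only [map_add, map_smul, LinearMap.add_apply, LinearMap.smul_apply, P.sing, hc w hw,
      O.symm w e, smul_eq_mul, mul_zero, zero_add, add_zero] at h
    refine hew ((mul_eq_zero.1 (show (2 * k₀) * β e w = 0 by linear_combination h)).resolve_left ?_)
    exact mul_ne_zero h2 hk₀
  obtain ⟨c, hc, -⟩ := haxis z₀ hz₀ hz₀z
  have hc0 := ((hAx c).1 hc).1
  have hall : ∀ z ∈ M, β z z ≠ 0 → z ∈ K ∙ c ∨ β c z = 0 := by
    intro z hz hzz
    obtain ⟨c', hc', h⟩ := haxis z hz hzz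
    obtain ⟨l, rfl⟩ := Submodule.mem_span_singleton.1 (huniq c c' hc hc')
    have hl : l ≠ 0 := fun h => ((hAx _).1 hc').1 (by simp [h])
    rcases h with h | h
    · obtain ⟨p, rfl⟩ := Submodule.mem_span_singleton.1 h
      exact Or.inl (Submodule.mem_span_singleton.2 ⟨p * l, by rw [smul_smul]⟩)
    · rw [map_smul, LinearMap.smul_apply, smul_eq_mul, mul_eq_zero] at h
      exact Or.inr (h.resolve_left hl)
  -- the member lies in the plane
  have hplane : ∀ y ∈ M, β c y = 0 := by
    by_contra hy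
    push Not at hy
    obtain ⟨y, hy, hcy⟩ := hy
    obtain ⟨x, hxdef⟩ : ∃ x, x = (β c y / β c c) • c := ⟨_, rfl⟩
    have hxM : x ∈ M := hxdef ▸ hhalf c hc y hy
    have hcx : β c x ≠ 0 := by
      rw [hxdef, map_smul, smul_eq_mul, div_mul_cancel₀ _ hc0]; exact hcy
    have hxx : β x x ≠ 0 := by
      simp only [hxdef, map_smul, LinearMap.smul_apply, smul_eq_mul]
      exact mul_ne_zero (div_ne_zero hcy hc0) (mul_ne_zero (div_ne_zero hcy hc0) hc0)
    set B := M ⊓ (LinearMap.ker (β c)).restrictScalars F with hBdef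
    have hBle := hB c hc
    rw [← hBdef] at hBle
    have hsum : ∀ p ∈ B, p ≠ 0 → β p p = -β x x := by
      intro p hp hp0
      have hcp : β c p = 0 := hp.2
      have hxp : β x p = 0 := by rw [hxdef, map_smul, LinearMap.smul_apply, hcp, smul_zero]
      by_contra hne
      have hzz : β (x + p) (x + p) ≠ 0 := by
        simp only [map_add, LinearMap.add_apply, hxp, O.symm p x, add_zero, zero_add]
        exact fun h => hne (by linear_combination h)
      rcases hall _ (M.add_mem hxM hp.1) hzz with h | h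
      · obtain ⟨l, hl⟩ := Submodule.mem_span_singleton.1 h
        rw [hxdef] at hl
        have hp' : p = (l - β c y / β c c) • c := by rw [sub_smul, hl, add_sub_cancel_left]
        rw [hp', map_smul, smul_eq_mul, mul_eq_zero] at hcp
        exact hp0 (by rw [hp', hcp.resolve_right hc0, zero_smul])
      · rw [map_add, hcp, add_zero] at h
        exact hcx h
    obtain ⟨g, hg⟩ := exists_linearIndependent_of_le_finrank (show 2 ≤ finrank F B by omega)
    have hp0 : (g 0 : V) ≠ 0 := fun h => hg.ne_zero 0 (Subtype.ext h)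
    have hq0 : (g 1 : V) ≠ 0 := fun h => hg.ne_zero 1 (Subtype.ext h)
    have hs : (g 0 + g 1 : B) ≠ 0 := fun h => by
      have := Fintype.linearIndependent_iff.1 hg ![1, 1] (by simpa [Fin.sum_univ_two] using h) 0
      simp at this
    have hd' : (g 0 - g 1 : B) ≠ 0 := fun h => by
      have := Fintype.linearIndependent_iff.1 hg ![1, -1]
        (by simpa [Fin.sum_univ_two, sub_eq_add_neg] using h) 0
      simp at this
    have e1 := hsum _ (g 0).2 hp0
    have e2 := hsum _ (g 1).2 hq0
    have e3 := hsum _ (g 0 + g 1).2 (fun h => hs (Subtype.ext h))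
    have e4 := hsum _ (g 0 - g 1).2 (fun h => hd' (Subtype.ext h))
    simp only [Submodule.coe_add, Submodule.coe_sub, map_add, map_sub, LinearMap.add_apply,
      LinearMap.sub_apply] at e3 e4
    exact hxx ((mul_eq_zero.1 (show (2 : K) * β x x = 0 by
      linear_combination 2 * e1 + 2 * e2 - e3 - e4)).resolve_left h2)
  -- a transformation moving the member off the plane
  have hce : β c e = 0 := by
    have h := hplane _ hu.1
    rw [map_smul, smul_eq_mul, mul_eq_zero] at h
    exact h.resolve_left hk₀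
  obtain ⟨x, hx0, t, ht0, ht⟩ := exists_sq_mul O hr2
    (div_ne_zero hk₀ (mul_ne_zero hc0 hew))
  obtain ⟨g, hg, hgy⟩ := O.eich e (t • c) P.sing (by rw [map_smul, O.symm, hce, smul_zero])
  have hcgw : β c (g w) ≠ 0 := by
    simp only [hgy, map_sub, map_add, map_smul, hce, hplane w hw, smul_eq_mul, mul_zero, sub_zero,
      zero_add]
    exact mul_ne_zero hew (mul_ne_zero ht0 hc0)
  have hgu : g (k₀ • e) = k₀ • e := by
    simp [hgy, P.sing, hce]
  have hne : M.map g.toLinearMap ≠ M := fun h => hcgw (hplane _ (h ▸ ⟨w, hw, rfl⟩))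
  refine no_perp_members O (fun _ => hr5) hng Nat.one_pos (by omega) (mem_map O hMmem hg) hMmem hne ?_
    (z := g w) ⟨w, hw, rfl⟩ (fun h => hcgw (hplane _ h)) fun m hm => ?_
  · refine Submodule.one_le_finrank_iff.2 fun h => hu0 ?_
    exact (Submodule.mem_bot F).1 (h ▸ ⟨map_fix O hu.1 hgu, hu.1⟩)
  · have hk : Algebra.trace F K (k₀ * β e m) = 0 := by
      rw [← f_smul_left O]; exact mem_ti O hMmem _ hu.1 m hm
    have hwm : Algebra.trace F K (β w m) = 0 := by rw [← O.tr]; exact mem_ti O hMmem w hw m hm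
    rw [hgy, O.tr]
    simp only [map_sub, map_add, map_smul, LinearMap.sub_apply, LinearMap.add_apply,
      LinearMap.smul_apply, hplane w hw, hplane m hm, smul_eq_mul, mul_zero, zero_add, add_zero, hwm,
      zero_sub, neg_eq_zero]
    have hE : t * (t * β c c) / 2 * β e w * β e m = algebraMap F K (x / 2) * (k₀ * β e m) := by
      rw [map_div₀, map_ofNat]
      have h3 : t * t * (β c c * β e w) = algebraMap F K x * k₀ := by
        rw [ht]; field_simp
      field_simp
      linear_combination (β e m) * h3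
    rw [hE, ← Algebra.smul_def, map_smul, hk, smul_zero]

end

end CfsgLib.MaxSub.ExtOrthMax
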