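/-
Elements trivial on the perpendicular of an intersection, and elements fixing the perpendicular of a
line.
-/
import Cfsg.Agent.Lib.MaxSub.ExtOrthMax.Three

set_option autoImplicit false
set_option maxHeartbeats 400000
set_option linter.unusedSectionVars false
set_option linter.style.haveILetI false

namespace CfsgLib.MaxSub.ExtOrthMax

open Module
open CfsgLib.MaxSub.ExtLin (Lin mem_lin_iff finrank_lin finrank_restrict)
open CfsgLib.MaxSub.ExtSymp (eq_zero_of_trace)

variable {F K V : Type*} [Field F] [Fintype F] [Field K] [Algebra F K] [FiniteDimensional F K]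
  [AddCommGroup V] [Module F V] [Module K V] [IsScalarTower F K V] [FiniteDimensional F V]
  {f : V →ₗ[F] V →ₗ[F] F} {β : V →ₗ[K] V →ₗ[K] K} {G : Subgroup (V ≃ₗ[F] V)}

/-- The elements fixing the perpendicular of a line. -/
def Cm (β : V →ₗ[K] V →ₗ[K] K) (G : Subgroup (V ≃ₗ[F] V)) (e : V) (δ : K →ₗ[F] K) : Prop :=
  ∃ g ∈ G, ∀ y, g y = y + δ (β e y) • e

/-- The elements fixing a subspace and trivial on its perpendicular modulo it. -/
def Ker (f : V →ₗ[F] V →ₗ[F] F) (G : Subgroup (V ≃ₗ[F] V)) (U : Submodule F V) (x : V ≃ₗ[F] V) :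
    Prop :=
  x ∈ G ∧ (∀ u ∈ U, x u = u) ∧ ∀ p, (∀ u ∈ U, f p u = 0) → x p - p ∈ U

section

variable (O : OX f β G)
include O

theorem cm_add {e : V} (he : β e e = 0) {δ δ' : K →ₗ[F] K} (h : Cm β G e δ) (h' : Cm β G e δ') :
    Cm β G e (δ + δ') := by
  obtain ⟨g, hg, hgy⟩ := h
  obtain ⟨g', hg', hgy'⟩ := h'
  refine ⟨g * g', mul_mem hg hg', fun y => ?_⟩
  show g (g' y) = _
  rw [hgy, hgy', map_add (β e), map_smul, he, smul_zero, add_zero, LinearMap.add_apply, add_smul]
  abel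

theorem cm_neg {e : V} (he : β e e = 0) {δ : K →ₗ[F] K} (h : Cm β G e δ) : Cm β G e (-δ) := by
  obtain ⟨g, hg, hgy⟩ := h
  refine ⟨g⁻¹, inv_mem hg, fun y => g.injective ?_⟩
  show g (g.symm y) = _
  rw [g.apply_symm_apply, hgy, map_add (β e), map_smul, he, smul_zero, add_zero, LinearMap.neg_apply,
    neg_smul]
  abel

theorem cm_alt {e : V} {δ : K →ₗ[F] K} (h : Cm β G e δ) (he0 : e ≠ 0) (he : β e e = 0) (k l : K) :
    Algebra.trace F K (δ k * l) = -Algebra.trace F K (δ l * k) := by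
  obtain ⟨g, hg, hgy⟩ := h
  have key : ∀ y, Algebra.trace F K (δ (β e y) * β e y) = 0 := fun y => by
    have h1 := O.iso g hg y y
    rw [hgy] at h1
    simp only [map_add, LinearMap.add_apply, f_smul_left O, f_smul_right O, O.symm y e, map_smul, he,
      smul_eq_mul, mul_zero, map_zero, add_zero] at h1
    have h2 : (2 : F) * Algebra.trace F K (δ (β e y) * β e y) = 0 := by linear_combination h1
    exact (mul_eq_zero.1 h2).resolve_left O.two
  obtain ⟨y₀, hy₀⟩ := exists_partner O he0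
  have key' : ∀ k, Algebra.trace F K (δ k * k) = 0 := fun k => by
    have := key (k • y₀)
    rwa [map_smul, hy₀, smul_eq_mul, mul_one] at this
  have h3 := key' (k + l)
  rw [map_add, add_mul, mul_add, mul_add] at h3
  simp only [map_add, key' k, key' l, zero_add, add_zero] at h3
  linear_combination h3

theorem cm_zero {e : V} : Cm β G e (0 : K →ₗ[F] K) := ⟨1, one_mem G, fun y => by simp⟩

theorem cm_scale_sq {e : V} (he0 : e ≠ 0) (he : β e e = 0) {δ : K →ₗ[F] K} (h : Cm β G e δ) {t : K}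
    (ht : t ≠ 0) :
    Cm β G e ((LinearMap.mulLeft F (t * t)).comp (δ.comp (LinearMap.mulLeft F (t * t)))) := by
  obtain ⟨d, hd, hdy⟩ := h
  obtain ⟨s, hs, hsl⟩ := scale O he0 he ht
  refine ⟨s * d * s⁻¹, mul_mem (mul_mem hs hd) (inv_mem hs), fun y => ?_⟩
  show s (d (s.symm y)) = _
  have hβ : β e (s.symm y) = t * t * β e y := sub_eq_zero.1 (eq_zero_of_trace (F := F) fun k => by
    have h1 : f (k • e) (s.symm y) = f ((k * (t * t)) • e) y := by
      conv_rhs => rw [← hsl, ← s.apply_symm_apply y]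
      rw [O.iso s hs]
    rw [f_smul_left O, f_smul_left O] at h1
    rw [mul_sub, map_sub, h1, mul_assoc, sub_self])
  rw [hdy, map_add, s.apply_symm_apply, hsl, hβ]
  simp only [LinearMap.comp_apply, LinearMap.mulLeft_apply]
  rw [mul_comm _ (t * t)]

/-- A symmetrised product with a square `x * x`, for `x * x + 1` a square. -/
theorem cm_pol_sq {e : V} (he0 : e ≠ 0) (he : β e e = 0) {δ : K →ₗ[F] K} (h : Cm β G e δ) {x y : K}
    (hy : y * y = x * x + 1) :
    Cm β G e ((LinearMap.mulLeft F (x * x)).comp δ + δ.comp (LinearMap.mulLeft F (x * x))) := by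
  have hQ : ∀ t : K,
      Cm β G e ((LinearMap.mulLeft F (t * t)).comp (δ.comp (LinearMap.mulLeft F (t * t)))) := fun t => by
    rcases eq_or_ne t 0 with rfl | ht
    · convert cm_zero O (e := e) using 1
      exact LinearMap.ext fun k => by simp
    · exact cm_scale_sq O he0 he h ht
  have h1 := cm_add O he (hQ y) (cm_neg O he (cm_add O he (hQ x) h))
  rw [hy] at h1
  convert h1 using 1
  refine LinearMap.ext fun k => ?_
  simp only [LinearMap.add_apply, LinearMap.neg_apply, LinearMap.comp_apply, LinearMap.mulLeft_apply,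
    add_mul, one_mul, map_add]
  ring

/-- A subspace of the field is its double perpendicular. -/
theorem mem_of_orth {W : Submodule F K} {x : K}
    (h : ∀ y : K, (∀ k ∈ W, Algebra.trace F K (k * y) = 0) → Algebra.trace F K (x * y) = 0) :
    x ∈ W := by
  by_contra hx
  obtain ⟨φ, hφ, hφW⟩ := Submodule.exists_dual_map_eq_bot_of_notMem hx inferInstance
  set y := ((Algebra.traceForm F K).toDual (traceForm_nondegenerate F K)).symm φ with hy
  have hyk : ∀ k, Algebra.trace F K (k * y) = φ k := fun k => by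
    rw [mul_comm, ← Algebra.traceForm_apply, hy,
      LinearMap.BilinForm.apply_toDual_symm_apply (hB := traceForm_nondegenerate F K)]
  refine hφ ?_
  rw [← hyk]
  exact h y fun k hk => by
    rw [hyk]; exact (Submodule.mem_bot F).1 (hφW ▸ Submodule.mem_map_of_mem hk)

theorem finrank_image {e : V} (he0 : e ≠ 0) (S : Submodule F K) :
    finrank F ↥(S.map ((LinearMap.toSpanSingleton K V e).restrictScalars F)) = finrank F S :=
  (Submodule.equivMapOfInjective _ (fun a b h => smul_left_injective K he0 h) S).finrank_eq.symm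

/-- An element fixing the perpendicular of a line whose map has small image is trivial. -/
theorem cm_small {j : ℕ} (hng : NG F β G j) {e : V} (he0 : e ≠ 0) (he : β e e = 0)
    {δ : K →ₗ[F] K} (h : Cm β G e δ) (hj : j + finrank F (LinearMap.range δ) < finrank F K) :
    δ = 0 := by
  obtain ⟨e', he', hee'⟩ := exists_opp O he0 he
  obtain ⟨d, hd, hdy⟩ := h
  have he'0 : e' ≠ 0 := fun h => by rw [h, map_zero] at hee'; exact zero_ne_one hee'
  have hval : ∀ k : K, d (k • e') = k • e' + δ k • e := fun k => by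
    rw [hdy, map_smul, hee', smul_eq_mul, mul_one]
  have heq : (Lin F K e').map d.toLinearMap = Lin F K e' := by
    by_contra hne
    have h1 := ng_pair O hng (mem_map O (mem_of_lin O he'0 he') hd) (mem_of_lin O he'0 he') hne
    have h2 := Submodule.finrank_mono (show (LinearMap.ker δ).map
        ((LinearMap.toSpanSingleton K V e').restrictScalars F) ≤
          (Lin F K e').map d.toLinearMap ⊓ Lin F K e' from by
      rintro _ ⟨k, hk, rfl⟩
      refine ⟨map_fix O (mem_lin_iff.2 ⟨k, rfl⟩) ?_, mem_lin_iff.2 ⟨k, rfl⟩⟩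
      show d (k • e') = k • e'
      rw [hval, LinearMap.mem_ker.1 hk, zero_smul, add_zero])
    rw [finrank_image O he'0] at h2
    have h3 := LinearMap.finrank_range_add_finrank_ker δ
    omega
  refine LinearMap.ext fun k => ?_
  obtain ⟨l, hl⟩ := mem_lin_iff.1 (heq.le ⟨k • e', mem_lin_iff.2 ⟨k, rfl⟩, rfl⟩)
  have h1 := congrArg (β e') hl
  rw [show d.toLinearMap (k • e') = _ from hval k] at h1
  simp only [map_add, map_smul, he', O.symm e' e, hee', smul_eq_mul, mul_zero, mul_one, zero_add] at h1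
  exact h1.symm

theorem ker_perp {U : Submodule F V} {x : V ≃ₗ[F] V} (hxG : x ∈ G) (hx : ∀ u ∈ U, x u = u) (a : V) :
    ∀ u ∈ U, f (x a - a) u = 0 := fun u hu => by
  rw [map_sub, LinearMap.sub_apply]
  conv_lhs => arg 1; rw [← hx u hu, O.iso x hxG]
  exact sub_self _

theorem inv_fix {U : Submodule F V} {x : V ≃ₗ[F] V} (hx : ∀ u ∈ U, x u = u) {u : V} (hu : u ∈ U) :
    (x⁻¹ : V ≃ₗ[F] V) u = u := by
  conv_lhs => rw [← hx u hu]
  exact x.symm_apply_apply u

theorem fix_perp {U : Submodule F V} {h : V ≃ₗ[F] V} (hG : h ∈ G) (hh : ∀ u ∈ U, h u = u) {p : V}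
    (hp : ∀ u ∈ U, f p u = 0) : ∀ u ∈ U, f (h p) u = 0 := fun u hu => by
  rw [← hh u hu, O.iso h hG]
  exact hp u hu

theorem ker_mul {U : Submodule F V} (hti : ∀ u ∈ U, ∀ u' ∈ U, f u u' = 0) {x y : V ≃ₗ[F] V}
    (hx : Ker f G U x) (hy : Ker f G U y) :
    Ker f G U (x * y) ∧ ∀ a, (x * y) a - a - ((x a - a) + (y a - a)) ∈ U := by
  refine ⟨⟨mul_mem hx.1 hy.1, fun u hu => ?_, fun p hp => ?_⟩, fun a => ?_⟩
  · show x (y u) = u
    rw [hy.2.1 u hu, hx.2.1 u hu]
  · have h1 := hy.2.2 p hp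
    show x (y p) - p ∈ U
    rw [show x (y p) - p = x (y p - p) + (x p - p) by rw [map_sub]; abel, hx.2.1 _ h1]
    exact U.add_mem h1 (hx.2.2 p hp)
  · show x (y a) - a - ((x a - a) + (y a - a)) ∈ U
    rw [show x (y a) - a - ((x a - a) + (y a - a)) = x (y a - a) - (y a - a) by rw [map_sub]; abel]
    exact hx.2.2 _ (ker_perp O hy.1 hy.2.1 a)

theorem ker_inv {U : Submodule F V} {x : V ≃ₗ[F] V} (hx : Ker f G U x) :
    Ker f G U x⁻¹ ∧ ∀ a, (x⁻¹ : V ≃ₗ[F] V) a - a + (x a - a) ∈ U := by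
  have hperp := fun {p : V} (hp : ∀ u ∈ U, f p u = 0) =>
    fix_perp O (inv_mem hx.1) (fun u hu => inv_fix O hx.2.1 hu) hp
  refine ⟨⟨inv_mem hx.1, fun u hu => inv_fix O hx.2.1 hu, fun p hp => ?_⟩, fun a => ?_⟩
  · have h1 := hx.2.2 _ (hperp hp)
    have h2 : x ((x⁻¹ : V ≃ₗ[F] V) p) = p := x.apply_symm_apply p
    rw [h2] at h1
    rw [← neg_sub]
    exact U.neg_mem h1
  · have h2 : x ((x⁻¹ : V ≃ₗ[F] V) a) = a := x.apply_symm_apply a
    have h1 := hx.2.2 _ (ker_perp O (inv_mem hx.1) (fun u hu => inv_fix O hx.2.1 hu) a)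
    rw [map_sub, h2] at h1
    convert U.neg_mem h1 using 1
    abel

theorem ker_conj {U : Submodule F V} {x h : V ≃ₗ[F] V} (hx : Ker f G U x) (hG : h ∈ G)
    (hh : ∀ u ∈ U, h u = u) :
    Ker f G U (h * x * h⁻¹) ∧ ∀ a, (h * x * h⁻¹) a - a - h (x a - a) ∈ U := by
  have hi : ∀ a, h ((h⁻¹ : V ≃ₗ[F] V) a) = a := fun a => h.apply_symm_apply a
  have hval : ∀ a, (h * x * h⁻¹) a - a =
      h (x ((h⁻¹ : V ≃ₗ[F] V) a) - (h⁻¹ : V ≃ₗ[F] V) a) := fun a => by
    rw [map_sub, hi]; rfl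
  refine ⟨⟨mul_mem (mul_mem hG hx.1) (inv_mem hG), fun u hu => ?_, fun p hp => ?_⟩, fun a => ?_⟩
  · show h (x ((h⁻¹ : V ≃ₗ[F] V) u)) = u
    rw [inv_fix O hh hu, hx.2.1 u hu, hh u hu]
  · have h1 := hx.2.2 _ (fix_perp O (inv_mem hG) (fun u hu => inv_fix O hh hu) hp)
    rw [hval, hh _ h1]
    exact h1
  · have h1 := hx.2.2 _ (ker_perp O (inv_mem hG) (fun u hu => inv_fix O hh hu) a)
    rw [hval, ← map_sub, show (x ((h⁻¹ : V ≃ₗ[F] V) a) - (h⁻¹ : V ≃ₗ[F] V) a) - (x a - a) =
      x ((h⁻¹ : V ≃ₗ[F] V) a - a) - ((h⁻¹ : V ≃ₗ[F] V) a - a) by rw [map_sub]; abel, hh _ h1]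
    exact h1

/-- These elements commute, when no two members meet in more. -/
theorem ker_commute (hd : finrank K V = 3) {j : ℕ} (hng : NG F β G j) {e : V} (he0 : e ≠ 0)
    (he : β e e = 0) {U : Submodule F V} (hUN : U ≤ Lin F K e) (hUj : finrank F U = j)
    (hj : 2 * j < finrank F K) {x y : V ≃ₗ[F] V} (hx : Ker f G U x) (hy : Ker f G U y) :
    x * y = y * x := by
  obtain ⟨e', he', hee'⟩ := exists_opp O he0 he
  obtain ⟨v, hev, he'v, hvv⟩ := exists_aniso O he he' (by rw [hee']; exact one_ne_zero)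
  set w := x * y * (x⁻¹ : V ≃ₗ[F] V) * (y⁻¹ : V ≃ₗ[F] V) with hwdef
  have hwG : w ∈ G :=
    mul_mem (mul_mem (mul_mem hx.1 hy.1) (inv_mem hx.1)) (inv_mem hy.1)
  have hfix : ∀ p, (∀ u ∈ U, f p u = 0) → w p = p := by
    intro p hp
    have hcomm : ∀ q, (∀ u ∈ U, f q u = 0) → x (y q) = y (x q) := fun q hq => by
      have h1 := hx.2.2 q hq
      have h2 := hy.2.2 q hq
      rw [show y q = q + (y q - q) by abel, map_add, hx.2.1 _ h2]
      conv_rhs => rw [show x q = q + (x q - q) by abel, map_add, hy.2.1 _ h1]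
      abel
    show x (y ((x⁻¹ : V ≃ₗ[F] V) ((y⁻¹ : V ≃ₗ[F] V) p))) = p
    rw [hcomm _ (fix_perp O (inv_mem hx.1) (fun u hu => inv_fix O hx.2.1 hu)
      (fix_perp O (inv_mem hy.1) (fun u hu => inv_fix O hy.2.1 hu) hp))]
    show y (x (x.symm (y.symm p))) = p
    rw [x.apply_symm_apply, y.apply_symm_apply]
  have hperp : ∀ p, β e p = 0 → ∀ u ∈ U, f p u = 0 := fun p hp u hu => f_lin' O hp u (hUN hu)
  set W := U.comap ((LinearMap.toSpanSingleton K V e).restrictScalars F) with hW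
  have horth : ∀ a p, (∀ u ∈ U, f p u = 0) → f (w a - a) p = 0 := fun a p hp => by
    rw [map_sub, LinearMap.sub_apply]
    conv_lhs => arg 1; rw [← hfix p hp, O.iso w hwG]
    exact sub_self _
  have hd0 : ∀ a, ∃ ρ, w a - a = ρ • e ∧ ρ ∈ W := by
    intro a
    obtain ⟨d, hd'⟩ : ∃ d, d = w a - a := ⟨_, rfl⟩
    have h1 : β e d = 0 := eq_zero_of_trace (F := F) fun k => by
      rw [← f_smul_left O, f_symm O, hd']
      exact horth a _ (hperp _ (by rw [map_smul, he, smul_zero]))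
    have h2 : β v d = 0 := eq_zero_of_trace (F := F) fun k => by
      rw [← f_smul_left O, f_symm O, hd']
      exact horth a _ (hperp _ (by rw [map_smul, hev, smul_zero]))
    have h3 := frame_expand O hd he he' hee' hev he'v hvv d
    rw [h1, h2, zero_div, zero_smul, zero_smul, add_zero, add_zero] at h3
    refine ⟨β e' d, hd' ▸ h3, mem_of_orth O fun ψ hψ => ?_⟩
    have h4 := horth a (ψ • e') (fun u hu => by
      obtain ⟨k, rfl⟩ := mem_lin_iff.1 (hUN hu)
      rw [f_smul_left O, map_smul, O.symm e' e, hee', smul_eq_mul, mul_one, mul_comm]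
      exact hψ k hu)
    rw [← hd', h3, f_smul_left O, map_smul, hee', smul_eq_mul, mul_one] at h4
    exact h4
  choose ρ hρ hρW using hd0
  let δ : K →ₗ[F] K :=
    { toFun := fun k => ρ (k • e')
      map_add' := fun a b => smul_left_injective K he0 (by
        show ρ ((a + b) • e') • e = (ρ (a • e') + ρ (b • e')) • e
        rw [add_smul (ρ _), ← hρ, ← hρ, ← hρ, add_smul, map_add]; abel)
      map_smul' := fun c a => smul_left_injective K he0 (by
        show ρ ((c • a) • e') • e = (c • ρ (a • e')) • e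
        rw [smul_assoc c (ρ _), ← hρ, ← hρ, smul_assoc, map_smul, smul_sub]) }
  have hδ : ∀ k, δ k = ρ (k • e') := fun k => rfl
  have hcm : Cm β G e δ := ⟨w, hwG, fun a => by
    have h1 : w (a - β e a • e') = a - β e a • e' :=
      hfix _ (hperp _ (by rw [map_sub, map_smul, hee', smul_eq_mul, mul_one, sub_self]))
    rw [map_sub] at h1
    rw [hδ, ← hρ, ← sub_eq_zero]
    rw [← sub_eq_zero] at h1
    rw [← h1]
    abel⟩
  have hWU : finrank F W ≤ j := by
    rw [← hUj, ← finrank_image O he0 W]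
    exact Submodule.finrank_mono (Submodule.map_comap_le _ _)
  have hδ0 : δ = 0 := cm_small O hng he0 he hcm (by
    have := Submodule.finrank_mono (show LinearMap.range δ ≤ W by
      rintro _ ⟨k, rfl⟩; exact hρW _)
    omega)
  have hw1 : w = 1 := LinearEquiv.ext fun a => by
    have h1 : w (a - β e a • e') = a - β e a • e' :=
      hfix _ (hperp _ (by rw [map_sub, map_smul, hee', smul_eq_mul, mul_one, sub_self]))
    rw [map_sub] at h1
    have h2 := hρ (β e a • e')
    rw [← hδ, hδ0, LinearMap.zero_apply, zero_smul, sub_eq_zero] at h2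
    rw [h2] at h1
    exact sub_left_injective h1
  rw [hwdef, mul_inv_eq_one, mul_inv_eq_iff_eq_mul] at hw1
  exact hw1

theorem ker_sym (hd : finrank K V = 3) {j : ℕ} (hng : NG F β G j) {e : V} (he0 : e ≠ 0)
    (he : β e e = 0) {U : Submodule F V} (hUN : U ≤ Lin F K e) (hUj : finrank F U = j)
    (hj : 2 * j < finrank F K) {x y : V ≃ₗ[F] V} (hx : Ker f G U x) (hy : Ker f G U y) (a b : V) :
    f (x a - a) (y b - b) = f (y a - a) (x b - b) := by
  have hxy : x (y a - a) - (y a - a) = y (x a - a) - (x a - a) := by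
    have h : x (y a) = y (x a) := congrArg (fun z : V ≃ₗ[F] V => z a)
      (ker_commute O hd hng he0 he hUN hUj hj hx hy)
    rw [map_sub, map_sub, h]; abel
  have key : ∀ z, Ker f G U z → ∀ p, (∀ u ∈ U, f p u = 0) → f (z p - p) b = -f p (z b - b) := by
    intro z hz p hp
    have h1 : f (z p - p) (z b - b) = 0 := by
      rw [f_symm O]; exact ker_perp O hz.1 hz.2.1 b _ (hz.2.2 p hp)
    have h2 := O.iso z hz.1 p b
    simp only [map_sub, LinearMap.sub_apply] at h1 ⊢
    linear_combination h2 - h1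
  have h := congrArg (fun q => f q b) hxy
  rw [key x hx _ (ker_perp O hy.1 hy.2.1 a), key y hy _ (ker_perp O hx.1 hx.2.1 a)] at h
  exact (neg_inj.1 h).symm

/-- The second differences. -/
theorem ker_diff {e v : V} (he : β e e = 0) (hev : β e v = 0) {U : Submodule F V}
    (hUN : U ≤ Lin F K e) (hti : ∀ u ∈ U, ∀ u' ∈ U, f u u' = 0) {x : V ≃ₗ[F] V} (hx : Ker f G U x)
    (t : K) :
    ∃ z, Ker f G U z ∧ ∀ a, z a - a + (t * β v v * β e (x a - a)) • e ∈ U := by
  have hE : ∀ s : K, ∃ g ∈ G, (∀ u ∈ U, g u = u) ∧ ∀ y, g y =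
      y + β e y • s • v - (s * β v y + s * s * β v v / 2 * β e y) • e := by
    intro s
    obtain ⟨g, hg, hgy⟩ := O.eich e (s • v) he (by rw [map_smul, hev, smul_zero])
    refine ⟨g, hg, fun u hu => ?_, fun y => ?_⟩
    · obtain ⟨l, rfl⟩ := mem_lin_iff.1 (hUN hu)
      simp [hgy, he, O.symm v e, hev]
    · rw [hgy]
      simp only [map_smul, LinearMap.smul_apply, smul_eq_mul]
      congr 2
      ring
  obtain ⟨g₁, hg₁, hf₁, h₁⟩ := hE 1
  obtain ⟨g₂, hg₂, hf₂, h₂⟩ := hE t
  obtain ⟨g₃, hg₃, hf₃, h₃⟩ := hE (t + 1)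
  obtain ⟨k₁, c₁⟩ := ker_conj O hx hg₁ hf₁
  obtain ⟨k₂, c₂⟩ := ker_conj O hx hg₂ hf₂
  obtain ⟨k₃, c₃⟩ := ker_conj O hx hg₃ hf₃
  obtain ⟨i₁, d₁⟩ := ker_inv O k₁
  obtain ⟨i₂, d₂⟩ := ker_inv O k₂
  obtain ⟨m₁, s₁⟩ := ker_mul O hti k₃ i₂
  obtain ⟨m₂, s₂⟩ := ker_mul O hti m₁ i₁
  obtain ⟨m₃, s₃⟩ := ker_mul O hti m₂ hx
  refine ⟨_, m₃, fun a => ?_⟩
  obtain ⟨X, hX⟩ : ∃ X, X = x a - a := ⟨_, rfl⟩
  have hcomb : g₃ X - g₂ X - g₁ X + X = -((t * β v v * β e X) • e) := by
    rw [h₁, h₂, h₃]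
    have := two_K O
    match_scalars <;> field_simp <;> ring
  have h := U.add_mem (U.add_mem (s₃ a) (s₂ a)) (U.add_mem (s₁ a) (U.add_mem
    (U.sub_mem (c₃ a) (c₂ a)) (U.sub_mem (U.add_mem (d₂ a) (d₁ a)) (c₁ a))))
  rw [← hX] at h ⊢
  rw [← neg_neg ((t * β v v * β e X) • e), ← hcomb, ← sub_eq_add_neg]
  convert h using 1
  abel

/-- Proportionality of the line coordinates. -/
theorem ker_key (hd : finrank K V = 3) {j : ℕ} (hng : NG F β G j) {e : V} (he0 : e ≠ 0)
    (he : β e e = 0) {U : Submodule F V} (hUN : U ≤ Lin F K e) (hUj : finrank F U = j)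
    (hj : 2 * j < finrank F K) {x y : V ≃ₗ[F] V} (hx : Ker f G U x) (hy : Ker f G U y) (a b : V) :
    β e (x a - a) * β e (y b - b) = β e (x b - b) * β e (y a - a) := by
  obtain ⟨e', he', hee'⟩ := exists_opp O he0 he
  obtain ⟨v, hev, he'v, hvv⟩ := exists_aniso O he he' (by rw [hee']; exact one_ne_zero)
  refine sub_eq_zero.1 (eq_zero_of_trace (F := F) fun k => ?_)
  have hti : ∀ u ∈ U, ∀ u' ∈ U, f u u' = 0 := fun u hu u' hu' =>
    f_lin' O (beta_lin O he (hUN hu)) u' (hUN hu')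
  obtain ⟨z, hz, hza⟩ := ker_diff O he hev hUN hti hx (k / β v v)
  have hval : ∀ p q, f (z p - p) (y q - q) =
      -Algebra.trace F K (k * β e (x p - p) * β e (y q - q)) := by
    intro p q
    have h := ker_perp O hy.1 hy.2.1 q _ (hza p)
    rw [f_symm O, map_add, LinearMap.add_apply, f_smul_left O, div_mul_cancel₀ _ hvv] at h
    linear_combination h
  have h := ker_sym O hd hng he0 he hUN hUj hj hz hy a b
  rw [f_symm O (y a - a), hval, hval] at h
  rw [mul_sub, map_sub, ← mul_assoc, ← mul_assoc]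
  linear_combination -h

end

end CfsgLib.MaxSub.ExtOrthMax
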