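/-
Degree three over the ground field, dimension three over the extension: elements fixing a singular
line pointwise and elements stabilising it.
-/
import Cfsg.Agent.Lib.MaxSub.ExtOrthMax.Kernel

set_option autoImplicit false
set_option maxHeartbeats 800000
set_option linter.unusedSectionVars false
set_option linter.style.haveILetI false

namespace CfsgLib.MaxSub.ExtOrthMax

open Module
open CfsgLib.MaxSub.ExtLin (Lin mem_lin_iff finrank_lin)
open CfsgLib.MaxSub.ExtSymp (eq_zero_of_trace)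

variable {F K V : Type*} [Field F] [Fintype F] [Field K] [Algebra F K] [FiniteDimensional F K]
  [AddCommGroup V] [Module F V] [Module K V] [IsScalarTower F K V] [FiniteDimensional F V]
  {f : V →ₗ[F] V →ₗ[F] F} {β : V →ₗ[K] V →ₗ[K] K} {G : Subgroup (V ≃ₗ[F] V)}

/-- The Eichler transformation at a singular vector by a multiple of a perpendicular one. -/
def EichMap (β : V →ₗ[K] V →ₗ[K] K) (e z : V) (t : K) (y : V) : V :=
  y + β e y • t • z - (t * β z y + t * t * β z z / 2 * β e y) • e

section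

variable (O : OX f β G)
include O

theorem eichMap_mem {e z : V} (he : β e e = 0) (hez : β e z = 0) (t : K) :
    ∃ g ∈ G, (∀ n ∈ Lin F K e, g n = n) ∧ ∀ y, g y = EichMap β e z t y := by
  obtain ⟨g, hg, hgy⟩ := O.eich e (t • z) he (by rw [map_smul, hez, smul_zero])
  have h : ∀ y, g y = EichMap β e z t y := fun y => by
    rw [hgy, EichMap]
    simp only [map_smul, LinearMap.smul_apply, smul_eq_mul]
    congr 2
    ring
  refine ⟨g, hg, fun n hn => ?_, h⟩
  obtain ⟨k, rfl⟩ := mem_lin_iff.1 hn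
  simp [h, EichMap, he, O.symm z e, hez]

/-- Values of an isometry on the line and its perpendicular. -/
theorem beta_stab {e : V} {h : V ≃ₗ[F] V} (hh : h ∈ G)
    (hN : (Lin F K e).map h.toLinearMap = Lin F K e) {y : V} (hy : β e y = 0) :
    β e (h y) = 0 ∧ β e (h.symm y) = 0 := by
  constructor
  · refine f_lin O fun n hn => ?_
    rw [← hN] at hn
    obtain ⟨m, hm, rfl⟩ := hn
    show f (h y) (h m) = 0
    rw [O.iso h hh]
    exact f_lin' O hy m hm
  · refine f_lin O fun n hn => ?_
    rw [← O.iso h hh, h.apply_symm_apply]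
    exact f_lin' O hy _ (hN.le ⟨n, hn, rfl⟩)

theorem beta_fix_lin {e : V} {x : V ≃ₗ[F] V} (hx : x ∈ G) (h : ∀ n ∈ Lin F K e, x n = n) (y : V) :
    β e (x y) = β e y := by
  refine sub_eq_zero.1 (eq_zero_of_trace (F := F) fun k => ?_)
  rw [mul_sub, map_sub, ← f_smul_left O, ← f_smul_left O]
  conv_lhs => arg 1; rw [← h _ (mem_lin_iff.2 ⟨k, rfl⟩), O.iso x hx]
  exact sub_self _

/-- A frame through a singular vector and an anisotropic perpendicular one. -/
theorem exists_frame {e z : V} (he0 : e ≠ 0) (he : β e e = 0) (hez : β e z = 0) :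
    ∃ e' v : V, ∃ x : K, β e' e' = 0 ∧ β e e' = 1 ∧ v = z + x • e ∧ β e v = 0 ∧ β e' v = 0 ∧
      β v v = β z z := by
  obtain ⟨e', he', hee'⟩ := exists_opp O he0 he
  refine ⟨e', z + (-β e' z) • e, -β e' z, he', hee', rfl, ?_, ?_, ?_⟩
  · simp [hez, he]
  · simp [O.symm e' e, hee']
  · simp [he, hez, O.symm z e]

/-- With no element fixing the perpendicular of a line, the elements fixing a line pointwise and
trivial on its perpendicular modulo it are Eichler transformations. -/
theorem uni_eich (hd : finrank K V = 3) {e z : V} (he0 : e ≠ 0) (he : β e e = 0) (hez : β e z = 0)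
    (hzz : β z z ≠ 0) (hcm : ∀ δ : K →ₗ[F] K, Cm β G e δ → δ = 0) {x : V ≃ₗ[F] V} (hxG : x ∈ G)
    (hxN : ∀ n ∈ Lin F K e, x n = n) (hx' : ∀ y, β e y = 0 → x y - y ∈ Lin F K e) :
    ∃ s : K, ∀ y, x y = EichMap β e z s y := by
  obtain ⟨e', v, x₀, he', hee', hv, hev, he'v, hvz⟩ := exists_frame O he0 he hez
  obtain ⟨c, hc⟩ : ∃ c, c = β v v := ⟨_, rfl⟩
  have hvv : c ≠ 0 := by rw [hc, hvz]; exact hzz
  have hK := two_K O
  have hexp : ∀ y : V, y = β e' y • e + (β v y / c) • v + β e y • e' := fun y => by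
    rw [hc]; exact frame_expand O hd he he' hee' hev he'v (hc ▸ hvv) y
  have hE : ∀ t : K, ∃ g ∈ G, (∀ n ∈ Lin F K e, g n = n) ∧ ∀ y, g y = EichMap β e v t y :=
    fun t => eichMap_mem O he hev t
  choose E hEG hEN hEy' using hE
  have hEy : ∀ t y, E t y = y + β e y • t • v - (t * β v y + t * t * c / 2 * β e y) • e := fun t y => by
    rw [hEy', EichMap, ← hc]
  have hβ := beta_fix_lin O hxG hxN
  let L : K →ₗ[F] K := ((β e').restrictScalars F).comp ((x.toLinearMap - LinearMap.id).comp
    ((LinearMap.toSpanSingleton K V v).restrictScalars F))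
  let A : K →ₗ[F] K := ((β e').restrictScalars F).comp ((x.toLinearMap - LinearMap.id).comp
    ((LinearMap.toSpanSingleton K V e').restrictScalars F))
  let B : K →ₗ[F] K := (LinearMap.mulLeft F c⁻¹).comp (((β v).restrictScalars F).comp
    ((x.toLinearMap - LinearMap.id).comp ((LinearMap.toSpanSingleton K V e').restrictScalars F)))
  have hL : ∀ ζ : K, x (ζ • v) = ζ • v + L ζ • e := by
    intro ζ
    obtain ⟨l, hl⟩ := mem_lin_iff.1 (hx' (ζ • v) (by rw [map_smul, hev, smul_zero]))
    have : L ζ = l := by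
      show β e' (x (ζ • v) - ζ • v) = l
      rw [← hl, map_smul, O.symm, hee', smul_eq_mul, mul_one]
    rw [this, hl, add_sub_cancel]
  have hAB : ∀ φ : K, x (φ • e') = φ • e' + A φ • e + B φ • v := by
    intro φ
    have h3 := hexp (x (φ • e') - φ • e')
    rw [show β e (x (φ • e') - φ • e') = 0 by rw [map_sub, hβ, sub_self], zero_smul, add_zero] at h3
    have h4 : β v (x (φ • e') - φ • e') / c = B φ := div_eq_inv_mul _ _
    rw [h4] at h3
    rw [add_assoc, ← sub_eq_iff_eq_add']
    exact h3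
  have hxy : ∀ y, x y = y + L (β v y / c) • e + A (β e y) • e + B (β e y) • v := by
    intro y
    conv_lhs => rw [hexp y]
    rw [map_add, map_add, hxN _ (mem_lin_iff.2 ⟨_, rfl⟩), hL, hAB]
    conv_rhs => arg 1; arg 1; arg 1; rw [hexp y]
    abel
  have hlin : ∀ t φ, L (t * φ) + t * c * B φ = 0 := by
    intro t
    have hδ : Cm β G e (L.comp (LinearMap.mulLeft F t) + (LinearMap.mulLeft F (t * c)).comp B) := by
      refine ⟨x * E t * x⁻¹ * (E t)⁻¹,
        mul_mem (mul_mem (mul_mem hxG (hEG t)) (inv_mem hxG)) (inv_mem (hEG t)), fun w => ?_⟩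
      obtain ⟨u, rfl⟩ := (E t).surjective w
      obtain ⟨y, rfl⟩ := x.surjective u
      show x (E t (x.symm ((E t).symm (E t (x y))))) = _
      rw [(E t).symm_apply_apply, x.symm_apply_apply, beta_fix_lin O (hEG t) (hEN t), hβ]
      rw [hEy, hEy, map_sub, map_add, smul_smul (β e y), hL, hxN _ (mem_lin_iff.2 ⟨_, rfl⟩)]
      rw [hβ]
      have hv : β v (x y) = β v y + c * B (β e y) := by
        rw [hxy]
        simp only [map_add, map_smul, O.symm v e, hev, ← hc, smul_eq_mul, mul_zero, add_zero]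
        ring
      rw [hv]
      simp only [LinearMap.add_apply, LinearMap.comp_apply, LinearMap.mulLeft_apply]
      rw [mul_comm (β e y) t]
      module
    intro φ
    exact LinearMap.congr_fun (hcm _ hδ) φ
  obtain ⟨l, hl⟩ : ∃ l, l = L 1 := ⟨_, rfl⟩
  have hLl : ∀ φ, L φ = l * φ := fun φ => by
    have h1 := hlin φ 1
    have h3 := hlin 1 1
    rw [mul_one] at h1
    rw [one_mul, ← hl, one_mul] at h3
    linear_combination h1 - φ * h3
  obtain ⟨s, hs⟩ : ∃ s, s = -l / c := ⟨_, rfl⟩
  have hl' : l = -(s * c) := by rw [hs]; field_simp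
  have hBs : ∀ φ, B φ = s * φ := fun φ => by
    have h := hlin 1 φ
    rw [one_mul, one_mul, hLl] at h
    rw [hs]
    field_simp
    linear_combination h
  have hδ : Cm β G e (A + LinearMap.mulLeft F (s * s * c / 2)) := by
    refine ⟨x * (E s)⁻¹, mul_mem hxG (inv_mem (hEG s)), fun w => ?_⟩
    obtain ⟨y, rfl⟩ := (E s).surjective w
    show x ((E s).symm (E s y)) = _
    rw [(E s).symm_apply_apply, beta_fix_lin O (hEG s) (hEN s), hxy, hEy, hLl, hBs]
    simp only [LinearMap.add_apply, LinearMap.mulLeft_apply]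
    rw [hl', show -(s * c) * (β v y / c) = -(s * β v y) by field_simp]
    module
  refine ⟨s, fun y => ?_⟩
  have hA := LinearMap.congr_fun (hcm _ hδ) (β e y)
  simp only [LinearMap.add_apply, LinearMap.mulLeft_apply, LinearMap.zero_apply,
    add_eq_zero_iff_eq_neg] at hA
  rw [hxy, hLl, hBs, hA, hl', show -(s * c) * (β v y / c) = -(s * β v y) by field_simp, EichMap, hc,
    hvz, hv, map_add, LinearMap.add_apply, map_smul, LinearMap.smul_apply, smul_eq_mul]
  module

/-- With no element fixing the perpendicular of a line, the stabiliser of the line normalises its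
Eichler transformations. -/
theorem conj_eich (hd : finrank K V = 3) {e z : V} (he0 : e ≠ 0) (he : β e e = 0) (hez : β e z = 0)
    (hzz : β z z ≠ 0) (hcm : ∀ δ : K →ₗ[F] K, Cm β G e δ → δ = 0) {h : V ≃ₗ[F] V} (hh : h ∈ G)
    (hN : (Lin F K e).map h.toLinearMap = Lin F K e) (t : K) :
    ∃ s : K, ∀ y, h (EichMap β e z t y) = EichMap β e z s (h y) := by
  obtain ⟨g, hg, hgN, hgy⟩ := eichMap_mem O he hez t
  have hfix : ∀ n ∈ Lin F K e, (h * g * h⁻¹) n = n := fun n hn => by
    rw [← hN] at hn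
    obtain ⟨m, hm, rfl⟩ := hn
    show h (g (h.symm (h m))) = h m
    rw [h.symm_apply_apply, hgN m hm]
  have hperp : ∀ y, β e y = 0 → (h * g * h⁻¹) y - y ∈ Lin F K e := fun y hy => by
    show h (g (h.symm y)) - y ∈ _
    have h1 := (beta_stab O hh hN hy).2
    rw [show h (g (h.symm y)) - y = h (g (h.symm y) - h.symm y) by rw [map_sub, h.apply_symm_apply]]
    refine hN.le ⟨_, ?_, rfl⟩
    rw [hgy, EichMap, h1, zero_smul, add_zero, sub_sub_cancel_left]
    exact neg_mem (mem_lin_iff.2 ⟨_, rfl⟩)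
  obtain ⟨s, hs⟩ := uni_eich O hd he0 he hez hzz hcm
    (mul_mem (mul_mem hh hg) (inv_mem hh)) hfix hperp
  refine ⟨s, fun y => ?_⟩
  rw [← hs, ← hgy]
  show _ = h (g (h.symm (h y)))
  rw [h.symm_apply_apply]

/-- The action on the line of an element stabilising it, and on its perpendicular modulo it. -/
theorem lin_mult (hd : finrank K V = 3) {e z : V} (he0 : e ≠ 0) (he : β e e = 0) (hez : β e z = 0)
    (hzz : β z z ≠ 0) (hcm : ∀ δ : K →ₗ[F] K, Cm β G e δ → δ = 0) {h : V ≃ₗ[F] V} (hh : h ∈ G)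
    (hN : (Lin F K e).map h.toLinearMap = Lin F K e) :
    ∃ A D : K →ₗ[F] K, (∀ a, h (a • e) = A a • e) ∧
      (∀ q, D q = β z (h (q • z)) / β z z) ∧ A 1 ≠ 0 ∧ D 1 ≠ 0 ∧
      (∀ a q, A (a * q) * D 1 = A a * D q) ∧ ∀ a b, A (a * b) * A 1 = A a * A b := by
  obtain ⟨e', he', hee'⟩ := exists_opp O he0 he
  let A : K →ₗ[F] K := ((β e').restrictScalars F).comp (h.toLinearMap.comp
    ((LinearMap.toSpanSingleton K V e).restrictScalars F))
  let D : K →ₗ[F] K := (LinearMap.mulLeft F (β z z)⁻¹).comp (((β z).restrictScalars F).comp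
    (h.toLinearMap.comp ((LinearMap.toSpanSingleton K V z).restrictScalars F)))
  have hD : ∀ q, D q = β z (h (q • z)) / β z z := fun q => (div_eq_inv_mul _ _).symm
  have hA : ∀ a, h (a • e) = A a • e := fun a => by
    obtain ⟨l, hl⟩ := mem_lin_iff.1 (hN.le ⟨a • e, mem_lin_iff.2 ⟨a, rfl⟩, rfl⟩)
    show _ = β e' (h (a • e)) • e
    rw [show h (a • e) = l • e from hl.symm, map_smul, O.symm, hee', smul_eq_mul, mul_one]
  have key : ∀ a, ∃ s, ∀ q, A (a * q) = s * (β z z * D q) := by
    intro a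
    obtain ⟨s, hs⟩ := conj_eich O hd he0 he hez hzz hcm hh hN (a / β z z)
    refine ⟨s, fun q => ?_⟩
    have hq : β e (q • z) = 0 := by rw [map_smul, hez, smul_zero]
    have h1 := hs (q • z)
    rw [EichMap, EichMap, hq, (beta_stab O hh hN hq).1] at h1
    simp only [zero_smul, add_zero, mul_zero, map_sub, sub_right_inj, hA, map_smul, smul_eq_mul]
      at h1
    rw [hD, mul_div_cancel₀ _ hzz, show a * q = a / β z z * (q * β z z) by field_simp]
    exact smul_left_injective K he0 h1
  have hA1 : A 1 ≠ 0 := fun h0 => he0 (by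
    have := hA 1
    rwa [h0, zero_smul, one_smul, LinearEquiv.map_eq_zero_iff] at this)
  have hAD : ∀ a q, A (a * q) * D 1 = A a * D q := fun a q => by
    obtain ⟨s, hs⟩ := key a
    rw [hs q, ← mul_one a, hs 1]
    ring
  have hD1 : D 1 ≠ 0 := fun h0 => hA1 (by
    obtain ⟨s, hs⟩ := key 1
    rw [← one_mul (1 : K), hs 1, h0, mul_zero, mul_zero])
  refine ⟨A, D, hA, hD, hA1, hD1, hAD, fun a b => mul_right_cancel₀ hD1 ?_⟩
  have h1 := hAD 1 b
  rw [one_mul] at h1
  linear_combination (A 1) * hAD a b - (A a) * h1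

end

end CfsgLib.MaxSub.ExtOrthMax
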