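/-
Cubic extensions: traces of products and a degenerate pair of forms on the trace zero plane.
-/
import Cfsg.Agent.Lib.MaxSub.ExtSymp.Transvection
import Mathlib.RingTheory.Trace.Basic
import Mathlib.FieldTheory.Finiteness

set_option autoImplicit false
set_option maxHeartbeats 800000
set_option linter.unusedSectionVars false
set_option linter.style.haveILetI false

namespace CfsgLib.MaxSub.ExtOrthMax

open Module
open CfsgLib.MaxSub.ExtSymp (eq_zero_of_trace)

variable {F K : Type*} [Field F] [Field K] [Algebra F K] [FiniteDimensional F K]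

/-- Three powers of a scalar outside the ground field detect zero. -/
theorem eq_zero_of_powers [Fintype F] (h3 : finrank F K = 3) (h2 : (2 : F) ≠ 0)
    (hsq : ∀ x : K, x * x ∈ (⊥ : Subalgebra F K) → x ∈ (⊥ : Subalgebra F K))
    {l x : K} (hl : l ∉ (⊥ : Subalgebra F K)) (e0 : Algebra.trace F K x = 0)
    (e1 : Algebra.trace F K (x * l) = 0) (e2 : Algebra.trace F K (x * (l * l)) = 0) : x = 0 := by
  have h2K : (2 : K) ≠ 0 := fun h => h2 ((algebraMap F K).injective (by rw [map_ofNat, map_zero, h]))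
  have hli : LinearIndependent F ![(1 : K), l, l * l] := Fintype.linearIndependent_iff.2 fun g hg => by
    simp only [Fin.sum_univ_three, Matrix.cons_val_zero, Matrix.cons_val_one, Matrix.cons_val,
      Algebra.smul_def, mul_one] at hg
    have hg2 : g 2 = 0 := by
      by_contra h
      have h' : algebraMap F K (g 2) ≠ 0 := (map_ne_zero _).2 h
      have hy : l + algebraMap F K (g 1 / (2 * g 2)) ∈ (⊥ : Subalgebra F K) := hsq _
        (Algebra.mem_bot.2 ⟨-(g 0 / g 2) + g 1 / (2 * g 2) * (g 1 / (2 * g 2)), by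
          simp only [map_add, map_neg, map_mul, map_div₀, map_ofNat]
          field_simp
          linear_combination (-4 * algebraMap F K (g 2)) * hg⟩)
      exact hl (by simpa using sub_mem hy (Subalgebra.algebraMap_mem _ (g 1 / (2 * g 2))))
    simp only [hg2, map_zero, zero_mul, add_zero] at hg
    have hg1 : g 1 = 0 := by
      by_contra h
      have h' : algebraMap F K (g 1) ≠ 0 := (map_ne_zero _).2 h
      refine hl (Algebra.mem_bot.2 ⟨-(g 0 / g 1), ?_⟩)
      rw [map_neg, map_div₀]
      field_simp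
      linear_combination -hg
    simp only [hg1, map_zero, zero_mul, add_zero, map_eq_zero] at hg
    intro i; fin_cases i <;> assumption
  have htop := hli.span_eq_top_of_card_eq_finrank (by rw [Fintype.card_fin, h3])
  refine eq_zero_of_trace (F := F) fun k => ?_
  obtain ⟨g, rfl⟩ := (Submodule.mem_span_range_iff_exists_fun F).1
    (htop ▸ Submodule.mem_top (x := k))
  simp [Fin.sum_univ_three, add_mul, mul_comm l x, mul_comm (l * l) x, e0, e1, e2]

/-- On the trace zero plane some symmetric form from a class and some alternating one have a common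
null vector. -/
theorem exists_deg [Fintype F] (h3 : finrank F K = 3) (h2 : (2 : F) ≠ 0)
    (hsq : ∀ x : K, x * x ∈ (⊥ : Subalgebra F K) → x ∈ (⊥ : Subalgebra F K))
    (hsm : ∀ C : K, C ≠ 0 → ∃ x : F, x ≠ 0 ∧ ∃ t : K, t ≠ 0 ∧ t * t = algebraMap F K x * C)
    {z₁ z₂ c : K} (hz : LinearIndependent F ![z₁, z₂]) (hc : c ≠ 0) (L : K →ₗ[F] F) :
    ∃ t : K, t ≠ 0 ∧
      Algebra.trace F K (c * (t * t) * (z₁ * z₁)) * Algebra.trace F K (c * (t * t) * (z₂ * z₂)) -
        Algebra.trace F K (c * (t * t) * (z₁ * z₂)) * Algebra.trace F K (c * (t * t) * (z₁ * z₂)) +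
        L t * L t = 0 := by
  classical
  haveI : Finite K := Module.finite_of_finite F
  letI := Fintype.ofFinite K
  have h12 : z₁ ≠ 0 := hz.ne_zero 0
  have hl : z₂ / z₁ ∉ (⊥ : Subalgebra F K) := fun h => by
    obtain ⟨a, ha⟩ := Algebra.mem_bot.1 h
    rw [eq_div_iff h12, ← Algebra.smul_def] at ha
    have := LinearIndependent.pair_iff.1 hz a (-1) (by rw [ha, neg_one_smul, add_neg_cancel])
    exact one_ne_zero (neg_eq_zero.1 this.2)
  let Ψ : K →ₗ[F] F × F × F := ((Algebra.trace F K).comp (LinearMap.mulRight F (z₁ * z₁))).prod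
    (((Algebra.trace F K).comp (LinearMap.mulRight F (z₁ * z₂))).prod
      ((Algebra.trace F K).comp (LinearMap.mulRight F (z₂ * z₂))))
  have hΨ : ∀ s, Ψ s = (Algebra.trace F K (s * (z₁ * z₁)), Algebra.trace F K (s * (z₁ * z₂)),
      Algebra.trace F K (s * (z₂ * z₂))) := fun s => rfl
  have hinj : Function.Injective Ψ := by
    rw [← LinearMap.ker_eq_bot]
    refine LinearMap.ker_eq_bot'.2 fun s hs => ?_
    rw [hΨ, Prod.mk_eq_zero, Prod.mk_eq_zero] at hs
    have h := eq_zero_of_powers h3 h2 hsq hl (x := s * (z₁ * z₁)) hs.1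
      (by convert hs.2.1 using 2; field_simp)
      (by convert hs.2.2 using 2; field_simp)
    exact (mul_eq_zero.1 h).resolve_right (mul_ne_zero h12 h12)
  have hsur : Function.Surjective Ψ := (LinearMap.injective_iff_surjective_of_finrank_eq_finrank
    (by simp [h3])).1 hinj
  -- the parameter of a given form
  have hpar : ∀ B : F × F × F, B ≠ 0 → ∃ x : F, x ≠ 0 ∧ ∃ t : K, t ≠ 0 ∧ Ψ (c * (t * t)) = x • B := by
    intro B hB
    obtain ⟨s, hs⟩ := hsur B
    obtain ⟨x, hx, t, ht, htt⟩ := hsm (s / c)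
      (div_ne_zero (fun h => hB (by rw [← hs, h, map_zero])) hc)
    refine ⟨x, hx, t, ht, ?_⟩
    rw [show c * (t * t) = x • s by rw [htt, Algebra.smul_def]; field_simp, map_smul, hs]
  by_contra hcon
  push Not at hcon
  by_cases hL : L = 0
  · obtain ⟨x, -, t, ht, htB⟩ := hpar (0, 0, 1) (by simp)
    rw [hΨ, Prod.smul_mk, Prod.smul_mk, Prod.mk.injEq, Prod.mk.injEq] at htB
    exact hcon t ht (by rw [htB.1, htB.2.1, hL]; simp)
  have hB : ∀ p : F × F, ((-(2 * p.1) + p.1 * p.1 * p.2, 1 - p.1 * p.2, p.2) : F × F × F) ≠ 0 :=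
    fun p h => by
    simp only [Prod.mk_eq_zero, sub_eq_zero] at h
    exact one_ne_zero (h.2.1.trans (by rw [h.2.2, mul_zero]))
  choose x hx t ht htB using fun p : F × F => hpar _ (hB p)
  -- scaling
  have hgood : ∀ p, L (t p) = 0 := fun p => by
    by_contra hLp
    have h := htB p
    rw [hΨ, Prod.smul_mk, Prod.smul_mk, Prod.mk.injEq, Prod.mk.injEq] at h
    obtain ⟨e1, e2, e3⟩ := h
    set m := L (t p) / x p with hm
    have hm0 : m ≠ 0 := div_ne_zero hLp (hx p)
    refine hcon (m • t p) (smul_ne_zero hm0 (ht p)) ?_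
    have hs : ∀ w : K, Algebra.trace F K (c * (m • t p * m • t p) * w) =
        m * m * Algebra.trace F K (c * (t p * t p) * w) := fun w => by
      rw [show c * (m • t p * m • t p) * w = (m * m) • (c * (t p * t p) * w) by
        simp only [Algebra.smul_def, map_mul]; ring, map_smul, smul_eq_mul]
    rw [hs, hs, hs, e1, e2, e3, map_smul]
    simp only [smul_eq_mul]
    have hmx : m * x p = L (t p) := div_mul_cancel₀ _ (hx p)
    linear_combination (-(m * m) * (m * x p + L (t p))) * hmx
  -- counting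
  let D : Finset ((F × F) × F) := Finset.univ ×ˢ Finset.univ.erase 0
  let φ : (F × F) × F → K := fun d => d.2 • t d.1
  let T : Finset K := (Finset.univ.filter fun τ => L τ = 0).erase 0
  have hmaps : ∀ d ∈ D, φ d ∈ T := fun d hd => Finset.mem_erase.2
    ⟨smul_ne_zero (Finset.mem_erase.1 (Finset.mem_product.1 hd).2).1 (ht _),
      Finset.mem_filter.2 ⟨Finset.mem_univ _, by rw [map_smul, hgood, smul_zero]⟩⟩
  have hfib : ∀ τ ∈ D.image φ, (D.filter fun d => φ d = τ).card ≤ 2 := by
    intro τ hτ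
    obtain ⟨d₀, hd₀, hd₀τ⟩ := Finset.mem_image.1 hτ
    set G₁ := Algebra.trace F K (c * (τ * τ) * (z₁ * z₁)) with hG₁
    set G₂ := Algebra.trace F K (c * (τ * τ) * (z₁ * z₂)) with hG₂
    set G₃ := Algebra.trace F K (c * (τ * τ) * (z₂ * z₂)) with hG₃
    have hkey : ∀ d ∈ D.filter (fun d => φ d = τ), ∃ ν : F, ν ≠ 0 ∧
        G₁ = ν * (-(2 * d.1.1) + d.1.1 * d.1.1 * d.1.2) ∧ G₂ = ν * (1 - d.1.1 * d.1.2) ∧
        G₃ = ν * d.1.2 := by
      intro d hd
      obtain ⟨hdD, hdτ⟩ := Finset.mem_filter.1 hd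
      have hm := (Finset.mem_erase.1 (Finset.mem_product.1 hdD).2).1
      have h := congrArg ((d.2 * d.2) • ·) (htB d.1)
      simp only [← map_smul] at h
      rw [show (d.2 * d.2) • (c * (t d.1 * t d.1)) = c * (τ * τ) by
        rw [← hdτ]; simp only [φ, Algebra.smul_def, map_mul]; ring, hΨ, smul_smul, Prod.smul_mk,
        Prod.smul_mk, Prod.mk.injEq, Prod.mk.injEq] at h
      exact ⟨d.2 * d.2 * x d.1, mul_ne_zero (mul_ne_zero hm hm) (hx _), h⟩
    refine le_trans (Finset.card_le_card_of_injOn (t := ({d₀.1.1, -(2 * G₂ / G₃) - d₀.1.1} : Finset F))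
      (fun d => d.1.1) (fun d hd => ?_) fun d hd d' hd' he => ?_) Finset.card_le_two
    · obtain ⟨ν, hν, a1, a2, a3⟩ := hkey d hd
      obtain ⟨ν', hν', b1, b2, b3⟩ := hkey d₀ (Finset.mem_filter.2 ⟨hd₀, hd₀τ⟩)
      simp only [Finset.coe_insert, Finset.coe_singleton, Set.mem_insert_iff, Set.mem_singleton_iff]
      by_cases hd3 : G₃ = 0
      · left
        have hz1 : d.1.2 = 0 := (mul_eq_zero.1 (a3.symm.trans hd3)).resolve_left hν
        have hz2 : d₀.1.2 = 0 := (mul_eq_zero.1 (b3.symm.trans hd3)).resolve_left hν'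
        rw [hz1] at a1 a2; rw [hz2] at b1 b2
        have hνν : ν = ν' := by linear_combination b2 - a2
        subst hνν
        exact mul_left_cancel₀ (mul_ne_zero hν h2) (by linear_combination a1 - b1)
      · by_cases hda : d.1.1 = d₀.1.1
        · exact Or.inl hda
        right
        have r1 : G₁ + 2 * d.1.1 * G₂ + d.1.1 * d.1.1 * G₃ = 0 := by rw [a1, a2, a3]; ring
        have r2 : G₁ + 2 * d₀.1.1 * G₂ + d₀.1.1 * d₀.1.1 * G₃ = 0 := by rw [b1, b2, b3]; ring
        have r3 : 2 * G₂ + (d.1.1 + d₀.1.1) * G₃ = 0 := (mul_eq_zero.1 (show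
          (d.1.1 - d₀.1.1) * (2 * G₂ + (d.1.1 + d₀.1.1) * G₃) = 0 by
            linear_combination r1 - r2)).resolve_left (sub_ne_zero.2 hda)
        field_simp
        linear_combination r3
    · obtain ⟨ν, hν, a1, a2, a3⟩ := hkey d hd
      obtain ⟨ν', hν', b1, b2, b3⟩ := hkey d' hd'
      simp only at he
      rw [← he] at b1 b2
      have hνν : ν = ν' := by linear_combination b2 - a2 + d.1.1 * (b3 - a3)
      subst hνν
      have h12' : d.1 = d'.1 := Prod.ext he (mul_left_cancel₀ hν (a3.symm.trans b3))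
      refine Prod.ext h12' ?_
      have h := (Finset.mem_filter.1 hd).2.trans (Finset.mem_filter.1 hd').2.symm
      simp only [φ, ← h12'] at h
      exact smul_left_injective F (ht _) h
  have hcard : D.card ≤ 2 * T.card := by
    refine le_trans (Finset.card_le_mul_card_image D 2 hfib) (Nat.mul_le_mul_left _
      (Finset.card_le_card fun τ hτ => ?_))
    obtain ⟨d, hd, rfl⟩ := Finset.mem_image.1 hτ
    exact hmaps d hd
  have hT : T.card + 1 = Fintype.card F ^ 2 := by
    simp only [T]
    rw [Finset.card_erase_add_one (show (0 : K) ∈ Finset.univ.filter (fun τ => L τ = 0) by simp),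
      ← Fintype.card_subtype]
    have hker : finrank F (LinearMap.ker L) = 2 := by
      have h1 := LinearMap.finrank_range_add_finrank_ker L
      have hr : LinearMap.range L = ⊤ := LinearMap.range_eq_top.2 (LinearMap.surjective hL)
      rw [hr, finrank_top, Module.finrank_self, h3] at h1
      omega
    rw [← hker, ← Module.card_eq_pow_finrank (K := F) (V := LinearMap.ker L)]
    exact Fintype.card_congr (Equiv.subtypeEquivRight fun τ => LinearMap.mem_ker.symm)
  have hq : 2 < Fintype.card F := by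
    refine Fintype.two_lt_card_iff.2 ⟨0, 1, -1, zero_ne_one, fun h => one_ne_zero (neg_eq_zero.1 h.symm),
      fun h => h2 (by linear_combination h)⟩
  rw [Finset.card_product, Finset.card_erase_of_mem (Finset.mem_univ _), Finset.card_univ,
    Finset.card_univ, Fintype.card_prod] at hcard
  obtain ⟨n, hn⟩ : ∃ n, Fintype.card F = n + 3 := ⟨_, (Nat.sub_add_cancel hq).symm⟩
  rw [hn] at hcard hT
  simp only [Nat.add_succ_sub_one] at hcard
  nlinarith [hcard, hT]

end CfsgLib.MaxSub.ExtOrthMax
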