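/-
Degree three over the ground field, dimension three over the extension: two different members meet
in two dimensions.
-/
import Cfsg.Agent.Lib.MaxSub.ExtOrthMax.CubicBase
import Cfsg.Agent.Lib.MaxSub.ExtOrthMax.CubicField

set_option autoImplicit false
set_option maxHeartbeats 800000
set_option linter.unusedSectionVars false
set_option linter.style.haveILetI false

namespace CfsgLib.MaxSub.ExtOrthMax

open Module
open CfsgLib.MaxSub.ExtLin (Lin mem_lin_iff finrank_lin)
open CfsgLib.MaxSub.ExtSymp (eq_zero_of_trace)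

variable {F K V : Type*} [Field F] [Fintype F] [Field K] [Algebra F K] [FiniteDimensional F K]
  [AddCommGroup V] [Module F V] [Module K V] [IsScalarTower F K V] [FiniteDimensional F V]
  {f : V →ₗ[F] V →ₗ[F] F} {β : V →ₗ[K] V →ₗ[K] K} {G : Subgroup (V ≃ₗ[F] V)}

/-- A member through a singular vector, with a further vector perpendicular to its line. -/
structure Perp (F : Type*) {K V : Type*} [Field F] [Field K] [Algebra F K] [AddCommGroup V]
    [Module F V] [Module K V] [IsScalarTower F K V] (β : V →ₗ[K] V →ₗ[K] K)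
    (G : Subgroup (V ≃ₗ[F] V)) (M : Submodule F V) (e z : V) : Prop where
  mem : IsMem β G M
  ne0 : e ≠ 0
  sing : β e e = 0
  eM : e ∈ M
  zM : z ∈ M
  zN : z ∉ Lin F K e
  ez : β e z = 0

section

variable (O : OX f β G)
include O

theorem lin_smul (e : V) {k : K} (hk : k ≠ 0) : Lin F K (k • e) = Lin F K e := by
  ext y
  rw [mem_lin_iff, mem_lin_iff]
  exact ⟨fun ⟨a, ha⟩ => ⟨a * k, by rw [← smul_smul, ha]⟩,
    fun ⟨a, ha⟩ => ⟨a / k, by rw [smul_smul, div_mul_cancel₀ _ hk, ha]⟩⟩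

theorem tr_zero {M : Submodule F V} (hM : IsMem β G M) {x y : V} (hx : x ∈ M) (hy : y ∈ M) :
    Algebra.trace F K (β x y) = 0 := by rw [← O.tr]; exact mem_ti O hM x hx y hy

/-- Powers outside the ground field, in degree three. -/
theorem powers_zero (h3 : finrank F K = 3) {l x : K} (hl : l ∉ (⊥ : Subalgebra F K))
    (e0 : Algebra.trace F K x = 0) (e1 : Algebra.trace F K (x * l) = 0)
    (e2 : Algebra.trace F K (x * (l * l)) = 0) : x = 0 :=
  eq_zero_of_powers h3 O.two (fun _ h => mem_of_sq O (by omega) h) hl e0 e1 e2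

/-- The subalgebra fixed by a multiplicative map. -/
theorem eq_id_of_fixed {φ : K →ₗ[F] K} (h1 : φ 1 = 1) (hmul : ∀ a b, φ (a * b) = φ a * φ b) {l : K}
    (hl : φ l = l) (hl' : l ∉ (⊥ : Subalgebra F K)) (a : K) : φ a = a := by
  let S : Subalgebra F K :=
    { carrier := {x | φ x = x}
      mul_mem' := fun {p q} hp hq => by
        show φ (p * q) = p * q
        rw [hmul, hp, hq]
      add_mem' := fun {p q} hp hq => by
        show φ (p + q) = p + q
        rw [map_add, hp, hq]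
      algebraMap_mem' := fun x => by
        show φ (algebraMap F K x) = algebraMap F K x
        rw [Algebra.algebraMap_eq_smul_one, map_smul, h1] }
  haveI := Subalgebra.isSimpleOrder_of_finrank_prime F K O.prime
  rcases eq_bot_or_eq_top S with h | h
  · exact absurd (h ▸ (show l ∈ S from hl)) hl'
  · exact (h ▸ Algebra.mem_top : a ∈ S)

variable (hng : NG F β G 1)
include hng

/-- The common vectors of a member through a vector and its line. -/
theorem perp_common {M : Submodule F V} {e : V} (hM : IsMem β G M) (he0 : e ≠ 0) (he : β e e = 0)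
    (hne : M ≠ Lin F K e) (heM : e ∈ M) {y : V} (hy : y ∈ M) (hy' : y ∈ Lin F K e) :
    ∃ x : F, x • e = y := by
  have hle : F ∙ e ≤ M ⊓ Lin F K e :=
    (Submodule.span_singleton_le_iff_mem _ _).2 ⟨heM, mem_lin_iff.2 ⟨1, one_smul _ _⟩⟩
  have heq := Submodule.eq_of_le_of_finrank_le hle (by
    rw [finrank_span_singleton he0]
    exact ng_pair O hng hM (mem_of_lin O he0 he) hne)
  exact Submodule.mem_span_singleton.1 (heq ▸ (⟨hy, hy'⟩ : y ∈ M ⊓ Lin F K e))

variable (hd : finrank K V = 3) (h3 : finrank F K = 3)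
include hd h3

section

variable {M : Submodule F V} {e z : V} (P : Perp F β G M e z)
include P

theorem perp_ne : M ≠ Lin F K e := fun h => P.zN (h ▸ P.zM)

theorem perp_zz : β z z ≠ 0 := fun h => P.zN (perp_sing O hd P.ne0 P.sing P.ez h)

/-- The vectors of the member perpendicular to the line. -/
theorem perp_decomp {y : V} (hy : y ∈ M) (hey : β e y = 0) : ∃ p q : F, y = p • e + q • z := by
  obtain ⟨e', v, x₀, he', hee', hv, hev, he'v, hvz⟩ := exists_frame O P.ne0 P.sing P.ez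
  have hc := perp_zz O hng hd h3 P
  have hexp := frame_expand O hd P.sing he' hee' hev he'v (by rw [hvz]; exact hc) y
  rw [hey, zero_smul, add_zero, hvz] at hexp
  have hvy : β v y = β z y := by
    rw [hv, map_add, map_smul, LinearMap.add_apply, LinearMap.smul_apply, hey, smul_zero, add_zero]
  rw [hvy] at hexp
  obtain ⟨c, hcdef⟩ : ∃ c, c = β z z := ⟨_, rfl⟩
  rw [← hcdef] at hexp hc hvz
  obtain ⟨l, hl⟩ : ∃ l, l = β z y / c := ⟨_, rfl⟩
  rw [← hl] at hexp
  obtain ⟨q, hq⟩ : ∃ q : F, algebraMap F K q = l := by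
    by_contra hcon
    have h0 : c = 0 := powers_zero O h3 (l := l) (fun h => hcon (Algebra.mem_bot.1 h))
      (hcdef ▸ tr_zero O P.mem P.zM P.zM)
      (by rw [hl, mul_div_cancel₀ _ hc]; exact tr_zero O P.mem P.zM hy)
      (by
        have h := tr_zero O P.mem hy hy
        rw [hexp] at h
        simp only [map_add, map_smul, LinearMap.add_apply, LinearMap.smul_apply, P.sing, hev,
          O.symm v e, hvz, smul_eq_mul, mul_zero, add_zero, zero_add] at h
        rwa [mul_comm c, mul_assoc])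
    exact hc h0
  have hyz : y - q • z ∈ Lin F K e := mem_lin_iff.2 ⟨β e' y + l * x₀, by
    rw [← algebraMap_smul K q z, hq]
    nth_rewrite 2 [hexp]
    rw [hv]
    module⟩
  obtain ⟨p, hp⟩ := perp_common O hng P.mem P.ne0 P.sing (perp_ne O hng hd h3 P) P.eM
    (M.sub_mem hy (M.smul_mem q P.zM)) hyz
  exact ⟨p, q, by rw [hp, sub_add_cancel]⟩

/-- An Eichler transformation stabilises the member. -/
theorem perp_stab : ∃ g ∈ G, (∀ n ∈ Lin F K e, g n = n) ∧
    (∀ y, g y = EichMap β e z (1 / β z z) y) ∧ g z = z - e ∧ M.map g.toLinearMap = M := by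
  have hc := perp_zz O hng hd h3 P
  obtain ⟨g, hg, hgN, hgy⟩ := eichMap_mem O P.sing P.ez (1 / β z z)
  have hgz : g z = z - e := by
    rw [hgy, EichMap, P.ez, zero_smul, add_zero, mul_zero, add_zero, one_div_mul_cancel hc, one_smul]
  refine ⟨g, hg, hgN, hgy, hgz, ?_⟩
  by_contra hne
  have h1 := ng_pair O hng (mem_map O P.mem hg) P.mem hne
  have hli : LinearIndependent F ![e, z] := (LinearIndependent.pair_iff' P.ne0).2 fun a ha =>
    P.zN (mem_lin_iff.2 ⟨algebraMap F K a, by rw [algebraMap_smul]; exact ha⟩)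
  have hfe : g e = e := hgN e (mem_lin_iff.2 ⟨1, one_smul _ _⟩)
  have h2 := Submodule.finrank_mono (show Submodule.span F (Set.range ![e, z]) ≤
      M.map g.toLinearMap ⊓ M from Submodule.span_le.2 (by
    rintro _ ⟨i, rfl⟩
    fin_cases i
    · exact ⟨map_fix O P.eM hfe, P.eM⟩
    · exact ⟨⟨z + e, M.add_mem P.zM P.eM, by
        show g (z + e) = z
        rw [map_add, hgz, hfe, sub_add_cancel]⟩, P.zM⟩))
  rw [finrank_span_eq_card hli, Fintype.card_fin] at h2
  omega

/-- The values on the member lie on one line over the ground field. -/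
theorem perp_values {m : V} (hm : m ∈ M) : ∃ q : F, β e m = algebraMap F K q * β z z := by
  have hc := perp_zz O hng hd h3 P
  obtain ⟨g, -, -, hgy, -, hgM⟩ := perp_stab O hng hd h3 P
  have h1 : g m - m ∈ M := M.sub_mem (hgM.le ⟨m, hm, rfl⟩) hm
  obtain ⟨p, q, hpq⟩ := perp_decomp O hng hd h3 P h1 (by
    rw [hgy, EichMap]
    simp [P.sing, P.ez])
  refine ⟨q, ?_⟩
  have h := congrArg (β z) hpq
  rw [hgy, EichMap] at h
  simp only [map_sub, map_add, map_smul, ← algebraMap_smul K p e, ← algebraMap_smul K q z,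
    O.symm z e, P.ez, smul_eq_mul, mul_zero, sub_zero, zero_add, add_sub_cancel_left] at h
  rw [← h]
  field_simp

theorem perp_off : ∃ w ∈ M, β e w ≠ 0 := by
  by_contra hcon
  push Not at hcon
  have hle : M ≤ Submodule.span F (Set.range ![e, z]) := fun y hy => by
    obtain ⟨p, q, rfl⟩ := perp_decomp O hng hd h3 P hy (hcon y hy)
    exact Submodule.add_mem _ (Submodule.smul_mem _ _ (Submodule.subset_span ⟨0, rfl⟩))
      (Submodule.smul_mem _ _ (Submodule.subset_span ⟨1, rfl⟩))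
  have h1 := Submodule.finrank_mono hle
  have h2 := finrank_range_le_card (R := F) ![e, z]
  rw [mem_finrank O P.mem, h3] at h1
  rw [Fintype.card_fin] at h2
  unfold Set.finrank at h2
  omega

/-- No element fixes the perpendicular of the line. -/
theorem perp_cm (δ : K →ₗ[F] K) (h : Cm β G e δ) : δ = 0 := by
  have hc := perp_zz O hng hd h3 P
  obtain ⟨w, hw, hew⟩ := perp_off O hng hd h3 P
  obtain ⟨ζ, hζ⟩ : ∃ ζ, ζ = β e w := ⟨_, rfl⟩
  rw [← hζ] at hew
  obtain ⟨q₀, hq₀⟩ := perp_values O hng hd h3 P hw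
  rw [← hζ] at hq₀
  have hζtr : Algebra.trace F K ζ = 0 := by
    rw [hq₀, ← Algebra.smul_def, map_smul, tr_zero O P.mem P.zM P.zM, smul_zero]
  have hbot : ∀ {δ : K →ₗ[F] K}, Cm β G e δ → δ ζ ∈ (⊥ : Subalgebra F K) := by
    intro δ hδ
    obtain ⟨g, hg, hgy⟩ := hδ
    have hge : g e = e := by rw [hgy, P.sing, map_zero, zero_smul, add_zero]
    have hgz : g z = z := by rw [hgy, P.ez, map_zero, zero_smul, add_zero]
    have hgM : M.map g.toLinearMap = M := by
      by_contra hne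
      have h1 := ng_pair O hng (mem_map O P.mem hg) P.mem hne
      have hli : LinearIndependent F ![e, z] := (LinearIndependent.pair_iff' P.ne0).2 fun a ha =>
        P.zN (mem_lin_iff.2 ⟨algebraMap F K a, by rw [algebraMap_smul]; exact ha⟩)
      have h2 := Submodule.finrank_mono (show Submodule.span F (Set.range ![e, z]) ≤
          M.map g.toLinearMap ⊓ M from Submodule.span_le.2 (by
        rintro _ ⟨i, rfl⟩
        fin_cases i
        · exact ⟨map_fix O P.eM hge, P.eM⟩
        · exact ⟨map_fix O P.zM hgz, P.zM⟩))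
      rw [finrank_span_eq_card hli, Fintype.card_fin] at h2
      omega
    have h1 : δ ζ • e ∈ M := by
      have := M.sub_mem (hgM.le ⟨w, hw, rfl⟩) hw
      simpa [hgy, ← hζ] using this
    obtain ⟨x, hx⟩ := perp_common O hng P.mem P.ne0 P.sing (perp_ne O hng hd h3 P) P.eM h1
      (mem_lin_iff.2 ⟨_, rfl⟩)
    exact Algebra.mem_bot.2 ⟨x, smul_left_injective K P.ne0 (by
      show algebraMap F K x • e = δ ζ • e
      rw [algebraMap_smul, hx])⟩
  -- every product lies on the line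
  have hline : ∀ k, ∃ x : F, k * δ k = algebraMap F K x * ζ := by
    intro k
    rcases eq_or_ne k 0 with rfl | hk
    · exact ⟨0, by simp⟩
    obtain ⟨a, ha0, t, ht, htt⟩ := exists_sq_mul O (degree_ne_two O hd) (div_ne_zero hk hew)
    have h1 := hbot (cm_scale_sq O P.ne0 P.sing h ht)
    obtain ⟨x, hx⟩ := Algebra.mem_bot.1 h1
    simp only [LinearMap.comp_apply, LinearMap.mulLeft_apply, htt] at hx
    rw [show algebraMap F K a * (k / ζ) * ζ = a • k by rw [Algebra.smul_def]; field_simp, map_smul,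
      Algebra.smul_def] at hx
    refine ⟨x / (a * a), ?_⟩
    have ha : algebraMap F K a ≠ 0 := (map_ne_zero _).2 ha0
    rw [map_div₀, map_mul]
    field_simp at hx ⊢
    linear_combination -hx
  obtain ⟨a, ha⟩ := hline 1
  rw [one_mul] at ha
  have hpol : ∀ l, ∃ x : F, δ l = algebraMap F K x * ζ - algebraMap F K a * ζ * l := by
    intro l
    obtain ⟨x₁, h1⟩ := hline (1 + l)
    obtain ⟨x₂, h2⟩ := hline l
    refine ⟨x₁ - a - x₂, ?_⟩
    rw [map_add, ha] at h1
    rw [map_sub, map_sub]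
    linear_combination h1 - h2
  obtain ⟨l, hl, hlF⟩ : ∃ l, Algebra.trace F K (ζ * l) = 0 ∧ l ∉ (⊥ : Subalgebra F K) := by
    by_contra hcon
    push Not at hcon
    have hle : LinearMap.ker ((Algebra.trace F K).comp (LinearMap.mulLeft F ζ)) ≤
        Subalgebra.toSubmodule (⊥ : Subalgebra F K) := fun l hl => hcon l (LinearMap.mem_ker.1 hl)
    have h1 := Submodule.finrank_mono hle
    have h2 := LinearMap.finrank_range_add_finrank_ker ((Algebra.trace F K).comp (LinearMap.mulLeft F ζ))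
    have h4 := Submodule.finrank_le (LinearMap.range ((Algebra.trace F K).comp (LinearMap.mulLeft F ζ)))
    rw [Module.finrank_self] at h4
    rw [h3] at h2
    have h5 : finrank F (Subalgebra.toSubmodule (⊥ : Subalgebra F K)) = 1 := Subalgebra.finrank_bot
    omega
  have ha0 : a = 0 := by
    obtain ⟨x, hx⟩ := hpol l
    have h1 := cm_alt O h P.ne0 P.sing l l
    have h2 : (2 : F) * Algebra.trace F K (δ l * l) = 0 := by linear_combination h1
    have h4 := (mul_eq_zero.1 h2).resolve_left O.two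
    rw [show δ l * l = x • (ζ * l) - a • (ζ * (l * l)) by
      rw [hx, Algebra.smul_def, Algebra.smul_def]; ring, map_sub, map_smul, map_smul, hl, smul_zero,
      zero_sub, neg_eq_zero, smul_eq_mul, mul_eq_zero] at h4
    refine h4.resolve_right fun h5 => hew ?_
    exact powers_zero O h3 hlF hζtr hl h5
  refine cm_small O hng P.ne0 P.sing h ?_
  have hr : LinearMap.range δ ≤ F ∙ ζ := by
    rintro _ ⟨k, rfl⟩
    obtain ⟨x, hx⟩ := hpol k
    exact Submodule.mem_span_singleton.2 ⟨x, by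
      rw [hx, ha0, map_zero, zero_mul, zero_mul, sub_zero, Algebra.smul_def]⟩
  have := Submodule.finrank_mono hr
  rw [finrank_span_singleton hew] at this
  omega

/-- The member carries an element of the group fixing it and acting on the line as a field
automorphism of order three. -/
theorem exists_field_aut : ∃ Y ∈ G, ∃ θ : K →ₗ[F] K, ∃ k₁ : K, k₁ ∉ (⊥ : Subalgebra F K) ∧
    θ k₁ = k₁ - 1 ∧ θ 1 = 1 ∧ (∀ a b, θ (a * b) = θ a * θ b) ∧ (∀ m ∈ M, Y m = m) ∧
    (∀ a, Y (a • e) = θ a • e) ∧ ∀ q, β z (Y (q • z)) = θ q * β z z := by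
  have hc := perp_zz O hng hd h3 P
  obtain ⟨g, hg, hgM⟩ := mem_std O P.mem P.ne0 P.sing
  have hgN : M.map (g⁻¹ : V ≃ₗ[F] V).toLinearMap = Lin F K e := by rw [hgM, map_inv O]
  have heN : e ∈ Lin F K e := mem_lin_iff.2 ⟨1, one_smul _ _⟩
  obtain ⟨k, hk⟩ := mem_lin_iff.1 (show g.symm e ∈ Lin F K e from hgN ▸ ⟨e, P.eM, rfl⟩)
  have hk0 : k ≠ 0 := fun h => P.ne0 (g.symm.map_eq_zero_iff.1 (by rw [← hk, h, zero_smul]))
  obtain ⟨k₁, hk₁, hk₁F⟩ : ∃ l, Algebra.trace F K (l * β z z) = 0 ∧ l ∉ (⊥ : Subalgebra F K) := by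
    by_contra hcon
    push Not at hcon
    have hle : LinearMap.ker ((Algebra.trace F K).comp (LinearMap.mulRight F (β z z))) ≤
        Subalgebra.toSubmodule (⊥ : Subalgebra F K) := fun l hl => hcon l (LinearMap.mem_ker.1 hl)
    have h1 := Submodule.finrank_mono hle
    have h2 := LinearMap.finrank_range_add_finrank_ker
      ((Algebra.trace F K).comp (LinearMap.mulRight F (β z z)))
    have h4 := Submodule.finrank_le
      (LinearMap.range ((Algebra.trace F K).comp (LinearMap.mulRight F (β z z))))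
    rw [Module.finrank_self] at h4
    rw [h3] at h2
    have h5 : finrank F (Subalgebra.toSubmodule (⊥ : Subalgebra F K)) = 1 := Subalgebra.finrank_bot
    omega
  have hk₁e : k₁ • e ∉ M := fun h => hk₁F (by
    obtain ⟨x, hx⟩ := perp_common O hng P.mem P.ne0 P.sing (perp_ne O hng hd h3 P) P.eM h
      (mem_lin_iff.2 ⟨_, rfl⟩)
    exact Algebra.mem_bot.2 ⟨x, smul_left_injective K P.ne0 (by
      show algebraMap F K x • e = k₁ • e
      rw [algebraMap_smul, hx])⟩)
  have P' : Perp F β G ((Lin F K e).map (g⁻¹ : V ≃ₗ[F] V).toLinearMap) (k • e) (g.symm (k₁ • e)) := by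
    refine ⟨mem_map O (mem_of_lin O P.ne0 P.sing) (inv_mem hg), smul_ne_zero hk0 P.ne0,
      by simp [P.sing], ⟨e, heN, hk.symm⟩, ⟨k₁ • e, mem_lin_iff.2 ⟨_, rfl⟩, rfl⟩, ?_, ?_⟩
    · rw [lin_smul O e hk0, ← hgN]
      rintro ⟨m, hm, hme⟩
      exact hk₁e (g.symm.injective hme ▸ hm)
    · rw [map_smul, LinearMap.smul_apply, f_lin O (e := e) (y := g.symm (k₁ • e)) ?_, smul_zero]
      intro n hn
      rw [← hgN] at hn
      obtain ⟨m, hm, rfl⟩ := hn
      show f (g⁻¹ (k₁ • e) : V) ((g⁻¹ : V ≃ₗ[F] V) m) = 0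
      rw [O.iso _ (inv_mem hg), f_smul_left O]
      obtain ⟨q, hq⟩ := perp_values O hng hd h3 P hm
      rw [hq, ← mul_assoc, mul_comm k₁, mul_assoc, ← Algebra.smul_def, map_smul, hk₁, smul_zero]
  obtain ⟨E, hE, hEN, -, hEz, hEM⟩ := perp_stab O hng hd h3 P'
  rw [lin_smul O e hk0] at hEN
  set Y := g * E * g⁻¹ with hY
  have hYG : Y ∈ G := mul_mem (mul_mem hg hE) (inv_mem hg)
  have hYM : ∀ m ∈ M, Y m = m := fun m hm => by
    show g (E (g.symm m)) = m
    rw [hEN _ (show g.symm m ∈ Lin F K e from hgN ▸ ⟨m, hm, rfl⟩), g.apply_symm_apply]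
  have hYN : (Lin F K e).map Y.toLinearMap = Lin F K e := by
    refine Submodule.eq_of_le_of_finrank_eq ?_ (LinearEquiv.finrank_map_eq _ _)
    rintro _ ⟨n, hn, rfl⟩
    obtain ⟨n', hn', hnn⟩ := hEM.le ⟨g.symm n, ⟨n, hn, rfl⟩, rfl⟩
    show g (E (g.symm n)) ∈ _
    rw [show E (g.symm n) = g.symm n' from hnn.symm, g.apply_symm_apply]
    exact hn'
  have hYk₁ : Y (k₁ • e) = (k₁ - 1) • e := by
    show g (E (g.symm (k₁ • e))) = _
    rw [hEz, map_sub, g.apply_symm_apply, show k • e = g.symm e from hk, g.apply_symm_apply, sub_smul,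
      one_smul]
  obtain ⟨A, D, hA, hD, -, -, hAD, hmul⟩ :=
    lin_mult O hd P.ne0 P.sing P.ez hc (perp_cm O hng hd h3 P) hYG hYN
  have hA1 : A 1 = 1 := smul_left_injective K P.ne0 (by
    show A 1 • e = (1 : K) • e
    rw [← hA, one_smul, hYM e P.eM])
  have hD1 : D 1 = 1 := by rw [hD, one_smul, hYM z P.zM, div_self hc]
  refine ⟨Y, hYG, A, k₁, hk₁F, ?_, hA1, fun a b => ?_, hYM, hA, fun q => ?_⟩
  · exact smul_left_injective K P.ne0 (by show A k₁ • e = (k₁ - 1) • e; rw [← hA, hYk₁])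
  · have := hmul a b
    rwa [hA1, mul_one] at this
  · have h1 := hAD 1 q
    rw [one_mul, hA1, hD1, mul_one, one_mul] at h1
    rw [h1, hD, div_mul_cancel₀ _ hc]

end

omit hng hd h3 in
/-- The half turn exchanging the isotropic vectors of a frame. -/
theorem exists_swap (hd : finrank K V = 3) {e e' z : V} (he : β e e = 0) (he' : β e' e' = 0)
    (hee' : β e e' = 1) (hez : β e z = 0) (he'z : β e' z = 0) {μ s : K} (hμ : μ ≠ 0) (hs : s ≠ 0)
    (hsq : -(2 * μ) * β z z = s * s) :
    ∃ g ∈ G, (∀ a : K, g (a • e) = (a * μ) • e') ∧ (∀ a : K, g (a • e') = (a / μ) • e) ∧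
      ∀ a : K, g (a • z) = -(a • z) := by
  have h2 := two_K O
  obtain ⟨g, hg, hgy⟩ := gamma_mem O hd (a := e - μ • e') (b := z) (c := e + μ • e')
    (by simp [hez, he'z])
    (by simp [he, he', hee', O.symm e' e])
    (by simp [O.symm z e, O.symm z e', hez, he'z])
    (fun h => mul_ne_zero h2 hμ (by simp [he, he', hee', O.symm e' e] at h; linear_combination -h))
    (fun h => mul_ne_zero h2 hμ (by simp [he, he', hee', O.symm e' e] at h; linear_combination h)) hs
    (by rw [← hsq]; simp [he, he', hee', O.symm e' e]; ring)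
  have hcc : β (e + μ • e') (e + μ • e') = 2 * μ := by
    simp [he, he', hee', O.symm e' e]; ring
  refine ⟨g, hg, fun a => ?_, fun a => ?_, fun a => ?_⟩
  · rw [hgy, hcc]
    simp only [map_smul, map_add, LinearMap.add_apply, LinearMap.smul_apply, he, hee', O.symm e' e,
      smul_eq_mul, mul_one, mul_zero, zero_add]
    match_scalars <;> field_simp <;> ring
  · rw [hgy, hcc]
    simp only [map_smul, map_add, LinearMap.add_apply, LinearMap.smul_apply, he', hee',
      smul_eq_mul, mul_one, mul_zero, add_zero]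
    match_scalars <;> field_simp <;> ring
  · rw [hgy, hcc]
    simp [hez, he'z]

/-- The configuration with a perpendicular vector does not occur. -/
theorem perp_absurd {M : Submodule F V} {e z : V} (P : Perp F β G M e z) : False := by
  haveI := finite_K O
  have hK := two_K O
  have hr2 := degree_ne_two O hd
  have hc := perp_zz O hng hd h3 P
  have he := P.sing
  have he0 := P.ne0
  have hcm := perp_cm O hng hd h3 P
  obtain ⟨Y, hYG, θ, k₁, hk₁F, hθk₁, hθ1, hθmul, hYM, hYe, hYz⟩ := exists_field_aut O hng hd h3 P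
  obtain ⟨c, hcdef⟩ : ∃ c, c = β z z := ⟨_, rfl⟩
  rw [← hcdef] at hc hYz
  have hθinj : Function.Injective θ := fun a b h => smul_left_injective K he0 (Y.injective (by
    show Y (a • e) = Y (b • e)
    rw [hYe, hYe, h]))
  have hθsur : Function.Surjective θ := (LinearMap.injective_iff_surjective).1 hθinj
  let θe : K ≃ₐ[F] K := AlgEquiv.ofLinearEquiv (LinearEquiv.ofBijective θ ⟨hθinj, hθsur⟩) hθ1 hθmul
  have htr : ∀ a, Algebra.trace F K (θ a) = Algebra.trace F K a := fun a =>
    Algebra.trace_eq_of_algEquiv θe a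
  have h30 : (3 : F) = 0 := by
    have h := htr k₁
    rw [hθk₁, map_sub, sub_eq_self, ← map_one (algebraMap F K), Algebra.trace_algebraMap, h3,
      nsmul_one] at h
    exact_mod_cast h
  -- values of the element
  have hβY : ∀ y, β e (Y y) = θ (β e y) := fun y => sub_eq_zero.1 (eq_zero_of_trace (F := F) fun k => by
    obtain ⟨l, rfl⟩ := hθsur k
    have h1 := O.iso Y hYG (l • e) y
    rw [hYe, f_smul_left O, f_smul_left O] at h1
    rw [mul_sub, map_sub, h1, ← hθmul, htr, sub_self])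
  -- the norm of `z` is fixed
  have hYzN : ∀ q, ∃ L : K, Y (q • z) = L • e + θ q • z := fun q => by
    obtain ⟨e', v, x₀, he', hee', hv, hev, he'v, hvz⟩ := exists_frame O he0 he P.ez
    have hexp := frame_expand O hd he he' hee' hev he'v (by rw [hvz, ← hcdef]; exact hc) (Y (q • z))
    have h0 : β e (Y (q • z)) = 0 := by rw [hβY, map_smul (β e), P.ez, smul_zero, map_zero]
    rw [h0, zero_smul, add_zero, hvz, ← hcdef] at hexp
    rw [hv, map_add β, map_smul β, LinearMap.add_apply, LinearMap.smul_apply, h0, hYz, smul_zero,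
      add_zero, mul_div_cancel_right₀ _ hc, smul_add, smul_smul] at hexp
    exact ⟨β e' (Y (q • z)) + θ q * x₀, hexp.trans (by module)⟩
  choose L hL using hYzN
  have hθc : θ c = c := by
    refine sub_eq_zero.1 (eq_zero_of_trace (F := F) fun x => ?_)
    refine zero_of_squares hK (AddMonoidHom.mk' (fun x => Algebra.trace F K (x * (θ c - c)))
      fun a b => by rw [add_mul, map_add]) (fun q => ?_) x
    obtain ⟨p, rfl⟩ := hθsur q
    have h1 := O.iso Y hYG (p • z) (p • z)
    rw [hL, O.tr, O.tr] at h1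
    simp only [map_add, map_smul, LinearMap.add_apply, LinearMap.smul_apply, he, P.ez, O.symm z e,
      ← hcdef, smul_eq_mul, mul_zero, add_zero, zero_add] at h1
    show Algebra.trace F K (θ p * θ p * (θ c - c)) = 0
    rw [mul_sub, map_sub, ← hθmul, ← hθmul, htr, mul_assoc, ← h1]
    rw [hθmul p p, mul_assoc, sub_self]
  have hfixbot : ∀ a, θ a = a → a ∈ (⊥ : Subalgebra F K) := fun a ha => by
    by_contra hcon
    exact one_ne_zero (sub_eq_self.1 (hθk₁.symm.trans (eq_id_of_fixed O hθ1 hθmul ha hcon k₁)))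
  obtain ⟨c₀, hc₀⟩ := Algebra.mem_bot.1 (hfixbot c hθc)
  have hc₀0 : c₀ ≠ 0 := fun h => hc (by rw [← hc₀, h, map_zero])
  -- the normaliser relation
  have hrel : ∀ t y, L (β e y * t) = θ t * (θ (β z y) - β z (Y y)) := by
    intro t y
    obtain ⟨s, hs⟩ := conj_eich O hd he0 he P.ez (hcdef ▸ hc) hcm hYG (by
      refine Submodule.eq_of_le_of_finrank_eq ?_ (LinearEquiv.finrank_map_eq _ _)
      rintro _ ⟨n, hn, rfl⟩
      obtain ⟨a, rfl⟩ := mem_lin_iff.1 hn
      exact mem_lin_iff.2 ⟨_, (hYe a).symm⟩) t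
    have hst : s = θ t := by
      have h1 := hs z
      simp only [EichMap, P.ez, zero_smul, add_zero, mul_zero, map_sub, hYe, hYM z P.zM, ← hcdef,
        sub_right_inj] at h1
      have h2 := smul_left_injective K he0 h1
      rw [hθmul, hθc] at h2
      exact (mul_right_cancel₀ hc h2).symm
    have h1 := hs y
    rw [EichMap, EichMap, map_sub, map_add, smul_smul, smul_smul, hL, hYe, hβY, hst, ← hcdef] at h1
    have h2 : L (β e y * t) - θ (t * β z y + t * t * c / 2 * β e y) =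
        -(θ t * β z (Y y) + θ t * θ t * c / 2 * θ (β e y)) := smul_left_injective K he0 (by
      show _ • e = _ • e
      rw [hθmul] at h1
      rw [sub_smul, neg_smul, ← sub_eq_zero]
      rw [← sub_eq_zero] at h1
      rw [← h1]
      module)
    have h4 : θ (t * β z y + t * t * c / 2 * β e y) =
        θ t * θ (β z y) + θ t * θ t * c / 2 * θ (β e y) := by
      have h5 : θ (c / 2) = c / 2 := by
        rw [← hc₀, show (algebraMap F K c₀ / 2 : K) = algebraMap F K (c₀ / 2) by
          rw [map_div₀, map_ofNat], Algebra.algebraMap_eq_smul_one, map_smul, hθ1]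
      rw [map_add, hθmul, hθmul, mul_div_assoc (t * t), hθmul (t * t), hθmul t t, h5,
        mul_div_assoc (θ t * θ t)]
    rw [h4] at h2
    linear_combination h2
  obtain ⟨w₀, hw₀, hew₀⟩ := perp_off O hng hd h3 P
  obtain ⟨q₀, hq₀⟩ := perp_values O hng hd h3 P hw₀
  rw [← hcdef, ← hc₀, ← map_mul] at hq₀
  have hq₀0 : q₀ * c₀ ≠ 0 := fun h => hew₀ (by rw [hq₀, h, map_zero])
  obtain ⟨w, hw, hew⟩ : ∃ w ∈ M, β e w = 1 :=
    ⟨(q₀ * c₀)⁻¹ • w₀, M.smul_mem _ hw₀, by
      rw [← algebraMap_smul K (q₀ * c₀)⁻¹ w₀, map_smul, hq₀, smul_eq_mul, ← map_mul,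
        inv_mul_cancel₀ hq₀0, map_one]⟩
  have hL1 : L 1 = 0 := smul_left_injective K he0 (by
    show L 1 • e = (0 : K) • e
    have h := hL 1
    rw [one_smul, hYM z P.zM, hθ1, one_smul, right_eq_add] at h
    rw [zero_smul, h])
  have hb : θ (β z w) = β z w := by
    have h := hrel 1 w
    rw [hew, one_mul, hL1, hθ1, one_mul, hYM w hw] at h
    exact sub_eq_zero.1 h.symm
  have hL0 : ∀ t, L t = 0 := fun t => by
    have h := hrel t w
    rwa [hew, one_mul, hb, hYM w hw, sub_self, mul_zero] at h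
  -- normalise
  obtain ⟨b, hb'⟩ := Algebra.mem_bot.1 (hfixbot _ hb)
  obtain ⟨w', hw'def⟩ : ∃ w', w' = w - (b / c₀) • z := ⟨_, rfl⟩
  have hw' : w' ∈ M := hw'def ▸ M.sub_mem hw (M.smul_mem _ P.zM)
  have hzw' : β z w' = 0 := by
    rw [hw'def, ← algebraMap_smul K (b / c₀) z, map_sub, map_smul, ← hcdef, smul_eq_mul, map_div₀, hb',
      hc₀, div_mul_cancel₀ _ hc, sub_self]
  have hew' : β e w' = 1 := by
    rw [hw'def, ← algebraMap_smul K (b / c₀) z, map_sub, map_smul, P.ez, smul_zero, sub_zero, hew]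
  obtain ⟨x₀, hx₀⟩ : ∃ x₀, x₀ = β w' w' / 2 := ⟨_, rfl⟩
  obtain ⟨e', he'def⟩ : ∃ e', e' = w' - x₀ • e := ⟨_, rfl⟩
  have hee' : β e e' = 1 := by rw [he'def, map_sub, map_smul, he, smul_zero, sub_zero, hew']
  have he'z : β e' z = 0 := by
    rw [O.symm, he'def, map_sub, map_smul, hzw', O.symm z e, P.ez, smul_zero, sub_zero]
  have he' : β e' e' = 0 := by
    simp only [he'def, map_sub, map_smul, LinearMap.sub_apply, LinearMap.smul_apply, he, hew',
      O.symm w' e, smul_eq_mul, mul_one, mul_zero, sub_zero, hx₀]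
    field_simp
    ring
  have hexp : ∀ y, y = β e' y • e + (β z y / c) • z + β e y • e' := fun y => by
    rw [hcdef]; exact frame_expand O hd he he' hee' P.ez he'z (hcdef ▸ hc) y
  let r : K →ₗ[F] K := ((β e').restrictScalars F).comp (Y.toLinearMap.comp
    ((LinearMap.toSpanSingleton K V e').restrictScalars F))
  have hYe' : ∀ l, Y (l • e') = r l • e + θ l • e' := by
    intro l
    have hl1 : β e (l • e') = l := by rw [map_smul, hee', smul_eq_mul, mul_one]
    have hl2 : β z (l • e') = 0 := by rw [map_smul, O.symm z e', he'z, smul_zero]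
    have h := hrel 1 (l • e')
    rw [hL0, hl2, map_zero, hθ1, one_mul, zero_sub] at h
    have h2 := hexp (Y (l • e'))
    rw [neg_eq_zero.1 h.symm, zero_div, zero_smul, add_zero, hβY, hl1] at h2
    exact h2
  have hr1 : θ x₀ + r 1 = x₀ := smul_left_injective K he0 (by
    show (θ x₀ + r 1) • e = x₀ • e
    have h := hYM w' hw'
    rw [show w' = x₀ • e + (1 : K) • e' by rw [he'def, one_smul]; abel, map_add, hYe, hYe', hθ1,
      ← add_assoc, add_left_inj, ← add_smul] at h
    exact h)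
  -- the torus
  have hμ : ∀ n : K, n ≠ 0 → ∃ g ∈ G, (∀ a : K, g (a • e) = (a * (-c / (2 * (n * n)))) • e') ∧
      (∀ a : K, g (a • e') = (a / (-c / (2 * (n * n)))) • e) ∧ ∀ a : K, g (a • z) = -(a • z) := fun n hn =>
    exists_swap O hd he he' hee' P.ez he'z (μ := -c / (2 * (n * n))) (s := c / n)
      (div_ne_zero (neg_ne_zero.2 hc) (mul_ne_zero hK (mul_ne_zero hn hn))) (div_ne_zero hc hn)
      (by rw [← hcdef]; field_simp)
  have hT : ∀ n : K, n ≠ 0 → ∃ g ∈ G, (∀ a : K, g (a • e) = (a * (n * n)) • e) ∧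
      (∀ a : K, g (a • e') = (a / (n * n)) • e') ∧ ∀ a : K, g (a • z) = a • z := fun n hn => by
    obtain ⟨g₁, hg₁, a1, b1, c1⟩ := hμ 1 one_ne_zero
    obtain ⟨g₂, hg₂, a2, b2, c2⟩ := hμ n hn
    refine ⟨g₂ * g₁, mul_mem hg₂ hg₁, fun a => ?_, fun a => ?_, fun a => ?_⟩
    · show g₂ (g₁ (a • e)) = _
      rw [a1, b2]
      congr 1
      field_simp
    · show g₂ (g₁ (a • e')) = _
      rw [b1, a2]
      congr 1
      field_simp
    · show g₂ (g₁ (a • z)) = _
      rw [c1, map_neg, c2, neg_neg]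
  have hscale : ∀ n : K, n ≠ 0 → ∀ l, r (l / (n * n)) = θ (n * n) * r l := by
    intro n hn
    have hθn : θ n ≠ 0 := fun h => hn (hθinj (h.trans (map_zero θ).symm))
    obtain ⟨T, hT', Te, Te', Tz⟩ := hT n hn
    obtain ⟨T', hT'', T'e, T'e', T'z⟩ := hT (θ n) hθn
    set P₁ := T' * Y with hP₁
    set R₁ := Y * T with hR₁
    set d := P₁ * R₁⁻¹ with hd'
    have hdG : d ∈ G := mul_mem (mul_mem hT'' hYG) (inv_mem (mul_mem hYG hT'))
    have hdR : ∀ y, d (R₁ y) = P₁ y := fun y => by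
      show P₁ (R₁.symm (R₁ y)) = _
      rw [R₁.symm_apply_apply]
    have hde : ∀ a, d (a • e) = a • e := fun a => by
      obtain ⟨p, rfl⟩ := hθsur a
      have h1 : R₁ ((p / (n * n)) • e) = θ p • e := by
        show Y (T _) = _
        rw [Te, hYe, div_mul_cancel₀ _ (mul_ne_zero hn hn)]
      conv_lhs => rw [← h1, hdR]
      show T' (Y _) = _
      rw [hYe, T'e, ← hθmul, ← hθmul, div_mul_cancel₀ _ (mul_ne_zero hn hn)]
    have hdz : ∀ a, d (a • z) = a • z := fun a => by
      obtain ⟨p, rfl⟩ := hθsur a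
      have h1 : R₁ (p • z) = θ p • z := by
        show Y (T _) = _
        rw [Tz, hL, hL0, zero_smul, zero_add]
      conv_lhs => rw [← h1, hdR]
      show T' (Y _) = _
      rw [hL, hL0, zero_smul, zero_add, T'z]
    have hde' : ∀ l, d (θ (l / (n * n)) • e') =
        θ (l / (n * n)) • e' + (θ (n * n) * r l - r (l / (n * n))) • e := fun l => by
      have h1 : R₁ (l • e') = r (l / (n * n)) • e + θ (l / (n * n)) • e' := by
        show Y (T _) = _
        rw [Te', hYe']
      have h2 : P₁ (l • e') = (θ (n * n) * r l) • e + θ (l / (n * n)) • e' := by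
        show T' (Y _) = _
        rw [hYe', map_add, T'e, T'e', ← hθmul, mul_comm (r l)]
        congr 2
        rw [div_eq_iff (by rw [hθmul]; exact mul_ne_zero hθn hθn), ← hθmul,
          div_mul_cancel₀ _ (mul_ne_zero hn hn)]
      have h4 := hdR (l • e')
      rw [h1, h2, map_add, hde] at h4
      rw [sub_smul, ← sub_eq_zero]
      rw [← sub_eq_zero] at h4
      rw [← h4]
      abel
    let δ : K →ₗ[F] K := ((β e').restrictScalars F).comp ((d.toLinearMap - LinearMap.id).comp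
      ((LinearMap.toSpanSingleton K V e').restrictScalars F))
    have hδ : ∀ l, δ (θ (l / (n * n))) = θ (n * n) * r l - r (l / (n * n)) := fun l => by
      show β e' (d (θ (l / (n * n)) • e') - θ (l / (n * n)) • e') = _
      rw [hde', add_sub_cancel_left, map_smul, O.symm e' e, hee', smul_eq_mul, mul_one]
    have hcm' : Cm β G e δ := ⟨d, hdG, fun y => by
      conv_lhs => rw [hexp y, map_add, map_add, hde, hdz]
      obtain ⟨p, hp⟩ := hθsur (β e y)
      obtain ⟨l, rfl⟩ : ∃ l, l / (n * n) = p := ⟨p * (n * n),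
        mul_div_cancel_right₀ _ (mul_ne_zero hn hn)⟩
      rw [← hp, hde', hδ]
      conv_rhs => arg 1; rw [hexp y, ← hp]
      abel⟩
    intro l
    have h := hδ l
    rw [hcm δ hcm', LinearMap.zero_apply] at h
    exact (sub_eq_zero.1 h.symm).symm
  have hr0 : r 1 = 0 := by
    have hk0 : k₁ ≠ 0 := fun h => hk₁F (h ▸ zero_mem _)
    obtain ⟨x, hxdef⟩ : ∃ x, x = (k₁⁻¹ - k₁) / 2 := ⟨_, rfl⟩
    obtain ⟨y, hydef⟩ : ∃ y, y = (k₁⁻¹ + k₁) / 2 := ⟨_, rfl⟩
    have h30K : (3 : K) = 0 := by rw [← map_ofNat (algebraMap F K), h30, map_zero]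
    have hsqF : ∀ u : K, u * u ∈ (⊥ : Subalgebra F K) → u ∈ (⊥ : Subalgebra F K) :=
      fun u hu => mem_of_sq O hr2 hu
    have hx0 : x ≠ 0 := fun h => hk₁F (hsqF _ (Algebra.mem_bot.2 ⟨1, by
      rw [hxdef] at h; field_simp at h; rw [map_one]; linear_combination h⟩))
    have hy0 : y ≠ 0 := fun h => hk₁F (hsqF _ (Algebra.mem_bot.2 ⟨-1, by
      rw [hydef] at h; field_simp at h; rw [map_neg, map_one]; linear_combination -h⟩))
    have hxy : y * y = x * x + 1 := by rw [hxdef, hydef]; field_simp; ring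
    have hx1 : x * x ≠ 1 := fun h => by
      have hhalf : ∀ u : F, (k₁ + algebraMap F K u) * (k₁ + algebraMap F K u) ∈ (⊥ : Subalgebra F K) →
          False := fun u hu => hk₁F (by
        simpa using sub_mem (hsqF _ hu) (Subalgebra.algebraMap_mem _ u))
      have h' : k₁ * k₁ + k₁ - 1 = 0 ∨ k₁ * k₁ - k₁ - 1 = 0 := by
        rcases mul_self_eq_one_iff.1 h with h | h
        · rw [hxdef] at h; field_simp at h
          exact Or.inr (by linear_combination -h - k₁ * h30K)
        · rw [hxdef] at h; field_simp at h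
          exact Or.inl (by linear_combination -h + k₁ * h30K)
      rcases h' with h' | h'
      · exact hhalf (-1) (Algebra.mem_bot.2 ⟨2, by
          rw [map_neg, map_one, map_ofNat]; linear_combination -h' + k₁ * h30K⟩)
      · exact hhalf 1 (Algebra.mem_bot.2 ⟨2, by
          rw [map_one, map_ofNat]; linear_combination -h' - k₁ * h30K⟩)
    have key : ∀ n, n ≠ 0 → r (n * n) * θ (n * n) = r 1 := fun n hn => by
      have h := hscale n hn (n * n)
      rw [div_self (mul_ne_zero hn hn)] at h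
      rw [h, mul_comm]
    have h1 := key x hx0
    have h2 := key y hy0
    obtain ⟨A, hA⟩ : ∃ A, A = θ (x * x) := ⟨_, rfl⟩
    rw [← hA] at h1
    rw [hxy, map_add, map_add, hθ1, ← hA] at h2
    have h4 : r 1 * (A * A + A + 1) = 0 := by linear_combination A * h2 - (A + 1) * h1
    refine (mul_eq_zero.1 h4).resolve_right fun h5 => hx1 (hθinj ?_)
    rw [← hA, hθ1]
    have h6 : (A - 1) * (A - 1) = 0 := by linear_combination h5 - A * h30K
    exact sub_eq_zero.1 (mul_self_eq_zero.1 h6)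
  obtain ⟨p, hp⟩ := Algebra.mem_bot.1 (hfixbot x₀ (by rw [← add_zero (θ x₀), ← hr0, hr1]))
  have he'M : e' ∈ M := by
    rw [he'def, ← hp, algebraMap_smul]
    exact M.sub_mem hw' (M.smul_mem _ P.eM)
  -- the involution
  obtain ⟨g, hg, ge, ge', gz⟩ := hμ 1 one_ne_zero
  obtain ⟨μ, hμdef⟩ : ∃ μ : F, μ = -c₀ / 2 := ⟨_, rfl⟩
  have hμK : (-c / (2 * ((1 : K) * 1)) : K) = algebraMap F K μ := by
    rw [hμdef, map_div₀, map_neg, map_ofNat, hc₀, mul_one, mul_one]
  have hμ0 : algebraMap F K μ ≠ 0 := by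
    rw [← hμK]; exact div_ne_zero (neg_ne_zero.2 hc) (mul_ne_zero hK (by simp))
  rw [hμK] at ge ge'
  have gee : g e = μ • e' := by
    have h := ge 1
    rwa [one_smul, one_mul, algebraMap_smul] at h
  have gee' : g e' = μ⁻¹ • e := by
    have h := ge' 1
    rwa [one_smul, one_div, ← map_inv₀, algebraMap_smul] at h
  have gzz : g z = -z := by simpa using gz 1
  have hdec : ∀ m ∈ M, ∃ a b d : F, m = a • e + b • z + d • e' := fun m hm => by
    obtain ⟨q, hq⟩ := perp_values O hng hd h3 P hm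
    rw [← hcdef, ← hc₀, ← map_mul] at hq
    obtain ⟨a, b, hab⟩ := perp_decomp O hng hd h3 P (M.sub_mem hm (M.smul_mem (q * c₀) he'M)) (by
      rw [← algebraMap_smul K (q * c₀) e', map_sub, map_smul, hee', hq, smul_eq_mul, mul_one, sub_self])
    exact ⟨a, b, q * c₀, sub_eq_iff_eq_add.1 hab⟩
  have hgM : ∀ m ∈ M, g m ∈ M ∧ g (g m) = m := fun m hm => by
    obtain ⟨a, b, d, rfl⟩ := hdec m hm
    have hμ' : μ ≠ 0 := fun h => hμ0 (by rw [h, map_zero])
    simp only [map_add, map_smul, gee, gee', gzz, map_neg]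
    refine ⟨M.add_mem (M.add_mem (M.smul_mem _ (M.smul_mem _ he'M)) (M.smul_mem _ (M.neg_mem P.zM)))
      (M.smul_mem _ (M.smul_mem _ P.eM)), ?_⟩
    simp only [smul_smul, neg_neg]
    simp [hμ']
  obtain ⟨g₀, hg₀, hg₀M⟩ := mem_std O P.mem he0 he
  set h := g₀⁻¹ * g * g₀ with hh
  have hhG : h ∈ G := mul_mem (mul_mem (inv_mem hg₀) hg) hg₀
  have hin : ∀ n ∈ Lin F K e, g₀ n ∈ M := fun n hn => hg₀M ▸ ⟨n, hn, rfl⟩
  have hhN : (Lin F K e).map h.toLinearMap = Lin F K e := by
    refine Submodule.eq_of_le_of_finrank_eq ?_ (LinearEquiv.finrank_map_eq _ _)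
    rintro _ ⟨n, hn, rfl⟩
    obtain ⟨n', hn', hnn⟩ := hg₀M.le (hgM _ (hin n hn)).1
    show g₀.symm (g (g₀ n)) ∈ _
    rw [show g (g₀ n) = g₀ n' from hnn.symm, g₀.symm_apply_apply]
    exact hn'
  obtain ⟨A, D, hA, -, hA1, -, -, hmul⟩ := lin_mult O hd he0 he P.ez (hcdef ▸ hc) hcm hhG hhN
  have hAA : ∀ a, A (A a) = a := fun a => smul_left_injective K he0 (by
    show A (A a) • e = a • e
    rw [← hA, ← hA]
    show g₀.symm (g (g₀ (g₀.symm (g (g₀ (a • e)))))) = _
    rw [g₀.apply_symm_apply, (hgM _ (hin _ (mem_lin_iff.2 ⟨a, rfl⟩))).2, g₀.symm_apply_apply])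
  let φ : K →ₗ[F] K := (LinearMap.mulRight F (A 1)⁻¹).comp A
  have hφ : ∀ a, φ a = A a * (A 1)⁻¹ := fun a => rfl
  have hφ1 : φ 1 = 1 := by rw [hφ, mul_inv_cancel₀ hA1]
  have hφmul : ∀ a b, φ (a * b) = φ a * φ b := fun a b => by
    rw [hφ, hφ, hφ]
    field_simp
    linear_combination hmul a b
  have hφA : ∀ a, φ (A a) = a * (A 1)⁻¹ := fun a => by rw [hφ, hAA]
  have hφinv : φ (A 1)⁻¹ = A 1 := by
    have h1 := hφmul (A 1) (A 1)⁻¹
    rw [mul_inv_cancel₀ hA1, hφ1, hφA, one_mul] at h1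
    exact ((inv_mul_eq_one₀ hA1).1 h1.symm).symm
  have hφφ : ∀ a, φ (φ a) = a := fun a => by
    rw [hφ a, hφmul, hφA, hφinv, inv_mul_cancel_right₀ hA1]
  have hid : ∀ a, φ a = a := fun a => by
    have hs : φ ((a - φ a) * (a - φ a)) = (a - φ a) * (a - φ a) := by
      rw [hφmul, map_sub, hφφ]; ring
    by_cases hF : (a - φ a) * (a - φ a) ∈ (⊥ : Subalgebra F K)
    · obtain ⟨x, hx⟩ := Algebra.mem_bot.1 (mem_of_sq O hr2 hF)
      have h1 : φ (a - φ a) = a - φ a := by
        rw [← hx, Algebra.algebraMap_eq_smul_one, map_smul, hφ1]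
      rw [map_sub, hφφ] at h1
      have h2 : (2 : K) * (φ a - a) = 0 := by linear_combination h1
      exact sub_eq_zero.1 ((mul_eq_zero.1 h2).resolve_left hK)
    · exact eq_id_of_fixed O hφ1 hφmul hs hF a
  have hAe : ∀ a, A a = A 1 * a := fun a => by
    have h := hid a
    rw [hφ] at h
    field_simp at h
    linear_combination h
  have hscal : ∀ m ∈ M, g m = m ∨ g m = -m := fun m hm => by
    obtain ⟨n, hn, rfl⟩ := hg₀M.le hm
    obtain ⟨a, rfl⟩ := mem_lin_iff.1 hn
    have h1 : g₀.symm (g (g₀ (a • e))) = A a • e := hA a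
    rw [LinearEquiv.symm_apply_eq] at h1
    have h2 : A 1 * A 1 = 1 := by
      have := hAA 1
      rwa [hAe (A 1)] at this
    show g (g₀ (a • e)) = g₀ (a • e) ∨ g (g₀ (a • e)) = -g₀ (a • e)
    rw [h1, hAe]
    rcases mul_self_eq_one_iff.1 h2 with h2 | h2
    · left; rw [h2, one_mul]
    · right; rw [h2, neg_one_mul, neg_smul, map_neg]
  rcases hscal e P.eM with h | h <;>
  · rw [gee] at h
    have h1 := congrArg (β e) h
    rw [← algebraMap_smul K μ e', map_smul, hee', smul_eq_mul, mul_one] at h1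
    simp only [map_neg, he, neg_zero] at h1
    exact hμ0 h1

end

/-- A member meeting a line gives one with a perpendicular vector. -/
theorem exists_perp (O : OX f β G) (hng : NG F β G 1) (hd : finrank K V = 3) (h3 : finrank F K = 3) :
    ∃ M e z, Perp F β G M e z := by
  haveI := finite_VK O
  obtain ⟨M, e₀, P, hU⟩ := exists_meet_three O hd
  obtain ⟨e, hee, he0⟩ := (Submodule.ne_bot_iff _).1 hU
  obtain ⟨k, hk⟩ := mem_lin_iff.1 hee.2
  have hk0 : k ≠ 0 := fun h => he0 (by rw [← hk, h, zero_smul])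
  have hlin : Lin F K e = Lin F K e₀ := hk ▸ lin_smul O e₀ hk0
  have he : β e e = 0 := beta_lin O (by rw [← hk]; simp [P.sing]) (mem_lin_iff.2 ⟨1, one_smul _ _⟩)
  have hMe : M ≠ Lin F K e := hlin ▸ P.ne
  by_cases hz : ∃ z ∈ M, z ∉ Lin F K e ∧ β e z = 0
  · obtain ⟨z, hz1, hz2, hz3⟩ := hz
    exact ⟨M, e, z, P.mem, he0, he, hee.1, hz1, hz2, hz3⟩
  push Not at hz
  have hker : ∀ y ∈ M, β e y = 0 → y ∈ Lin F K e := fun y hy h => by
    by_contra hc
    exact hz y hy hc h
  let ψ : M →ₗ[F] K := ((β e).restrictScalars F).comp M.subtype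
  have hψker : finrank F (LinearMap.ker ψ) ≤ 1 := by
    let i : LinearMap.ker ψ →ₗ[F] ↥(M ⊓ Lin F K e) :=
      { toFun := fun y => ⟨y.1.1, y.1.2, hker _ y.1.2 y.2⟩
        map_add' := fun a b => rfl
        map_smul' := fun a b => rfl }
    exact (LinearMap.finrank_le_finrank_of_injective (f := i) fun a b h =>
      Subtype.ext (Subtype.ext (congrArg (fun v : ↥(M ⊓ Lin F K e) => (v : V)) h))).trans
      (ng_pair O hng P.mem (mem_of_lin O he0 he) hMe)
  obtain ⟨u, hu⟩ := exists_linearIndependent_of_le_finrank (show 2 ≤ finrank F (LinearMap.range ψ) by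
    have h1 := LinearMap.finrank_range_add_finrank_ker ψ
    rw [mem_finrank O P.mem, h3] at h1
    omega)
  obtain ⟨m₁, hm₁⟩ := (u 0).2
  obtain ⟨m₂, hm₂⟩ := (u 1).2
  obtain ⟨z₁, hz₁⟩ : ∃ z₁, z₁ = β e m₁.1 := ⟨_, rfl⟩
  obtain ⟨z₂, hz₂⟩ : ∃ z₂, z₂ = β e m₂.1 := ⟨_, rfl⟩
  have hli : LinearIndependent F ![z₁, z₂] := by
    have h := hu.map' _ (LinearMap.range ψ).ker_subtype
    have h' : ![z₁, z₂] = (LinearMap.range ψ).subtype ∘ u := by
      funext i
      fin_cases i
      · exact hz₁.trans hm₁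
      · exact hz₂.trans hm₂
    rw [h']
    exact h
  obtain ⟨e', he', hee'⟩ := exists_opp O he0 he
  obtain ⟨v, hev, he'v, hvv⟩ := exists_aniso O he he' (by rw [hee']; exact one_ne_zero)
  obtain ⟨c, hc⟩ : ∃ c, c = β v v := ⟨_, rfl⟩
  rw [← hc] at hvv
  let L : K →ₗ[F] F := (2 : F) • (Algebra.trace F K).comp
    (LinearMap.mulRight F (z₁ * β v m₂.1 - z₂ * β v m₁.1))
  have hL : ∀ t, L t = 2 * Algebra.trace F K (t * (z₁ * β v m₂.1 - z₂ * β v m₁.1)) := fun t => rfl
  obtain ⟨t, ht, hdet⟩ := exists_deg h3 O.two (fun _ h => mem_of_sq O (by omega) h)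
    (fun C hC => exists_sq_mul O (by omega) hC) hli hvv L
  obtain ⟨A, hA⟩ : ∃ A, A = Algebra.trace F K (t * (z₁ * β v m₂.1 - z₂ * β v m₁.1)) := ⟨_, rfl⟩
  rw [hL, ← hA] at hdet
  obtain ⟨g, hg, hgN, hgy⟩ := eichMap_mem O he hev t
  have hpair : ∀ a ∈ M, ∀ b ∈ M, f (g a) b = Algebra.trace F K (t * (β e a * β v b - β e b * β v a)) -
      (1 / 2) * Algebra.trace F K (c * (t * t) * (β e a * β e b)) := fun a ha b hb => by
    rw [O.tr, hgy, EichMap, ← hc]
    rw [show β (a + β e a • t • v - (t * β v a + t * t * c / 2 * β e a) • e) b =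
      β a b + (t * (β e a * β v b - β e b * β v a) -
        (1 / 2 : F) • (c * (t * t) * (β e a * β e b))) by
      simp only [map_sub, map_add, map_smul, LinearMap.sub_apply, LinearMap.add_apply,
        LinearMap.smul_apply, smul_eq_mul, Algebra.smul_def, map_div₀, map_one, map_ofNat]
      ring, map_add, tr_zero O P.mem ha hb, zero_add, map_sub, map_smul, smul_eq_mul]
  set G₁ := Algebra.trace F K (c * (t * t) * (z₁ * z₁)) with hG₁
  set G₂ := Algebra.trace F K (c * (t * t) * (z₁ * z₂)) with hG₂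
  set G₃ := Algebra.trace F K (c * (t * t) * (z₂ * z₂)) with hG₃
  obtain ⟨p, q, hpq, r1, r2⟩ : ∃ p q : F, (p ≠ 0 ∨ q ≠ 0) ∧ p * G₁ + q * (G₂ + 2 * A) = 0 ∧
      p * (G₂ - 2 * A) + q * G₃ = 0 := by
    by_cases h1 : G₁ = 0 ∧ G₂ + 2 * A = 0
    · by_cases h2 : G₂ - 2 * A = 0 ∧ G₃ = 0
      · exact ⟨1, 0, Or.inl one_ne_zero, by rw [h1.1]; ring, by rw [h2.1]; ring⟩
      · refine ⟨G₃, -(G₂ - 2 * A), ?_, by rw [h1.1, h1.2]; ring, by ring⟩
        by_contra h
        push Not at h
        exact h2 ⟨neg_eq_zero.1 h.2, h.1⟩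
    · refine ⟨G₂ + 2 * A, -G₁, ?_, by ring, by linear_combination -hdet⟩
      by_contra h
      push Not at h
      exact h1 ⟨neg_eq_zero.1 h.2, h.1⟩
  obtain ⟨m, hm⟩ : ∃ m : V, m = p • m₁.1 + q • m₂.1 := ⟨_, rfl⟩
  have hmM : m ∈ M := hm ▸ M.add_mem (M.smul_mem _ m₁.2) (M.smul_mem _ m₂.2)
  have hem : β e m = p • z₁ + q • z₂ := by
    rw [hm, map_add, ← algebraMap_smul K p m₁.1, ← algebraMap_smul K q m₂.1, map_smul, map_smul,
      algebraMap_smul, algebraMap_smul, hz₁, hz₂]
  have hem0 : β e m ≠ 0 := fun h => by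
    have h1 := LinearIndependent.pair_iff.1 hli p q (hem ▸ h)
    rcases hpq with h2 | h2
    · exact h2 h1.1
    · exact h2 h1.2
  have hfe : f (g m) e = 0 := by
    rw [← hgN e (mem_lin_iff.2 ⟨1, one_smul _ _⟩), O.iso g hg]
    exact mem_ti O P.mem m hmM e hee.1
  have hfm : ∀ b ∈ M, β e b = z₁ ∨ β e b = z₂ → (b = m₁.1 ∨ b = m₂.1) → f (g m) b = 0 := by
    intro b hb _ hbm
    have hsum : f (g m) b = p * f (g m₁.1) b + q * f (g m₂.1) b := by
      rw [hm, map_add, map_smul, map_smul, map_add, LinearMap.add_apply, map_smul, map_smul,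
        LinearMap.smul_apply, LinearMap.smul_apply, smul_eq_mul, smul_eq_mul]
    rw [hsum, hpair _ m₁.2 _ hb, hpair _ m₂.2 _ hb, ← hz₁, ← hz₂]
    have hA' : Algebra.trace F K (t * (z₂ * β v m₁.1 - z₁ * β v m₂.1)) = -A := by
      rw [hA, ← map_neg]; congr 1; ring
    rcases hbm with rfl | rfl
    · rw [← hz₁, hA', sub_self, mul_zero, map_zero, mul_comm z₂ z₁, ← hG₁, ← hG₂]
      linear_combination (-(1 / 2)) * r1 + q * A * (by field_simp [O.two] : (1 / 2 : F) * 2 = 1)
    · rw [← hz₂, ← hA, sub_self, mul_zero, map_zero, ← hG₂, ← hG₃]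
      linear_combination (-(1 / 2)) * r2 - p * A * (by field_simp [O.two] : (1 / 2 : F) * 2 = 1)
  have hperp : ∀ b ∈ M, f (g m) b = 0 := by
    intro b hb
    have h1 := hfm _ m₁.2 (Or.inl hz₁.symm) (Or.inl rfl)
    have h2 := hfm _ m₂.2 (Or.inr hz₂.symm) (Or.inr rfl)
    have hle : M ≤ LinearMap.ker (f (g m)) := by
      have hspan : M ≤ Submodule.span F (Set.range ![e, m₁.1, m₂.1]) := by
        have h3' : LinearIndependent F ![e, m₁.1, m₂.1] := Fintype.linearIndependent_iff.2 fun a ha => by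
          simp only [Fin.sum_univ_three, Matrix.cons_val_zero, Matrix.cons_val_one, Matrix.cons_val]
            at ha
          have h4 := congrArg (β e) ha
          rw [map_add, map_add, ← algebraMap_smul K (a 0) e, ← algebraMap_smul K (a 1) m₁.1,
            ← algebraMap_smul K (a 2) m₂.1, map_smul, map_smul, map_smul, he, smul_zero, zero_add,
            map_zero, algebraMap_smul, algebraMap_smul, ← hz₁, ← hz₂] at h4
          obtain ⟨a1, a2⟩ := LinearIndependent.pair_iff.1 hli _ _ h4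
          rw [a1, a2, zero_smul, zero_smul, add_zero, add_zero, smul_eq_zero] at ha
          intro i
          fin_cases i
          exacts [ha.resolve_right he0, a1, a2]
        refine le_of_eq (Submodule.eq_of_le_of_finrank_eq (Submodule.span_le.2 ?_) ?_).symm
        · rintro _ ⟨i, rfl⟩
          fin_cases i
          exacts [hee.1, m₁.2, m₂.2]
        · rw [finrank_span_eq_card h3', Fintype.card_fin, mem_finrank O P.mem, h3]
      refine hspan.trans (Submodule.span_le.2 ?_)
      rintro _ ⟨i, rfl⟩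
      fin_cases i
      exacts [hfe, h1, h2]
    exact hle hb
  have hgm : g m ∉ M := fun h => by
    have h1 : g m - m ∈ M := M.sub_mem h hmM
    have h2 := hker _ h1 (by rw [hgy, EichMap]; simp [he, hev])
    obtain ⟨a, ha⟩ := mem_lin_iff.1 h2
    have h4 := congrArg (β v) ha
    rw [hgy, EichMap] at h4
    simp only [map_sub, map_add, map_smul, O.symm v e, hev, ← hc, smul_eq_mul, mul_zero, sub_zero,
      add_sub_cancel_left] at h4
    exact mul_ne_zero hem0 (mul_ne_zero ht hvv) h4.symm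
  have hne : M.map g.toLinearMap ≠ M := fun h => hgm (h.le ⟨m, hmM, rfl⟩)
  obtain ⟨M', e₁, P₁, s, hs, rfl, hse⟩ := meet_of_members O (mem_map O P.mem hg) P.mem hne
  have hsN : s e ∈ Lin F K e₁ := hse ▸ ⟨e, hee.1, rfl⟩
  obtain ⟨k₁, hk₁⟩ := mem_lin_iff.1 hsN
  have hk₁0 : k₁ ≠ 0 := fun h => he0 (s.map_eq_zero_iff.1 (by rw [← hk₁, h, zero_smul]))
  have hlin₁ : Lin F K (s e) = Lin F K e₁ := hk₁ ▸ lin_smul O e₁ hk₁0
  have hse0 : β (s e) (s e) = 0 := by rw [← hk₁]; simp [P₁.sing]
  refine ⟨_, s e, s (g m), P₁.mem, fun h => he0 (s.map_eq_zero_iff.1 h), hse0,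
    ⟨e, map_fix O hee.1 (hgN e (mem_lin_iff.2 ⟨1, one_smul _ _⟩)), rfl⟩,
    ⟨g m, ⟨m, hmM, rfl⟩, rfl⟩, fun h => hgm ?_, f_lin O fun n hn => ?_⟩
  · rw [hlin₁, hse] at h
    obtain ⟨x, hx, hxe⟩ := h
    exact s.injective hxe ▸ hx
  · rw [hlin₁, hse] at hn
    obtain ⟨x, hx, rfl⟩ := hn
    show f (s (g m)) (s x) = 0
    rw [O.iso s hs]
    exact hperp x hx

/-- Two different members meet in two dimensions, in degree three. -/
theorem exists_two_cubic (O : OX f β G) (hd : finrank K V = 3) (h3 : finrank F K = 3) :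
    ∃ M e, Meet F β G M e ∧ 2 ≤ finrank F ↥(M ⊓ Lin F K e) := by
  by_contra hcon
  have hng : NG F β G 1 := fun M e P => by
    by_contra h
    exact hcon ⟨M, e, P, by omega⟩
  obtain ⟨M, e, z, P⟩ := exists_perp O hng hd h3
  exact perp_absurd O hng hd h3 P

end CfsgLib.MaxSub.ExtOrthMax
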