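/-
Dimension three, small intersections: the elements fixing the perpendicular of a line are trivial.
-/
import Cfsg.Agent.Lib.MaxSub.ExtOrthMax.Kernel
import Mathlib.LinearAlgebra.BilinearForm.Orthogonal
import Mathlib.GroupTheory.Index

set_option autoImplicit false
set_option maxHeartbeats 800000
set_option linter.unusedSectionVars false
set_option linter.style.haveILetI false

namespace CfsgLib.MaxSub.ExtOrthMax

open Module
open CfsgLib.MaxSub.ExtLin (Lin mem_lin_iff finrank_lin finrank_restrict)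
open CfsgLib.MaxSub.ExtSymp (eq_zero_of_trace)

variable {F K V : Type*} [Field F] [Fintype F] [Field K] [Algebra F K] [FiniteDimensional F K]
  [AddCommGroup V] [Module F V] [Module K V] [IsScalarTower F K V] [FiniteDimensional F V]
  {f : V →ₗ[F] V →ₗ[F] F} {β : V →ₗ[K] V →ₗ[K] K} {G : Subgroup (V ≃ₗ[F] V)}

/-- The symmetrised product with a scalar. -/
noncomputable def symProd (δ : K →ₗ[F] K) : K →+ (K →ₗ[F] K) :=
  AddMonoidHom.mk' (fun l => (LinearMap.mulLeft F l).comp δ + δ.comp (LinearMap.mulLeft F l))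
    fun a b => LinearMap.ext fun k => by
      simp only [LinearMap.add_apply, LinearMap.comp_apply, LinearMap.mulLeft_apply, add_mul, map_add]
      ring

omit [Fintype F] [FiniteDimensional F K] in
theorem symProd_apply (δ : K →ₗ[F] K) (l k : K) : symProd δ l k = l * δ k + δ (l * k) := rfl

section

variable (O : OX f β G)
include O

theorem symProd_inj (hr : finrank F K ≠ 2) {e : V} (he0 : e ≠ 0) (he : β e e = 0) {δ : K →ₗ[F] K}
    (h : Cm β G e δ) (h0 : δ ≠ 0) {l : K} (hl : symProd δ l = 0) : l = 0 := by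
  have hk : ∀ k, l * δ k + δ (l * k) = 0 := fun k => by rw [← symProd_apply, hl, LinearMap.zero_apply]
  let T : Subalgebra F K :=
    { carrier := {x | ∀ k, δ (x * k) = x * δ k}
      mul_mem' := fun {a b} ha hb k => by rw [mul_assoc, ha, hb, mul_assoc]
      add_mem' := fun {a b} ha hb k => by rw [add_mul, map_add, ha, hb, add_mul]
      algebraMap_mem' := fun c k => by rw [← Algebra.smul_def, map_smul, ← Algebra.smul_def] }
  have hsq : l * l ∈ T := fun k => by linear_combination hk (l * k) - l * hk k + (congrArg δ (mul_assoc l l k))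
  haveI := Subalgebra.isSimpleOrder_of_finrank_prime F K O.prime
  rcases eq_bot_or_eq_top T with hT | hT
  · obtain ⟨a, ha⟩ := Algebra.mem_bot.1 (mem_of_sq O hr (hT ▸ hsq))
    by_contra hl0
    refine h0 (LinearMap.ext fun k => ?_)
    have h1 := hk k
    rw [← ha, ← Algebra.smul_def a k, map_smul, Algebra.smul_def, ha, ← two_mul] at h1
    exact ((mul_eq_zero.1 ((mul_eq_zero.1 h1).resolve_left (two_K O))).resolve_left hl0)
  · exfalso
    have hlin : ∀ k, δ k = k * δ 1 := fun k => by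
      have := (hT ▸ Algebra.mem_top : k ∈ T) 1
      rwa [mul_one] at this
    refine h0 (LinearMap.ext fun k => ?_)
    have hc : δ 1 = 0 := eq_zero_of_trace (F := F) fun x => by
      have h1 := cm_alt O h he0 he 1 x
      rw [hlin x, mul_one] at h1
      have h2 : (2 : F) * Algebra.trace F K (x * δ 1) = 0 := by
        rw [mul_comm (δ 1) x] at h1
        linear_combination h1
      exact (mul_eq_zero.1 h2).resolve_left O.two
    rw [hlin, hc, mul_zero, LinearMap.zero_apply]

/-- Moving an element trivial on a perpendicular. -/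
theorem ker_map {U : Submodule F V} {x h : V ≃ₗ[F] V} (hx : Ker f G U x) (hh : h ∈ G) :
    Ker f G (U.map h.toLinearMap) (h * x * h⁻¹) := by
  refine ⟨mul_mem (mul_mem hh hx.1) (inv_mem hh), ?_, fun p hp => ?_⟩
  · rintro _ ⟨u, hu, rfl⟩
    show h (x (h.symm (h u))) = h u
    rw [h.symm_apply_apply, hx.2.1 u hu]
  · obtain ⟨p, rfl⟩ := h.surjective p
    show h (x (h.symm (h p))) - h p ∈ _
    rw [h.symm_apply_apply, ← map_sub]
    refine ⟨_, hx.2.2 p fun u hu => ?_, rfl⟩
    rw [← O.iso h hh]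
    exact hp _ ⟨u, hu, rfl⟩

theorem card_sq_ge {Λ : AddSubgroup K}
    (h : ∀ w : K, w ≠ 0 → (w⁻¹ - w) / 2 * ((w⁻¹ - w) / 2) ∈ Λ) :
    Nat.card K ≤ 4 * Nat.card Λ + 1 := by
  classical
  haveI := finite_K O
  letI := Fintype.ofFinite K
  have h2 := two_K O
  set s : Finset K := Finset.univ.erase 0 with hs
  set φ : K → K := fun w => (w⁻¹ - w) / 2 * ((w⁻¹ - w) / 2) with hφ
  have hfib : ∀ a ∈ s.image φ, (s.filter fun w => φ w = a).card ≤ 4 := by
    intro a ha
    obtain ⟨w₀, hw₀, rfl⟩ := Finset.mem_image.1 ha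
    have hw₀0 : w₀ ≠ 0 := (Finset.mem_erase.1 hw₀).1
    refine le_trans (Finset.card_le_card (t := ({w₀, -w₀⁻¹, -w₀, w₀⁻¹} : Finset K)) fun w hw => ?_)
      (le_trans (Finset.card_insert_le _ _) (Nat.succ_le_succ (le_trans (Finset.card_insert_le _ _)
        (Nat.succ_le_succ Finset.card_le_two))))
    obtain ⟨hw, hwa⟩ := Finset.mem_filter.1 hw
    have hw0 : w ≠ 0 := (Finset.mem_erase.1 hw).1
    simp only [Finset.mem_insert, Finset.mem_singleton]
    rcases mul_self_eq_mul_self_iff.1 hwa with h | h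
    · have h' : (w - w₀) * (1 + w * w₀) = 0 := by
        field_simp at h
        linear_combination -h
      rcases mul_eq_zero.1 h' with h | h
      · exact Or.inl (sub_eq_zero.1 h)
      · exact Or.inr (Or.inl (by field_simp; linear_combination h))
    · have h' : (w + w₀) * (1 - w * w₀) = 0 := by
        field_simp at h
        linear_combination h
      rcases mul_eq_zero.1 h' with h | h
      · exact Or.inr (Or.inr (Or.inl (eq_neg_of_add_eq_zero_left h)))
      · exact Or.inr (Or.inr (Or.inr (by field_simp; linear_combination -h)))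
  have h1 := Finset.card_le_mul_card_image s 4 hfib
  have h3 : (s.image φ).card ≤ Nat.card Λ := by
    rw [← SetLike.coe_sort_coe, Nat.card_coe_set_eq, ← Set.ncard_coe_finset]
    refine Set.ncard_le_ncard (fun x hx => ?_) (Set.toFinite _)
    obtain ⟨w, hw, rfl⟩ := Finset.mem_image.1 (Finset.mem_coe.1 hx)
    exact h w (Finset.mem_erase.1 hw).1
  have h4 : s.card + 1 = Nat.card K := by
    rw [hs, Finset.card_erase_add_one (Finset.mem_univ _), Finset.card_univ, Nat.card_eq_fintype_card]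
  omega

/-- With small intersections no element fixes the perpendicular of a line. -/
theorem cm_absurd (hd : finrank K V = 3) {M : Submodule F V} {e : V} (P : Meet F β G M e)
    (h2 : 2 ≤ finrank F ↥(M ⊓ Lin F K e)) (h3 : 2 * finrank F ↥(M ⊓ Lin F K e) < finrank F K)
    (hng : NG F β G (finrank F ↥(M ⊓ Lin F K e))) {δ₀ : K →ₗ[F] K} (hδ₀ : Cm β G e δ₀)
    (hδ₀0 : δ₀ ≠ 0) : False := by
  classical
  haveI := finite_K O
  haveI := finite_VK O
  set U := M ⊓ Lin F K e with hUdef
  set j := finrank F U with hjdef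
  set r := finrank F K with hrdef
  have he := P.sing
  have he0 := P.ne0
  have hUN : U ≤ Lin F K e := inf_le_right
  have hK := two_K O
  set W := U.comap ((LinearMap.toSpanSingleton K V e).restrictScalars F) with hW
  have mem_W : ∀ k : K, k ∈ W ↔ k • e ∈ U := fun k => Iff.rfl
  have hWfin : finrank F W = j := by
    rw [← finrank_image O he0 W, hjdef]
    refine congrArg (fun S : Submodule F V => finrank F S) (?_ : _ = U)
    refine le_antisymm (Submodule.map_comap_le _ _) fun u hu => ?_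
    obtain ⟨k, rfl⟩ := mem_lin_iff.1 (hUN hu)
    exact ⟨k, hu, rfl⟩
  have hMN : ∀ m ∈ M, β e m = 0 → m ∈ Lin F K e := by
    intro m hm hem
    by_contra hmN
    exact no_perp_members O (fun _ => by omega) hng (by omega) (by omega) P.mem (mem_of_lin O he0 he) P.ne le_rfl hm hmN
      fun n hn => f_lin' O hem n hn
  -- the coordinates of the member
  set ψ : M →ₗ[F] K := ((β e).restrictScalars F).comp M.subtype with hψ
  set Φ := LinearMap.range ψ with hΦ
  have horth : ∀ m ∈ M, ∀ k ∈ W, Algebra.trace F K (k * β e m) = 0 := fun m hm k hk => by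
    rw [← f_smul_left O]
    exact mem_ti O P.mem _ hk.1 m hm
  have hΦfin : finrank F Φ + j = r := by
    have h := LinearMap.finrank_range_add_finrank_ker ψ
    rw [mem_finrank O P.mem, show LinearMap.ker ψ = U.comap M.subtype from
      Submodule.ext fun m => ⟨fun hm => ⟨m.2, hMN m m.2 hm⟩, fun hm => beta_lin O he hm.2⟩,
      (Submodule.comapSubtypeEquivOfLe (inf_le_left : U ≤ M)).finrank_eq] at h
    exact h
  have hWperp : ∀ x : K, (∀ k ∈ W, Algebra.trace F K (k * x) = 0) → x ∈ Φ := by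
    intro x hx
    have hle : Φ ≤ LinearMap.BilinForm.orthogonal (Algebra.traceForm F K) W := by
      rintro _ ⟨m, rfl⟩ k hk
      exact horth m m.2 k hk
    have heq := Submodule.eq_of_le_of_finrank_le hle (by
      rw [LinearMap.BilinForm.finrank_orthogonal (traceForm_nondegenerate F K), hWfin]
      omega)
    rw [heq]
    exact fun k hk => hx k hk
  have hmemW : ∀ x : K, (∀ φ ∈ Φ, Algebra.trace F K (x * φ) = 0) → x ∈ W := fun x hx =>
    mem_of_orth O fun y hy => hx y (hWperp y hy)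
  obtain ⟨g, hg, hgM⟩ := mem_std O P.mem he0 he
  have hgN : ∀ v ∈ Lin F K e, g v ∈ M := fun v hv => hgM ▸ ⟨v, hv, rfl⟩
  -- the additive group of multipliers
  let A : AddSubgroup (K →ₗ[F] K) :=
    { carrier := {δ | Cm β G e δ}
      zero_mem' := cm_zero O
      add_mem' := fun ha hb => cm_add O he ha hb
      neg_mem' := fun ha => cm_neg O he ha }
  set Λ := A.comap (symProd δ₀) with hΛ
  have hr2 : finrank F K ≠ 2 := degree_ne_two O hd
  have hΛcard : Nat.card F ^ (r - 2) < Nat.card Λ := by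
    have h1 := card_sq_ge O (Λ := Λ) fun w hw => by
      refine cm_pol_sq O he0 he hδ₀ (y := (w⁻¹ + w) / 2) ?_
      field_simp
      ring
    have hpow : Nat.card F ^ r = Nat.card F ^ (r - 2) * Nat.card F ^ 2 := by
      rw [← pow_add, show r - 2 + 2 = r by omega]
    rw [Module.natCard_eq_pow_finrank (K := F) (V := K), ← hrdef, hpow] at h1
    have hq : 3 ≤ Nat.card F := by
      by_contra hq
      have h2' : Nat.card F = 2 := by
        have := Finite.one_lt_card (α := F)
        omega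
      letI := Fintype.ofFinite F
      have h0 := FiniteField.cast_card_eq_zero F
      rw [← Nat.card_eq_fintype_card, h2'] at h0
      exact O.two (by exact_mod_cast h0)
    have hpos : 0 < Nat.card F ^ (r - 2) := pow_pos (by omega) _
    nlinarith [Nat.mul_le_mul hq hq]
  -- the point of the member
  obtain ⟨w, hw, hwN⟩ : ∃ w ∈ M, w ∉ Lin F K e := by
    by_contra hc
    push Not at hc
    exact P.ne (eq_of_le_mem O P.mem (mem_of_lin O he0 he) hc)
  have hφ0 : β e w ≠ 0 := fun h => hwN (hMN w hw h)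
  set P₀ : Submodule F K := LinearMap.ker ((Algebra.trace F K).comp (LinearMap.mulRight F (β e w)))
    with hP₀
  have mem_P₀ : ∀ x, x ∈ P₀ ↔ Algebra.trace F K (x * β e w) = 0 := fun x => Iff.rfl
  have halt0 : ∀ {δ : K →ₗ[F] K}, Cm β G e δ → ∀ k, Algebra.trace F K (δ k * k) = 0 := by
    intro δ h k
    have h1 := cm_alt O h he0 he k k
    exact (mul_eq_zero.1 (show (2 : F) * Algebra.trace F K (δ k * k) = 0 by
      linear_combination h1)).resolve_left O.two
  let T : Λ →+ K ⧸ W := AddMonoidHom.mk' (fun l => W.mkQ (symProd δ₀ l (β e w))) fun a b => by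
    rw [AddSubgroup.coe_add, map_add, LinearMap.add_apply, map_add]
  haveI : Finite (K ⧸ W) := Finite.of_surjective W.mkQ W.mkQ_surjective
  have hTle : Nat.card (Set.range T) ≤ Nat.card F ^ (r - 1 - j) := by
    have hsub : Set.range T ⊆ (LinearMap.range (W.mkQ.comp P₀.subtype) : Submodule F _) := by
      rintro _ ⟨l, rfl⟩
      exact ⟨⟨symProd δ₀ l (β e w), halt0 l.2 _⟩, rfl⟩
    have h1 := Nat.card_mono (Set.toFinite _) hsub
    rw [SetLike.coe_sort_coe, Module.natCard_eq_pow_finrank (K := F)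
      (V := ↥(LinearMap.range (W.mkQ.comp P₀.subtype)))] at h1
    refine h1.trans (Nat.pow_le_pow_right (Nat.card_pos) ?_)
    have h4 := LinearMap.finrank_range_add_finrank_ker (W.mkQ.comp P₀.subtype)
    rw [LinearMap.ker_comp, Submodule.ker_mkQ, (Submodule.comapSubtypeEquivOfLe
      (fun k hk => (mem_P₀ k).2 (horth w hw k hk) : W ≤ P₀)).finrank_eq, hWfin] at h4
    have h5 : finrank F P₀ < r := Submodule.finrank_lt fun h => hφ0 (eq_zero_of_trace (F := F) fun k => by
      exact (mem_P₀ k).1 (h ▸ Submodule.mem_top))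
    omega
  set Λ₀ := T.ker with hΛ₀
  have hΛ₀card : Nat.card F ^ (j - 1) < Nat.card Λ₀ := by
    by_contra hc
    push Not at hc
    have h1 := AddSubgroup.card_mul_index T.ker
    rw [AddSubgroup.index_ker] at h1
    have h4 := Nat.mul_le_mul hc hTle
    have h1' : Nat.card Λ₀ * Nat.card (Set.range T) = Nat.card Λ := h1
    rw [h1', ← pow_add, show j - 1 + (r - 1 - j) = r - 2 by omega] at h4
    omega
  -- the elements
  have hel : ∀ l : Λ₀, ∃ y, Ker f G U y ∧ (∀ z, y z = z + symProd δ₀ (l : Λ) (β e z) • e) := by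
    intro l
    obtain ⟨y, hy, hyz⟩ := l.1.2
    have hl : symProd δ₀ (l : Λ) (β e w) ∈ W := (Submodule.Quotient.mk_eq_zero W).1 l.2
    have hfix : ∀ u ∈ U, y u = u := fun u hu => by
      rw [hyz, beta_lin O he (hUN hu), map_zero, zero_smul, add_zero]
    have hyM : M.map y.toLinearMap = M := by
      by_contra hne
      have h1 := ng_pair O hng (mem_map O P.mem hy) P.mem hne
      have hle : U ⊔ F ∙ y w ≤ M.map y.toLinearMap ⊓ M := sup_le
        (fun u hu => ⟨map_fix O hu.1 (hfix u hu), hu.1⟩)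
        ((Submodule.span_singleton_le_iff_mem _ _).2 ⟨⟨w, hw, rfl⟩, by
          rw [hyz]; exact M.add_mem hw ((mem_W _).1 hl).1⟩)
      have hlt : U < U ⊔ F ∙ y w := lt_of_le_of_ne le_sup_left fun e' => hwN (by
        have h := (e' ▸ Submodule.mem_sup_right (Submodule.mem_span_singleton_self (y w)) : y w ∈ U).2
        rw [hyz] at h
        simpa using (Lin F K e).sub_mem h ((mem_W _).1 hl).2)
      have h4 := Submodule.finrank_lt_finrank_of_lt hlt
      have h5 := Submodule.finrank_mono hle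
      omega
    refine ⟨y, ⟨hy, hfix, fun p hp => ?_⟩, hyz⟩
    obtain ⟨m, hm⟩ := hWperp (β e p) fun k hk => by
      rw [← f_smul_left O, f_symm O]; exact hp _ hk
    have hm' : β e (m : V) = β e p := hm
    have h1 : y (m : V) - m ∈ U := ⟨M.sub_mem (hyM.le ⟨m, m.2, rfl⟩) m.2, by
      rw [hyz, add_sub_cancel_left]; exact mem_lin_iff.2 ⟨_, rfl⟩⟩
    rw [hyz, add_sub_cancel_left, hm'] at h1
    rwa [hyz, add_sub_cancel_left]
  -- seen from the other side
  set U' := U.map (g⁻¹ : V ≃ₗ[F] V).toLinearMap with hU'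
  have hU'N : U' ≤ Lin F K e := by
    rintro _ ⟨u, hu, rfl⟩
    obtain ⟨v, hv, hvu⟩ := (hgM.le hu.1 : u ∈ (Lin F K e).map g.toLinearMap)
    rw [← hvu]
    show g.symm (g v) ∈ _
    rw [g.symm_apply_apply]
    exact hv
  have hU'j : finrank F U' = j := LinearEquiv.finrank_map_eq _ _
  have hU'g : U'.map g.toLinearMap = U := by
    have := map_inv O (g := g⁻¹) U
    rwa [inv_inv] at this
  let ν : Λ₀ → K →ₗ[F] K := fun l => ((β e).restrictScalars F).comp ((g.symm.toLinearMap).comp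
    (((LinearMap.toSpanSingleton K V e).restrictScalars F).comp (symProd δ₀ (l : Λ))))
  have hν : ∀ l k, ν l k = β e (g.symm (symProd δ₀ (l : Λ) k • e)) := fun l k => rfl
  have hx : ∀ l, ∃ x, Ker f G U' x ∧ ∀ a, β e (x a - a) = ν l (β e (g a)) := by
    intro l
    obtain ⟨y, hy, hyz⟩ := hel l
    refine ⟨g⁻¹ * y * (g⁻¹)⁻¹, ker_map O hy (inv_mem hg), fun a => ?_⟩
    show β e (g.symm (y ((g⁻¹ : V ≃ₗ[F] V).symm a)) - a) = _
    rw [show (g⁻¹ : V ≃ₗ[F] V).symm a = g a from rfl, hyz, map_add, g.symm_apply_apply,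
      add_sub_cancel_left, hν]
  obtain ⟨e', he', hee'⟩ := exists_opp O he0 he
  obtain ⟨v, hev, -, hvv⟩ := exists_aniso O he he' (by rw [hee']; exact one_ne_zero)
  have hsur : ∀ k, ∃ a, β e (g a) = k := fun k => ⟨g.symm (k • e'), by
    rw [g.apply_symm_apply, map_smul, hee', smul_eq_mul, mul_one]⟩
  have hprop : ∀ l l' p s, ν l p * ν l' s = ν l s * ν l' p := by
    intro l l' p s
    obtain ⟨x, hxk, hxa⟩ := hx l
    obtain ⟨x', hxk', hxa'⟩ := hx l'
    obtain ⟨a, rfl⟩ := hsur p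
    obtain ⟨b, rfl⟩ := hsur s
    rw [← hxa, ← hxa', ← hxa, ← hxa']
    exact ker_key O hd hng he0 he hU'N hU'j h3 hxk hxk' a b
  have hνW : ∀ l k, ν l k = 0 → symProd δ₀ (l : Λ) k ∈ W := by
    intro l k hk
    refine hmemW _ ?_
    rintro _ ⟨m, rfl⟩
    obtain ⟨v', hv', hvm⟩ := (hgM.le m.2 : (m : V) ∈ (Lin F K e).map g.toLinearMap)
    show Algebra.trace F K (symProd δ₀ (l : Λ) k * β e (m : V)) = 0
    rw [← f_smul_left O, ← hvm]
    show f (symProd δ₀ (l : Λ) k • e) (g v') = 0
    rw [← g.apply_symm_apply (symProd δ₀ (l : Λ) k • e), O.iso g hg]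
    exact f_lin' O (by rw [← hν, hk]) v' hv'
  -- a fixed non-trivial one
  obtain ⟨l₁, hl₁⟩ : ∃ l : Λ₀, l ≠ 0 := by
    haveI : Nontrivial Λ₀ := Finite.one_lt_card_iff_nontrivial.1
      (lt_of_le_of_lt (Nat.one_le_pow _ _ Nat.card_pos) hΛ₀card)
    exact exists_ne 0
  have hne : ∀ l : Λ₀, l ≠ 0 → symProd δ₀ (l : Λ) ≠ 0 := fun l hl h =>
    hl (Subtype.ext (Subtype.ext (symProd_inj O hr2 he0 he hδ₀ hδ₀0 h)))
  obtain ⟨a, ha⟩ : ∃ a, ν l₁ a ≠ 0 := by
    by_contra hc
    push Not at hc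
    refine hne l₁ hl₁ (cm_small O hng he0 he l₁.1.2 ?_)
    have h1 := Submodule.finrank_mono (show LinearMap.range (symProd δ₀ (l₁ : Λ)) ≤ W by
      rintro _ ⟨k, rfl⟩; exact hνW _ k (hc k))
    omega
  obtain ⟨x₁, hx₁, hx₁a⟩ := hx l₁
  let π : K →ₗ[F] K := ((β e).restrictScalars F).comp (g.toLinearMap.comp
    ((LinearMap.toSpanSingleton K V e).restrictScalars F))
  have hπ : ∀ k, π k = β e (g (k • e)) := fun k => rfl
  have hti' : ∀ u ∈ U', ∀ u' ∈ U', f u u' = 0 := fun u hu u' hu' =>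
    f_lin' O (beta_lin O he (hU'N hu)) u' (hU'N hu')
  have hZ : ∀ τ : K, ∃ Z, Ker f G U Z ∧ ∀ b, β e (Z b - b) = -π (τ * ν l₁ (β e b)) := by
    intro τ
    obtain ⟨z, hz, hza⟩ := ker_diff O he hev hU'N hti' hx₁ (τ / β v v)
    refine ⟨g * z * g⁻¹, hU'g ▸ ker_map O hz hg, fun b => ?_⟩
    obtain ⟨c, rfl⟩ := g.surjective b
    show β e (g (z (g.symm (g c))) - g c) = _
    rw [g.symm_apply_apply, ← map_sub, hπ, eq_neg_iff_add_eq_zero, ← map_add, ← map_add]
    refine beta_lin O he (hUN (hU'g ▸ ?_))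
    have h := hza c
    rw [hx₁a, div_mul_cancel₀ _ hvv] at h
    exact ⟨_, h, rfl⟩
  obtain ⟨τ₀, hτ₀⟩ : ∃ τ₀, π τ₀ ≠ 0 := by
    by_contra hc
    push Not at hc
    refine P.ne (eq_of_le_mem O P.mem (mem_of_lin O he0 he) fun m hm => hMN m hm ?_)
    rw [hgM] at hm
    obtain ⟨v', hv', rfl⟩ := hm
    obtain ⟨k, rfl⟩ := mem_lin_iff.1 hv'
    exact (hπ k).symm.trans (hc k)
  have hcF : ∀ b, ∃ c : F, ν l₁ b = c • ν l₁ a := by
    intro b
    let S : Subalgebra F K :=
      { carrier := {s | ∀ x, π x = 0 → π (s * x) = 0}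
        mul_mem' := fun {p q} hp hq x hx => by rw [mul_assoc]; exact hp _ (hq x hx)
        add_mem' := fun {p q} hp hq x hx => by rw [add_mul, map_add, hp x hx, hq x hx, add_zero]
        algebraMap_mem' := fun c x hx => by rw [← Algebra.smul_def, map_smul, hx, smul_zero] }
    have hθ : ν l₁ b / ν l₁ a ∈ S := by
      intro x hx
      obtain ⟨Z, hZk, hZb⟩ := hZ (x / ν l₁ a)
      obtain ⟨Z', hZk', hZb'⟩ := hZ (τ₀ / ν l₁ a)
      have h := ker_key O hd hng he0 he hUN hjdef.symm h3 hZk hZk' (b • e') (a • e')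
      rw [hZb, hZb, hZb', hZb'] at h
      simp only [map_smul, hee', smul_eq_mul, mul_one] at h
      rw [div_mul_cancel₀ _ ha, div_mul_cancel₀ _ ha, hx, neg_zero, zero_mul,
        show x / ν l₁ a * ν l₁ b = ν l₁ b / ν l₁ a * x by ring, neg_mul_neg, mul_eq_zero] at h
      exact h.resolve_right hτ₀
    haveI := Subalgebra.isSimpleOrder_of_finrank_prime F K O.prime
    rcases eq_bot_or_eq_top S with hS | hS
    · obtain ⟨c, hc⟩ := Algebra.mem_bot.1 (hS ▸ hθ)
      exact ⟨c, by rw [Algebra.smul_def, hc, div_mul_cancel₀ _ ha]⟩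
    · exfalso
      obtain ⟨u, hu, hu0⟩ : ∃ u ∈ U', u ≠ 0 := (Submodule.ne_bot_iff _).1 fun h => by
        rw [h, finrank_bot] at hU'j; omega
      obtain ⟨k, rfl⟩ := mem_lin_iff.1 (hU'N hu)
      have hk : k ≠ 0 := fun h => hu0 (by rw [h, zero_smul])
      refine hτ₀ ?_
      rw [← div_mul_cancel₀ τ₀ hk]
      refine (hS ▸ Algebra.mem_top : τ₀ / k ∈ S) k ?_
      rw [hπ]
      exact beta_lin O he (hUN (hU'g ▸ ⟨_, hu, rfl⟩))
  have hker : ∀ l k, ν l₁ k = 0 → symProd δ₀ ((l : Λ₀) : Λ) k ∈ W := fun l k hk => hνW l k (by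
    have h := hprop l₁ l k a
    rw [hk, zero_mul] at h
    exact (mul_eq_zero.1 h.symm).resolve_left ha)
  obtain ⟨c₀, hc₀S, hc₀Φ⟩ : ∃ c ∈ LinearMap.ker (ν l₁), c ∉ Φ := by
    refine SetLike.not_le_iff_exists.1 fun hle => ?_
    have h1 := Submodule.finrank_mono hle
    have h4 := LinearMap.finrank_range_add_finrank_ker (ν l₁)
    have h5 := Submodule.finrank_mono (show LinearMap.range (ν l₁) ≤ F ∙ ν l₁ a by
      rintro _ ⟨b, rfl⟩
      obtain ⟨c, hc⟩ := hcF b
      exact Submodule.mem_span_singleton.2 ⟨c, hc.symm⟩)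
    rw [finrank_span_singleton ha] at h5
    omega
  set C₀ : Submodule F K := LinearMap.ker ((Algebra.trace F K).comp (LinearMap.mulRight F c₀)) with hC₀
  have mem_C₀ : ∀ x, x ∈ C₀ ↔ Algebra.trace F K (x * c₀) = 0 := fun x => Iff.rfl
  obtain ⟨kW, hkW, hkW0⟩ : ∃ k ∈ W, k ∉ C₀ := by
    by_contra hc
    push Not at hc
    exact hc₀Φ (hWperp c₀ fun k hk => (mem_C₀ k).1 (hc k hk))
  have hlt : finrank F ↥(W ⊓ C₀) < j := by
    rw [← hWfin]
    exact Submodule.finrank_lt_finrank_of_lt (lt_of_le_of_ne inf_le_left fun h => hkW0 (h.ge hkW).2)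
  let T₀ : Λ₀ →+ ↥(W ⊓ C₀) := AddMonoidHom.mk' (fun l => ⟨symProd δ₀ (l : Λ) c₀,
      hker l c₀ hc₀S, halt0 l.1.2 c₀⟩) fun p q => Subtype.ext (by
    show symProd δ₀ ((p : Λ) + (q : Λ) : Λ) c₀ = _
    rw [AddSubgroup.coe_add, map_add, LinearMap.add_apply]; rfl)
  obtain ⟨l, hl0, hl⟩ : ∃ l, l ≠ 0 ∧ T₀ l = 0 := by
    by_contra hc
    push Not at hc
    have hinj : Function.Injective T₀ := (injective_iff_map_eq_zero T₀).2 fun l hl => by
      by_contra hl0; exact hc l hl0 hl
    have h1 := Nat.card_le_card_of_injective T₀ hinj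
    rw [Module.natCard_eq_pow_finrank (K := F) (V := ↥(W ⊓ C₀))] at h1
    have h4 := Nat.pow_le_pow_right (Nat.card_pos (α := F)) (show finrank F ↥(W ⊓ C₀) ≤ j - 1 by omega)
    omega
  have hl' : symProd δ₀ (l : Λ) c₀ = 0 := congrArg Subtype.val hl
  refine hne l hl0 (cm_small O hng he0 he l.1.2 ?_)
  set R := W ⊔ F ∙ symProd δ₀ (l : Λ) a with hR
  have hle : LinearMap.range (symProd δ₀ (l : Λ)) ≤ R ⊓ C₀ := by
    rintro _ ⟨k, rfl⟩
    refine ⟨?_, (mem_C₀ _).2 ?_⟩
    · obtain ⟨c, hc⟩ := hcF k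
      have h1 := hker l (k - c • a) (by rw [map_sub, map_smul, hc, sub_self])
      rw [map_sub, map_smul] at h1
      exact Submodule.mem_sup.2 ⟨_, h1, _, Submodule.smul_mem _ c
        (Submodule.mem_span_singleton_self _), sub_add_cancel _ _⟩
    · rw [cm_alt O l.1.2 he0 he, hl', zero_mul, map_zero, neg_zero]
  have h1 := Submodule.finrank_mono hle
  have h4 : finrank F ↥(R ⊓ C₀) < finrank F R := Submodule.finrank_lt_finrank_of_lt
    (lt_of_le_of_ne inf_le_left fun h => hkW0 (h.ge (Submodule.mem_sup_left hkW)).2)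
  have h5 := Submodule.finrank_add_le_finrank_add_finrank W (F ∙ symProd δ₀ (l : Λ) a)
  have h6 : finrank F (F ∙ symProd δ₀ (l : Λ) a) ≤ 1 := by
    simpa using finrank_span_le_card ({symProd δ₀ (l : Λ) a} : Set K) (R := F)
  rw [← hR, hWfin] at h5
  omega

end

end CfsgLib.MaxSub.ExtOrthMax
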