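/-
Dimension three, no element fixing the perpendicular of a line: only a line meets the members.
-/
import Cfsg.Agent.Lib.MaxSub.ExtOrthMax.Stuck
import Cfsg.Agent.Lib.CoprimeGen
import Mathlib.GroupTheory.Transfer
import Mathlib.RingTheory.Norm.Transitivity
import Mathlib.LinearAlgebra.Transvection.Basic

set_option autoImplicit false
set_option maxHeartbeats 800000
set_option linter.unusedSectionVars false
set_option linter.style.haveILetI false

namespace CfsgLib.MaxSub.ExtOrthMax

open Module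
open CfsgLib.MaxSub.ExtLin (Lin mem_lin_iff finrank_lin finrank_restrict)
open CfsgLib.MaxSub.ExtSymp (eq_zero_of_trace)

variable {F K V : Type*} [Field F] [Fintype F] [Field K] [Algebra F K] [FiniteDimensional F K]
  [AddCommGroup V] [Module F V] [Module K V] [IsScalarTower F K V] [FiniteDimensional F V]
  {f : V →ₗ[F] V →ₗ[F] F} {β : V →ₗ[K] V →ₗ[K] K} {G : Subgroup (V ≃ₗ[F] V)}

/-- The elements fixing a subspace pointwise. -/
def FixSub (G : Subgroup (V ≃ₗ[F] V)) (U : Submodule F V) : Subgroup (V ≃ₗ[F] V) where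
  carrier := {x | x ∈ G ∧ ∀ u ∈ U, x u = u}
  mul_mem' {a b} ha hb := ⟨mul_mem ha.1 hb.1, fun u hu => by
    show a (b u) = u; rw [hb.2 u hu, ha.2 u hu]⟩
  one_mem' := ⟨one_mem G, fun _ _ => rfl⟩
  inv_mem' {a} ha := ⟨inv_mem ha.1, fun u hu => by
    show a.symm u = u; conv_lhs => rw [← ha.2 u hu]
    exact a.symm_apply_apply u⟩

/-- The elements fixing a singular line pointwise and trivial on its perpendicular modulo it. -/
def UniSub (β : V →ₗ[K] V →ₗ[K] K) (G : Subgroup (V ≃ₗ[F] V)) (e : V) :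
    Subgroup (V ≃ₗ[F] V) where
  carrier := {x | x ∈ G ∧ (∀ n ∈ Lin F K e, x n = n) ∧
    ∀ y, β e y = 0 → β e (x y) = 0 ∧ β e (x.symm y) = 0 ∧ x y - y ∈ Lin F K e}
  mul_mem' {a b} ha hb := ⟨mul_mem ha.1 hb.1, fun u hu => by
      show a (b u) = u; rw [hb.2.1 u hu, ha.2.1 u hu],
    fun y hy => ⟨(ha.2.2 _ (hb.2.2 y hy).1).1, (hb.2.2 _ (ha.2.2 y hy).2.1).2.1, by
      show a (b y) - y ∈ _
      rw [show a (b y) - y = (a (b y) - b y) + (b y - y) by abel]
      exact add_mem (ha.2.2 _ (hb.2.2 y hy).1).2.2 (hb.2.2 y hy).2.2⟩⟩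
  one_mem' := ⟨one_mem G, fun _ _ => rfl, fun y hy => ⟨hy, hy, by simp⟩⟩
  inv_mem' {a} ha := ⟨inv_mem ha.1, fun u hu => by
      show a.symm u = u; conv_lhs => rw [← ha.2.1 u hu]
      exact a.symm_apply_apply u,
    fun y hy => ⟨(ha.2.2 y hy).2.1, (ha.2.2 y hy).1, by
      show a.symm y - y ∈ _
      have h := (ha.2.2 _ (ha.2.2 y hy).2.1).2.2
      rw [a.apply_symm_apply] at h
      rw [← neg_sub]
      exact neg_mem h⟩⟩

section

variable (O : OX f β G)
include O

theorem beta_fix {e : V} {x : V ≃ₗ[F] V} (hx : x ∈ G) (h : ∀ n ∈ Lin F K e, x n = n) (y : V) :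
    β e (x y) = β e y := by
  refine sub_eq_zero.1 (eq_zero_of_trace (F := F) fun k => ?_)
  rw [mul_sub, map_sub, ← f_smul_left O, ← f_smul_left O]
  conv_lhs => arg 1; rw [← h _ (mem_lin_iff.2 ⟨k, rfl⟩), O.iso x hx]
  exact sub_self _

theorem mem_uniSub {e : V} {x : V ≃ₗ[F] V} (hx : x ∈ G) (h : ∀ n ∈ Lin F K e, x n = n)
    (h' : ∀ y, β e y = 0 → x y - y ∈ Lin F K e) : x ∈ UniSub β G e :=
  ⟨hx, h, fun y hy => ⟨by rw [beta_fix O hx h, hy],
    by rw [← beta_fix O hx h (x.symm y), x.apply_symm_apply, hy], h' y hy⟩⟩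

/-- With small intersections some element fixes the perpendicular of a line. -/
theorem no_cm_absurd (hd : finrank K V = 3) {M : Submodule F V} {e : V} (P : Meet F β G M e)
    (h2 : 2 ≤ finrank F ↥(M ⊓ Lin F K e)) (hcm : ∀ δ : K →ₗ[F] K, Cm β G e δ → δ = 0) : False := by
  classical
  haveI := finite_K O
  haveI := finite_VK O
  haveI : Finite V := Module.finite_of_finite F
  have he := P.sing
  have he0 := P.ne0
  have hK := two_K O
  set U := M ⊓ Lin F K e with hUdef
  obtain ⟨e', he', hee'⟩ := exists_opp O he0 he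
  obtain ⟨v, hev, he'v, hvv⟩ := exists_aniso O he he' (by rw [hee']; exact one_ne_zero)
  obtain ⟨c, hc⟩ : ∃ c, c = β v v := ⟨_, rfl⟩
  rw [← hc] at hvv
  have hexp : ∀ y : V, y = β e' y • e + (β v y / c) • v + β e y • e' := fun y => by
    rw [hc]; exact frame_expand O hd he he' hee' hev he'v (hc ▸ hvv) y
  have hE : ∀ t : K, ∃ g ∈ G, ∀ y,
      g y = y + β e y • t • v - (t * β v y + t * t * c / 2 * β e y) • e := by
    intro t
    obtain ⟨g, hg, hgy⟩ := O.eich e (t • v) he (by rw [map_smul, hev, smul_zero])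
    refine ⟨g, hg, fun y => ?_⟩
    rw [hgy]
    simp only [map_smul, LinearMap.smul_apply, smul_eq_mul, ← hc]
    congr 2
    ring
  choose E hEG hEy using hE
  have hEN : ∀ t, ∀ n ∈ Lin F K e, E t n = n := by
    intro t n hn
    obtain ⟨l, rfl⟩ := mem_lin_iff.1 hn
    simp [hEy, he, O.symm v e, hev]
  have hEU : ∀ t, E t ∈ UniSub β G e := fun t => mem_uniSub O (hEG t) (hEN t) fun y hy => by
    rw [hEy, hy, zero_smul, add_zero, sub_sub_cancel_left]
    exact neg_mem (mem_lin_iff.2 ⟨_, rfl⟩)
  have hEfix : ∀ t, t ≠ 0 → ∀ y, E t y = y → y ∈ Lin F K e := by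
    intro t ht y h
    rw [hEy, add_sub_assoc, add_eq_left] at h
    have h1 := congrArg (β v) h
    simp only [map_sub, map_smul, map_zero, O.symm v e, hev, ← hc, smul_eq_mul, mul_zero, sub_zero,
      mul_eq_zero, ht, hvv, or_false] at h1
    rw [h1, zero_smul, mul_zero, add_zero, zero_sub, neg_eq_zero, smul_eq_zero, mul_eq_zero] at h
    have h3 := hexp y
    rw [h1, (h.resolve_right he0).resolve_left ht, zero_div, zero_smul, zero_smul, add_zero,
      add_zero] at h3
    exact mem_lin_iff.2 ⟨_, h3.symm⟩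
  -- only the Eichler transformations are trivial on both sides
  have hR : ∀ x ∈ UniSub β G e, ∃ t, x = E t := by
    rintro x ⟨hxG, hxN, hx'⟩
    have hβ := beta_fix O hxG hxN
    let L : K →ₗ[F] K := ((β e').restrictScalars F).comp ((x.toLinearMap - LinearMap.id).comp
      ((LinearMap.toSpanSingleton K V v).restrictScalars F))
    let A : K →ₗ[F] K := ((β e').restrictScalars F).comp ((x.toLinearMap - LinearMap.id).comp
      ((LinearMap.toSpanSingleton K V e').restrictScalars F))
    let B : K →ₗ[F] K := (LinearMap.mulLeft F c⁻¹).comp (((β v).restrictScalars F).comp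
      ((x.toLinearMap - LinearMap.id).comp ((LinearMap.toSpanSingleton K V e').restrictScalars F)))
    have hL : ∀ ζ : K, x (ζ • v) = ζ • v + L ζ • e := by
      intro ζ
      obtain ⟨l, hl⟩ := mem_lin_iff.1 (hx' (ζ • v) (by rw [map_smul, hev, smul_zero])).2.2
      have : L ζ = l := by
        show β e' (x (ζ • v) - ζ • v) = l
        rw [← hl, map_smul, O.symm, hee', smul_eq_mul, mul_one]
      rw [this, hl, add_sub_cancel]
    have hAB : ∀ φ : K, x (φ • e') = φ • e' + A φ • e + B φ • v := by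
      intro φ
      have h3 := hexp (x (φ • e') - φ • e')
      rw [show β e (x (φ • e') - φ • e') = 0 by rw [map_sub, hβ, sub_self], zero_smul, add_zero] at h3
      have h4 : β v (x (φ • e') - φ • e') / c = B φ := div_eq_inv_mul _ _
      rw [h4] at h3
      rw [add_assoc, ← sub_eq_iff_eq_add']
      exact h3
    have hxy : ∀ y, x y = y + L (β v y / c) • e + A (β e y) • e + B (β e y) • v := by
      intro y
      conv_lhs => rw [hexp y]
      rw [map_add, map_add, hxN _ (mem_lin_iff.2 ⟨_, rfl⟩), hL, hAB]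
      conv_rhs => arg 1; arg 1; arg 1; rw [hexp y]
      abel
    have hlin : ∀ t φ, L (t * φ) + t * c * B φ = 0 := by
      intro t
      have hδ : Cm β G e (L.comp (LinearMap.mulLeft F t) + (LinearMap.mulLeft F (t * c)).comp B) := by
        refine ⟨x * E t * x⁻¹ * (E t)⁻¹,
          mul_mem (mul_mem (mul_mem hxG (hEG t)) (inv_mem hxG)) (inv_mem (hEG t)), fun z => ?_⟩
        obtain ⟨w, rfl⟩ := (E t).surjective z
        obtain ⟨y, rfl⟩ := x.surjective w
        show x (E t (x.symm ((E t).symm (E t (x y))))) = _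
        rw [(E t).symm_apply_apply, x.symm_apply_apply, beta_fix O (hEG t) (hEN t), hβ]
        rw [hEy, hEy, map_sub, map_add, smul_smul (β e y), hL, hxN _ (mem_lin_iff.2 ⟨_, rfl⟩)]
        rw [hβ]
        have hv : β v (x y) = β v y + c * B (β e y) := by
          rw [hxy]
          simp only [map_add, map_smul, O.symm v e, hev, ← hc, smul_eq_mul, mul_zero, add_zero]
          ring
        rw [hv]
        simp only [LinearMap.add_apply, LinearMap.comp_apply, LinearMap.mulLeft_apply]
        rw [mul_comm (β e y) t]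
        module
      intro φ
      have h := hcm _ hδ
      exact LinearMap.congr_fun h φ
    obtain ⟨l, hl⟩ : ∃ l, l = L 1 := ⟨_, rfl⟩
    have hLl : ∀ φ, L φ = l * φ := fun φ => by
      have h1 := hlin φ 1
      have h3 := hlin 1 1
      rw [mul_one] at h1
      rw [one_mul, ← hl, one_mul] at h3
      linear_combination h1 - φ * h3
    obtain ⟨s, hs⟩ : ∃ s, s = -l / c := ⟨_, rfl⟩
    have hBs : ∀ φ, B φ = s * φ := fun φ => by
      have h := hlin 1 φ
      rw [one_mul, one_mul, hLl] at h
      rw [hs]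
      field_simp
      linear_combination h
    have hδ : Cm β G e (A + LinearMap.mulLeft F (s * s * c / 2)) := by
      refine ⟨x * (E s)⁻¹, mul_mem hxG (inv_mem (hEG s)), fun z => ?_⟩
      obtain ⟨y, rfl⟩ := (E s).surjective z
      show x ((E s).symm (E s y)) = _
      rw [(E s).symm_apply_apply, beta_fix O (hEG s) (hEN s), hxy, hEy, hLl, hBs]
      simp only [LinearMap.add_apply, LinearMap.mulLeft_apply]
      have hl' : l = -(s * c) := by rw [hs]; field_simp
      rw [hl', show -(s * c) * (β v y / c) = -(s * β v y) by field_simp]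
      module
    refine ⟨s, LinearEquiv.ext fun y => ?_⟩
    have hA := LinearMap.congr_fun (hcm _ hδ) (β e y)
    simp only [LinearMap.add_apply, LinearMap.mulLeft_apply, LinearMap.zero_apply,
      add_eq_zero_iff_eq_neg] at hA
    rw [hxy, hEy, hLl, hBs, hA]
    have hl' : l = -(s * c) := by rw [hs]; field_simp
    rw [hl', show -(s * c) * (β v y / c) = -(s * β v y) by field_simp]
    module
  -- the additive parameter
  have hEv : ∀ t, E t v = v - (t * c) • e := fun t => by
    rw [hEy, hev, zero_smul, add_zero, mul_zero, add_zero, ← hc]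
  have hEinj : Function.Injective E := fun s t h => by
    have h1 : E s v = E t v := by rw [h]
    rw [hEv, hEv, sub_right_inj] at h1
    exact mul_right_cancel₀ hvv (smul_left_injective K he0 h1)
  have hEadd : ∀ s t, E s * E t = E (s + t) := by
    intro s t
    obtain ⟨u, hu⟩ := hR _ (mul_mem (hEU s) (hEU t))
    rw [hu]
    congr 1
    have h1 : E u v = E s (E t v) := by rw [← hu]; rfl
    rw [hEv, hEv, map_sub, hEv, hEN s _ (mem_lin_iff.2 ⟨_, rfl⟩), sub_sub, ← add_smul,
      sub_right_inj] at h1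
    exact mul_right_cancel₀ hvv ((smul_left_injective K he0 h1).trans (by ring))
  have hE0 : E 0 = 1 := LinearEquiv.ext fun y => by simp [hEy]
  have hEpow : ∀ t (n : ℕ), E t ^ n = E ((n : K) * t) := by
    intro t n
    induction n with
    | zero => rw [pow_zero, Nat.cast_zero, zero_mul, hE0]
    | succ n ih => rw [pow_succ, ih, hEadd, Nat.cast_succ, add_mul, one_mul]
  -- the scalars of the intersection
  set W := U.comap ((LinearMap.toSpanSingleton K V e).restrictScalars F) with hW
  obtain ⟨k₀, k₁, hk₀, hk₁, hk₀0, hθ⟩ : ∃ k₀ k₁ : K, k₀ ∈ W ∧ k₁ ∈ W ∧ k₀ ≠ 0 ∧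
      k₁ / k₀ ∉ (⊥ : Subalgebra F K) := by
    obtain ⟨g, hgi⟩ := exists_linearIndependent_of_le_finrank h2
    obtain ⟨a, ha⟩ := mem_lin_iff.1 (g 0).2.2
    obtain ⟨b, hb⟩ := mem_lin_iff.1 (g 1).2.2
    have ha0 : a ≠ 0 := fun h => hgi.ne_zero 0 (Subtype.ext (by rw [← ha, h, zero_smul]; rfl))
    refine ⟨a, b, (?_ : a • e ∈ U), (?_ : b • e ∈ U), ha0, fun h => ?_⟩
    · rw [ha]; exact (g 0).2
    · rw [hb]; exact (g 1).2
    · obtain ⟨x, hx⟩ := Algebra.mem_bot.1 h
      rw [eq_div_iff ha0, ← Algebra.smul_def] at hx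
      have h3 := Fintype.linearIndependent_iff.1 hgi ![x, -1] (by
        refine Subtype.ext ?_
        simp only [Fin.sum_univ_two, Matrix.cons_val_zero, Matrix.cons_val_one, Submodule.coe_add,
          Submodule.coe_smul, Submodule.coe_neg, Submodule.coe_zero, ← ha, ← hb, ← hx, smul_assoc,
          neg_smul, one_smul, add_neg_cancel]) 1
      simp at h3
  -- the stabiliser of the line
  have hkey : ∀ k ∈ FixSub G U, (∀ n ∈ Lin F K e, k n ∈ Lin F K e) → k ∈ UniSub β G e := by
    rintro k ⟨hkG, hkU⟩ hkN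
    have hsurN : ∀ n ∈ Lin F K e, ∃ m ∈ Lin F K e, k m = n := by
      intro n hn
      have hle : (Lin F K e).map k.toLinearMap ≤ Lin F K e := by
        rintro _ ⟨m, hm, rfl⟩; exact hkN m hm
      obtain ⟨m, hm, hm'⟩ := (Submodule.eq_of_le_of_finrank_eq hle (LinearEquiv.finrank_map_eq _ _)).ge hn
      exact ⟨m, hm, hm'⟩
    have hkperp : ∀ y, β e y = 0 → β e (k y) = 0 := fun y hy => f_lin O fun n hn => by
      obtain ⟨m, hm, rfl⟩ := hsurN n hn
      rw [O.iso k hkG]
      exact f_lin' O hy m hm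
    let H : K →ₗ[F] K := ((β e').restrictScalars F).comp (k.toLinearMap.comp
      ((LinearMap.toSpanSingleton K V e).restrictScalars F))
    let A : K →ₗ[F] K := (LinearMap.mulLeft F c⁻¹).comp (((β v).restrictScalars F).comp
      (k.toLinearMap.comp ((LinearMap.toSpanSingleton K V v).restrictScalars F)))
    have hH : ∀ ζ, k (ζ • e) = H ζ • e := fun ζ => by
      obtain ⟨l, hl⟩ := mem_lin_iff.1 (hkN _ (mem_lin_iff.2 ⟨ζ, rfl⟩))
      show _ = β e' (k (ζ • e)) • e
      rw [← hl, map_smul, O.symm, hee', smul_eq_mul, mul_one]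
    have hHW : ∀ a ∈ W, H a = a := fun a ha => smul_left_injective K he0 (by
      show H a • e = a • e
      rw [← hH, hkU (a • e) ha])
    have hA : ∀ ζ : K, ∃ C : K, k (ζ • v) = C • e + A ζ • v := by
      intro ζ
      refine ⟨β e' (k (ζ • v)), ?_⟩
      have h3 := hexp (k (ζ • v))
      rw [hkperp _ (by rw [map_smul, hev, smul_zero]), zero_smul, add_zero,
        show β v (k (ζ • v)) / c = A ζ from div_eq_inv_mul _ _] at h3
      exact h3
    have hconj : ∀ t ζ, ∃ α, k * E t * k⁻¹ = E α ∧ H (t * c * ζ) = α * c * A ζ := by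
      intro t ζ
      have hG' : k * E t * k⁻¹ ∈ G := mul_mem (mul_mem hkG (hEG t)) (inv_mem hkG)
      have hfixN : ∀ n ∈ Lin F K e, (k * E t * k⁻¹) n = n := by
        intro n hn
        obtain ⟨m, hm, rfl⟩ := hsurN n hn
        show k (E t (k.symm (k m))) = k m
        rw [k.symm_apply_apply, hEN t m hm]
      obtain ⟨α, hα⟩ := hR _ (mem_uniSub O hG' hfixN fun y hy => by
        show k (E t (k.symm y)) - y ∈ _
        have h1 : β e (k.symm y) = 0 := f_lin O fun n hn => by
          rw [← O.iso k hkG, k.apply_symm_apply]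
          exact f_lin' O hy _ (hkN n hn)
        have h3 := hkN _ ((hEU t).2.2 _ h1).2.2
        rwa [map_sub, k.apply_symm_apply] at h3)
      refine ⟨α, hα, ?_⟩
      obtain ⟨C, hC⟩ := hA ζ
      have h1 : k (E t (ζ • v)) = E α (k (ζ • v)) := by
        rw [← hα]
        show _ = k (E t (k.symm (k (ζ • v))))
        rw [k.symm_apply_apply]
      rw [hEy, hEy, hkperp _ (by rw [map_smul, hev, smul_zero])] at h1
      simp only [map_smul, hev, smul_eq_mul, mul_zero, zero_smul, add_zero, map_sub, hH, ← hc] at h1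
      rw [hC] at h1
      simp only [map_add, map_smul, O.symm v e, hev, ← hc, smul_eq_mul, mul_zero, zero_add] at h1
      rw [sub_right_inj] at h1
      have := smul_left_injective K he0 h1
      rw [show t * c * ζ = t * (ζ * c) by ring, this]
      ring
    have hHinj : ∀ a, H a = 0 → a = 0 := fun a h => by
      have h1 := hH a
      rw [h, zero_smul, k.map_eq_zero_iff, smul_eq_zero] at h1
      exact h1.resolve_right he0
    have hrel : ∀ s ζ, H (s * ζ) * A 1 = H s * A ζ := by
      intro s ζ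
      obtain ⟨α, hα, e1⟩ := hconj (s / c) ζ
      obtain ⟨α', hα', e2⟩ := hconj (s / c) 1
      rw [hα] at hα'
      rw [← hEinj hα', mul_one, div_mul_cancel₀ _ hvv] at e2
      rw [div_mul_cancel₀ _ hvv] at e1
      rw [e1, e2]
      ring
    have hA1 : A 1 ≠ 0 := fun h => by
      obtain ⟨α, -, e2⟩ := hconj (1 / c) 1
      rw [h, mul_zero, mul_one, div_mul_cancel₀ _ hvv] at e2
      exact one_ne_zero (hHinj _ e2)
    have hmul : ∀ s ζ, H (s * ζ) * H 1 = H s * H ζ := by
      intro s ζ
      have h1 := hrel s ζ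
      have h3 := hrel 1 ζ
      rw [one_mul] at h3
      refine mul_right_cancel₀ hA1 ?_
      linear_combination (H 1) * h1 - (H s) * h3
    have hH1 : H 1 ≠ 0 := fun h => one_ne_zero (hHinj _ h)
    let S : Subalgebra F K :=
      { carrier := {s | ∀ ζ, H (s * ζ) = s * H ζ}
        mul_mem' := fun {p q} hp hq ζ => by rw [mul_assoc, hp, hq, mul_assoc]
        add_mem' := fun {p q} hp hq ζ => by rw [add_mul, map_add, hp, hq, add_mul]
        algebraMap_mem' := fun a ζ => by rw [← Algebra.smul_def, map_smul, ← Algebra.smul_def] }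
    have hθS : k₁ / k₀ ∈ S := by
      have hθ' : H (k₁ / k₀) = k₁ / k₀ * H 1 := by
        have h := hmul (k₁ / k₀) k₀
        rw [div_mul_cancel₀ _ hk₀0, hHW _ hk₁, hHW _ hk₀] at h
        field_simp
        linear_combination -h
      intro ζ
      refine mul_right_cancel₀ hH1 ?_
      rw [hmul, hθ']
      ring
    haveI := Subalgebra.isSimpleOrder_of_finrank_prime F K O.prime
    have hHid : ∀ s, H s = s := by
      rcases eq_bot_or_eq_top S with h | h
      · exact absurd (h ▸ hθS) hθ
      have hs : ∀ s, H s = s * H 1 := fun s => by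
        have := (h ▸ Algebra.mem_top : s ∈ S) 1
        rwa [mul_one] at this
      have h1 : H 1 = 1 := by
        refine mul_left_cancel₀ hk₀0 ?_
        rw [← hs, hHW _ hk₀, mul_one]
      intro s
      rw [hs, h1, mul_one]
    have hkN' : ∀ n ∈ Lin F K e, k n = n := fun n hn => by
      obtain ⟨l, rfl⟩ := mem_lin_iff.1 hn
      rw [hH, hHid]
    have hAlin : ∀ ζ, A ζ = A 1 * ζ := fun ζ => by
      have h := hrel 1 ζ
      rw [one_mul, hHid, hHid, one_mul] at h
      rw [← h, mul_comm]
    have hA2 : A 1 * A 1 = 1 := by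
      have hz := zero_of_squares hK (AddMonoidHom.mk' (fun x => Algebra.trace F K
        ((A 1 * A 1 - 1) * c * x)) fun p q => by rw [mul_add, map_add]) (fun ζ => by
          show Algebra.trace F K _ = 0
          obtain ⟨C, hC⟩ := hA ζ
          have h1 := O.iso k hkG (ζ • v) (ζ • v)
          rw [hC, hAlin, O.tr, O.tr] at h1
          simp only [map_add, map_smul, LinearMap.add_apply, LinearMap.smul_apply, he, hev,
            O.symm v e, ← hc, smul_eq_mul, mul_zero, add_zero, zero_add] at h1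
          rw [← sub_eq_zero.2 h1, ← map_sub]
          congr 1
          ring)
      have h0 : (A 1 * A 1 - 1) * c = 0 := eq_zero_of_trace (F := F) fun x => by
        rw [mul_comm x]; exact hz x
      exact sub_eq_zero.1 ((mul_eq_zero.1 h0).resolve_right hvv)
    have hperp : ∀ (ε : K), A 1 = ε → ∀ y, β e y = 0 →
        k y - β e' y • e - (ε * (β v y / c)) • v ∈ Lin F K e := by
      intro ε hε y hy
      obtain ⟨C, hC⟩ := hA (β v y / c)
      have h6 := congrArg k (hexp y)
      rw [hy, zero_smul, add_zero, map_add, hkN' _ (mem_lin_iff.2 ⟨_, rfl⟩), hC, hAlin, hε] at h6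
      rw [h6]
      rw [show β e' y • e + (C • e + (ε * (β v y / c)) • v) - β e' y • e - (ε * (β v y / c)) • v
        = C • e by abel]
      exact mem_lin_iff.2 ⟨C, rfl⟩
    rcases mul_self_eq_one_iff.1 hA2 with hA1' | hA1'
    · refine mem_uniSub O hkG hkN' fun y hy => ?_
      have h := hperp 1 hA1' y hy
      rw [one_mul] at h
      have h3 : y = β e' y • e + (β v y / c) • v := by
        have := hexp y
        rwa [hy, zero_smul, add_zero] at this
      rwa [sub_sub, ← h3] at h
    · exfalso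
      let ρ : V →ₗ[K] V := LinearMap.transvection ((-(2 / c)) • β v) v
      have hρ : ∀ y, ρ y = y - (2 * β v y / c) • v := fun y => by
        simp only [ρ, LinearMap.transvection.apply, LinearMap.smul_apply, smul_eq_mul]
        rw [sub_eq_add_neg, ← neg_smul]
        congr 2
        ring
      set xl : V →ₗ[F] V := (ρ.restrictScalars F).comp k.toLinearMap with hxl
      have hxl' : ∀ y, xl y = k y - (2 * β v (k y) / c) • v := fun y => hρ (k y)
      -- unipotent
      have hstep1 : ∀ y, β e (xl y - y) = 0 := fun y => by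
        rw [hxl', map_sub, map_sub, map_smul, hev, smul_zero, sub_zero, beta_fix O hkG hkN', sub_self]
      have hstep2 : ∀ y, β e y = 0 → xl y - y ∈ Lin F K e := fun y hy => by
        have h := hperp (-1) hA1' y hy
        obtain ⟨C, hC⟩ := mem_lin_iff.1 h
        have h3 : k y = C • e + β e' y • e + (-1 * (β v y / c)) • v := by rw [hC]; abel
        have h4 : β v (k y) = -β v y := by
          rw [h3]
          simp only [map_add, map_smul, O.symm v e, hev, ← hc, smul_eq_mul, mul_zero, zero_add]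
          field_simp
        rw [hxl', h4]
        have h5 : y = β e' y • e + (β v y / c) • v := by
          have := hexp y
          rwa [hy, zero_smul, add_zero] at this
        refine mem_lin_iff.2 ⟨C, ?_⟩
        rw [h3]
        nth_rewrite 4 [h5]
        module
      have hstep3 : ∀ y ∈ Lin F K e, xl y - y = 0 := fun y hy => by
        rw [hxl', hkN' y hy]
        obtain ⟨l, rfl⟩ := mem_lin_iff.1 hy
        simp [O.symm v e, hev]
      have hcube : (xl - 1) ^ 3 = 0 := LinearMap.ext fun y => by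
        show (xl - 1) ((xl - 1) ((xl - 1) y)) = 0
        simp only [LinearMap.sub_apply, Module.End.one_apply]
        exact hstep3 _ (hstep2 _ (hstep1 y))
      haveI : CharP F (ringChar F) := ringChar.charP F
      haveI hpF : Fact (ringChar F).Prime := ⟨CharP.char_is_prime F _⟩
      have hp3 : 3 ≤ ringChar F ^ 2 := by
        have := hpF.out.two_le
        nlinarith
      haveI : Nontrivial V := ⟨⟨e, 0, he0⟩⟩
      haveI : CharP (Module.End F V) (ringChar F) :=
        charP_of_injective_algebraMap (FaithfulSMul.algebraMap_injective F (Module.End F V)) _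
      have hpow : xl ^ (ringChar F ^ 2) = 1 := by
        have h1 : (xl - 1) ^ (ringChar F ^ 2) = 0 := pow_eq_zero_of_le hp3 hcube
        rwa [sub_pow_char_pow_of_commute _ _ (Commute.one_right xl), one_pow, sub_eq_zero] at h1
      have hdx : LinearMap.det xl = 1 := by
        have h1 := congrArg LinearMap.det hpow
        rw [map_pow, map_one] at h1
        have h3 : (LinearMap.det xl - 1) ^ (ringChar F ^ 2) = 0 := by
          rw [sub_pow_char_pow, h1, one_pow, sub_self]
        exact sub_eq_zero.1 (eq_zero_of_pow_eq_zero h3)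
      have hρd : LinearMap.det ρ = algebraMap F K (-1) := by
        rw [LinearMap.transvection.det, LinearMap.smul_apply, smul_eq_mul, ← hc, map_neg, map_one,
          neg_mul, div_mul_cancel₀ _ hvv]
        ring
      rw [hxl, LinearMap.det_comp, LinearMap.det_restrictScalars, hρd, Algebra.norm_algebraMap,
        ← LinearEquiv.coe_det, (O.small hd).2 k hkG, Units.val_one, mul_one] at hdx
      have hodd : Odd (finrank F K) :=
        O.prime.odd_of_ne_two (by have := (O.small hd).1; omega)
      rw [hodd.neg_one_pow] at hdx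
      exact O.two (by linear_combination -hdx)
  -- the group fixing the intersection
  have hle : UniSub β G e ≤ FixSub G U := fun x hx => ⟨hx.1, fun u hu => hx.2.1 u hu.2⟩
  let PH : Subgroup (FixSub G U) := (UniSub β G e).subgroupOf (FixSub G U)
  have mem_PH : ∀ x : FixSub G U, x ∈ PH ↔ (x : V ≃ₗ[F] V) ∈ UniSub β G e := fun x => Iff.rfl
  haveI : Finite (V ≃ₗ[F] V) := Finite.of_injective (fun g => (g : V → V)) DFunLike.coe_injective
  haveI hpF : Fact (ringChar F).Prime := ⟨CharP.char_is_prime F _⟩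
  have hpK : ((ringChar F : ℕ) : K) = 0 := by
    rw [← map_natCast (algebraMap F K), ringChar.Nat.cast_ringChar, map_zero]
  have hPexp : ∀ x ∈ PH, x ^ ringChar F = 1 := by
    intro x hx
    obtain ⟨t, ht⟩ := hR (x : V ≃ₗ[F] V) hx
    exact Subtype.ext (by rw [Subgroup.coe_pow, ht, hEpow, hpK, zero_mul, hE0]; rfl)
  have hPcomm : ∀ x ∈ PH, ∀ y ∈ PH, x * y = y * x := by
    intro x hx y hy
    obtain ⟨s, hs⟩ := hR (x : V ≃ₗ[F] V) hx
    obtain ⟨t, ht⟩ := hR (y : V ≃ₗ[F] V) hy
    exact Subtype.ext (by rw [Subgroup.coe_mul, Subgroup.coe_mul, hs, ht, hEadd, hEadd, add_comm])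
  haveI : IsMulCommutative PH := ⟨⟨fun a b => Subtype.ext (hPcomm _ a.2 _ b.2)⟩⟩
  have hPp : IsPGroup (ringChar F) PH := fun x => ⟨1, Subtype.ext (by
    rw [pow_one, Subgroup.coe_pow]; exact hPexp _ x.2)⟩
  have hnorm : ∀ n : FixSub G U, (∀ x ∈ PH, n⁻¹ * x * n ∈ PH) → n ∈ PH := by
    intro n hn
    refine hkey _ n.2 fun m hm => hEfix 1 one_ne_zero _ ?_
    have h1 : (E 1) ∈ FixSub G U := hle (hEU 1)
    have h3 := ((mem_PH _).1 (hn ⟨E 1, h1⟩ (hEU 1))).2.1 m hm
    have h4 : (n : V ≃ₗ[F] V).symm (E 1 ((n : V ≃ₗ[F] V) m)) = m := h3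
    exact (LinearEquiv.symm_apply_eq _).1 h4
  obtain ⟨S, hS⟩ := hPp.exists_le_sylow
  have hSeq : (S : Subgroup (FixSub G U)) = PH := by
    refine le_antisymm ?_ hS
    by_contra hne
    haveI : Group.IsNilpotent (S : Subgroup (FixSub G U)) := S.isPGroup'.isNilpotent
    have hlt : PH.subgroupOf (S : Subgroup (FixSub G U)) < ⊤ := lt_top_iff_ne_top.2 fun h =>
      hne (Subgroup.subgroupOf_eq_top.1 h)
    obtain ⟨n, hn, hn'⟩ := SetLike.exists_of_lt (normalizerCondition_of_isNilpotent _ hlt)
    refine hn' (Subgroup.mem_subgroupOf.2 (hnorm _ fun x hx => ?_))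
    have h1 := (Subgroup.mem_normalizer_iff''.1 hn ⟨x, hS hx⟩).1 (Subgroup.mem_subgroupOf.2 hx)
    exact Subgroup.mem_subgroupOf.1 h1
  have hNC : Subgroup.normalizer ((S : Subgroup (FixSub G U)) : Set (FixSub G U)) ≤
      Subgroup.centralizer ((S : Subgroup (FixSub G U)) : Set (FixSub G U)) := by
    rw [hSeq]
    intro n hn
    have hnP : n ∈ PH := hnorm n fun x hx => (Subgroup.mem_normalizer_iff''.1 hn x).1 hx
    exact Subgroup.mem_centralizer_iff.2 fun x hx => hPcomm x hx n hnP
  set C := (MonoidHom.transferSylow S hNC).ker with hC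
  have hcompl : Subgroup.IsComplement' C PH := hSeq ▸ MonoidHom.ker_transferSylow_isComplement' S hNC
  have hcop : (Nat.card PH).Coprime (Nat.card C) := by
    obtain ⟨n, hn⟩ := IsPGroup.iff_card.1 hPp
    rw [hn]
    exact ((hpF.out.coprime_iff_not_dvd).2 (MonoidHom.not_dvd_card_ker_transferSylow S hNC)).pow_left n
  have hcyc : ¬ IsCyclic PH := by
    intro h
    obtain ⟨g, hg⟩ := h.exists_generator
    have h1 := orderOf_eq_card_of_forall_mem_zpowers hg
    have h3 : orderOf g ∣ ringChar F := orderOf_dvd_of_pow_eq_one (Subtype.ext (by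
      rw [Subgroup.coe_pow]; exact hPexp _ g.2))
    have h4 : Nat.card K ≤ Nat.card PH := Nat.card_le_card_of_injective
      (fun t => (⟨⟨E t, hle (hEU t)⟩, hEU t⟩ : PH)) fun a b h => hEinj (by
        exact congrArg (fun z : PH => ((z : FixSub G U) : V ≃ₗ[F] V)) h)
    rw [← h1] at h4
    have h5 := Nat.le_of_dvd hpF.out.pos h3
    rw [Module.natCard_eq_pow_finrank (K := F)] at h4
    letI := Fintype.ofFinite F
    obtain ⟨n, -, hn⟩ := FiniteField.card F (ringChar F)
    have h6 : ringChar F ≤ Nat.card F := by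
      rw [Nat.card_eq_fintype_card, hn]
      exact Nat.le_self_pow n.ne_zero _
    have h7 : Nat.card F < Nat.card F ^ finrank F K := by
      conv_lhs => rw [← pow_one (Nat.card F)]
      exact Nat.pow_lt_pow_right Finite.one_lt_card O.prime.one_lt
    omega
  have hCbot : C = ⊥ := by
    have h := CfsgLib.coprime_generated_by_centralizers (A := PH) (K := C) hcyc
      (by rw [Subgroup.normalizer_eq_top]; exact le_top) hcop
    rw [← h]
    refine eq_bot_iff.2 (iSup₂_le fun a ha n hn => ?_)
    obtain ⟨t, ht⟩ := hR (a : V ≃ₗ[F] V) ((mem_PH a).1 ha.1)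
    have ht0 : t ≠ 0 := fun h0 => ha.2 (Subtype.ext (by rw [ht, h0, hE0]; rfl))
    have hna := Subgroup.mem_centralizer_singleton_iff.1 hn.2
    have hnP : n ∈ PH := hkey _ n.2 fun m hm => hEfix t ht0 _ (by
      have h1 := congrArg (fun z : FixSub G U => (z : V ≃ₗ[F] V) m) hna
      simp only [Subgroup.coe_mul, ht] at h1
      have h3 : (n : V ≃ₗ[F] V) (E t m) = E t ((n : V ≃ₗ[F] V) m) := h1
      rw [hEN t m hm] at h3
      exact h3.symm)
    exact hcompl.disjoint.le_bot ⟨hn.1, hnP⟩
  have htop : PH = ⊤ := Subgroup.isComplement'_bot_left.1 (hCbot ▸ hcompl)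
  -- the element of the member
  obtain ⟨g, hg, hgM⟩ := mem_std O P.mem he0 he
  have hfixM : ∀ m ∈ M, g (E 1 (g.symm m)) = m := by
    intro m hm
    rw [hgM] at hm
    obtain ⟨n, hn, rfl⟩ := hm
    show g (E 1 (g.symm (g n))) = g n
    rw [g.symm_apply_apply, hEN 1 n hn]
  have hmem : g * E 1 * g⁻¹ ∈ FixSub G U :=
    ⟨mul_mem (mul_mem hg (hEG 1)) (inv_mem hg), fun u hu => hfixM u hu.1⟩
  obtain ⟨u, hu⟩ := hR _ ((mem_PH ⟨_, hmem⟩).1 (htop ▸ Subgroup.mem_top _))
  have hu0 : u ≠ 0 := fun h => by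
    rw [h, hE0, conj_eq_one_iff] at hu
    exact one_ne_zero (hEinj (hu.trans hE0.symm))
  refine P.ne (eq_of_le_mem O P.mem (mem_of_lin O he0 he) fun m hm => hEfix u hu0 m ?_)
  rw [← hu]
  exact hfixM m hm

/-- The climbing step in dimension three, small intersections. -/
theorem climb_small (hd : finrank K V = 3) {M : Submodule F V} {e : V} (P : Meet F β G M e)
    (h2 : 2 ≤ finrank F ↥(M ⊓ Lin F K e)) (h3 : 2 * finrank F ↥(M ⊓ Lin F K e) < finrank F K) :
    ∃ M' e', Meet F β G M' e' ∧ finrank F ↥(M ⊓ Lin F K e) < finrank F ↥(M' ⊓ Lin F K e') := by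
  by_contra hc
  have hng : NG F β G (finrank F ↥(M ⊓ Lin F K e)) := fun M' e' P' =>
    not_lt.1 fun h => hc ⟨M', e', P', h⟩
  by_cases hcm : ∀ δ : K →ₗ[F] K, Cm β G e δ → δ = 0
  · exact no_cm_absurd O hd P h2 hcm
  · push Not at hcm
    obtain ⟨δ, hδ, hδ0⟩ := hcm
    exact cm_absurd O hd P h2 h3 hng hδ hδ0

end

end CfsgLib.MaxSub.ExtOrthMax
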