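/-
Two perpendicular members meeting in a hyperplane: conclusion.
-/
import Cfsg.Agent.Lib.MaxSub.ExtOrthMax.Meet
import Cfsg.Agent.Lib.MaxSub.ExtOrthMax.Three
import Cfsg.Agent.Lib.MaxSub.ExtOrthMax.NoCm
import Cfsg.Agent.Lib.MaxSub.ExtOrthMax.Cubic

set_option autoImplicit false
set_option maxHeartbeats 400000
set_option linter.unusedSectionVars false

namespace CfsgLib.MaxSub.ExtOrthMax

open Module
open CfsgLib.MaxSub.ExtLin (Lin mem_lin_iff finrank_lin finrank_restrict)

variable {F K V : Type*} [Field F] [Fintype F] [Field K] [Algebra F K] [FiniteDimensional F K]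
  [AddCommGroup V] [Module F V] [Module K V] [IsScalarTower F K V] [FiniteDimensional F V]
  {f : V →ₗ[F] V →ₗ[F] F} {β : V →ₗ[K] V →ₗ[K] K} {G : Subgroup (V ≃ₗ[F] V)}

section

variable (O : OX f β G)
include O

theorem exists_meet : ∃ M e, Meet F β G M e ∧ M ⊓ Lin F K e ≠ ⊥ := by
  rcases Nat.lt_or_ge (finrank K V) 4 with h | h
  · exact exists_meet_three O (by have := three_le O; omega)
  · exact exists_meet_four O h

theorem climb_any {M : Submodule F V} {e : V} (P : Meet F β G M e) (hU : M ⊓ Lin F K e ≠ ⊥)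
    (hj : finrank F ↥(M ⊓ Lin F K e) + 2 ≤ finrank F K) :
    ∃ M' e', Meet F β G M' e' ∧ finrank F ↥(M ⊓ Lin F K e) < finrank F ↥(M' ⊓ Lin F K e') := by
  rcases Nat.lt_or_ge (finrank K V) 4 with h | h
  · have hd : finrank K V = 3 := by have := three_le O; omega
    have h1 : 0 < finrank F ↥(M ⊓ Lin F K e) := by
      rw [Nat.pos_iff_ne_zero]; exact fun h => hU (Submodule.finrank_eq_zero.1 h)
    rcases Nat.lt_or_ge (finrank F ↥(M ⊓ Lin F K e)) 2 with h2 | h2
    · obtain ⟨M', e', P', h'⟩ : ∃ M' e', Meet F β G M' e' ∧ 2 ≤ finrank F ↥(M' ⊓ Lin F K e') := by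
        rcases Nat.lt_or_ge (finrank F K) 5 with hr | hr
        · refine exists_two_cubic O hd ?_
          have := (O.small hd).1
          rcases O.prime.eq_two_or_odd with h | h <;> omega
        · exact exists_two O hd hr
      exact ⟨M', e', P', by omega⟩
    by_cases h3 : finrank F K < 2 * finrank F ↥(M ⊓ Lin F K e)
    · exact climb O P hU hj (Or.inr h3)
    · exact climb_small O hd P h2 (by
        rcases O.prime.eq_two_or_odd with h | h <;> omega)
  · exact climb O P hU hj (Or.inl h)

/-- Two perpendicular members meeting in a hyperplane. -/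
theorem exists_hyper : ∃ M e, Meet F β G M e ∧
    finrank F ↥(M ⊓ Lin F K e) + 1 = finrank F K ∧ ∀ y ∈ M, β e y = 0 := by
  obtain ⟨M₀, e₀, P₀, h₀⟩ := exists_meet O
  have key : ∀ j, ∀ (M : Submodule F V) (e : V), Meet F β G M e → M ⊓ Lin F K e ≠ ⊥ →
      finrank F K - finrank F ↥(M ⊓ Lin F K e) = j →
      ∃ M e, Meet F β G M e ∧ finrank F ↥(M ⊓ Lin F K e) + 1 = finrank F K := by
    intro j
    induction j using Nat.strong_induction_on with
    | _ j ih =>
      intro M e P hU hj
      have hlt := meet_lt O P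
      rcases Nat.lt_or_ge (finrank F ↥(M ⊓ Lin F K e) + 1) (finrank F K) with h | h
      · obtain ⟨M', e', P', h'⟩ := climb_any O P hU (by omega)
        refine ih _ ?_ M' e' P' (fun hb => ?_) rfl
        · have := meet_lt O P'
          omega
        · rw [hb, finrank_bot] at h'; omega
      · exact ⟨M, e, P, by omega⟩
  obtain ⟨M, e, P, hd⟩ := key _ M₀ e₀ P₀ h₀ rfl
  have hr := O.prime.two_le
  have hU : M ⊓ Lin F K e ≠ ⊥ := fun h => by rw [h, finrank_bot] at hd; omega
  by_cases h0 : ∀ y ∈ M, β e y = 0 → y ∈ Lin F K e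
  · obtain ⟨g, hg, hne, hfix, w, hw, hwN, hgw⟩ := exists_perp_image O P hU h0 (by
      rcases Nat.lt_or_ge (finrank K V) 4 with h | h
      · have := (O.small (by have := three_le O; omega)).1; exact Or.inr (by omega)
      · exact Or.inl h)
    obtain ⟨M', e', P', t, ht, rfl, hN⟩ := meet_of_members O (mem_map O P.mem hg) P.mem hne
    refine ⟨_, e', P', ?_, ?_⟩
    · have h1 := meet_lt O P'
      have h2 : finrank F ↥(M ⊓ Lin F K e) ≤
          finrank F ↥((M.map g.toLinearMap).map t.toLinearMap ⊓ Lin F K e') := by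
        rw [hN, ← Submodule.map_inf t.toLinearMap t.injective, LinearEquiv.finrank_map_eq]
        exact Submodule.finrank_mono (le_inf (fun u hu => map_fix O hu.1 (hfix u hu)) inf_le_left)
      omega
    · rintro _ ⟨_, ⟨y, hy, rfl⟩, rfl⟩
      refine f_lin O fun v hv => ?_
      rw [hN] at hv
      obtain ⟨m, hm, rfl⟩ := hv
      show f (t (g y)) (t m) = 0
      rw [O.iso t ht]
      have hle : M ≤ (M ⊓ Lin F K e) ⊔ F ∙ w := by
        refine le_of_eq (Submodule.eq_of_le_of_finrank_le
          (sup_le inf_le_left ((Submodule.span_singleton_le_iff_mem _ _).2 hw)) ?_).symm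
        rw [mem_finrank O P.mem, ← hd]
        exact Submodule.finrank_lt_finrank_of_lt (lt_of_le_of_ne le_sup_left fun e' =>
          hwN ((e' ▸ Submodule.mem_sup_right (Submodule.mem_span_singleton_self w) :
            w ∈ M ⊓ Lin F K e).2))
      obtain ⟨u, hu, v', hv', rfl⟩ := Submodule.mem_sup.1 (hle hy)
      obtain ⟨c, rfl⟩ := Submodule.mem_span_singleton.1 hv'
      rw [map_add, map_smul, hfix u hu, map_add, map_smul, LinearMap.add_apply, LinearMap.smul_apply,
        hgw m hm, mem_ti O P.mem u hu.1 m hm, smul_zero, add_zero]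
  · push Not at h0
    obtain ⟨z, hz, hez, hzN⟩ := h0
    refine ⟨M, e, P, hd, fun y hy => ?_⟩
    have hle : M ≤ (M ⊓ Lin F K e) ⊔ F ∙ z := by
      refine le_of_eq (Submodule.eq_of_le_of_finrank_le
        (sup_le inf_le_left ((Submodule.span_singleton_le_iff_mem _ _).2 hz)) ?_).symm
      rw [mem_finrank O P.mem, ← hd]
      exact Submodule.finrank_lt_finrank_of_lt (lt_of_le_of_ne le_sup_left fun e' =>
        hzN ((e' ▸ Submodule.mem_sup_right (Submodule.mem_span_singleton_self z) :
          z ∈ M ⊓ Lin F K e).2))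
    obtain ⟨u, hu, v', hv', rfl⟩ := Submodule.mem_sup.1 (hle hy)
    obtain ⟨c, rfl⟩ := Submodule.mem_span_singleton.1 hv'
    rw [map_add, ← algebraMap_smul K c z, map_smul, hez, beta_lin O P.sing hu.2, smul_zero, add_zero]

end

end CfsgLib.MaxSub.ExtOrthMax
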