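/-
Root elements inside singular lines.
-/
import Cfsg.Agent.Lib.MaxSub.ExtOrthMax.Climb

set_option autoImplicit false
set_option maxHeartbeats 400000
set_option linter.unusedSectionVars false

namespace CfsgLib.MaxSub.ExtOrthMax

open Module
open CfsgLib.MaxSub.ExtLin (Lin mem_lin_iff finrank_lin)
open CfsgLib.MaxSub.ExtSymp (eq_zero_of_trace)

variable {F K V : Type*} [Field F] [Fintype F] [Field K] [Algebra F K] [FiniteDimensional F K]
  [AddCommGroup V] [Module F V] [Module K V] [IsScalarTower F K V] [FiniteDimensional F V]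
  {f : V →ₗ[F] V →ₗ[F] F} {β : V →ₗ[K] V →ₗ[K] K} {G : Subgroup (V ≃ₗ[F] V)}

/-- The Eichler transformation of two vectors over the ground field. -/
def EichIn (f : V →ₗ[F] V →ₗ[F] F) (G : Subgroup (V ≃ₗ[F] V)) (u w : V) : Prop :=
  ∃ g ∈ G, ∀ y, g y = y + f u y • w - (f w y + f w w / 2 * f u y) • u

/-- The transvections of a line with a given axis. -/
def Sh (G : Subgroup (V ≃ₗ[F] V)) (e : V) (ξ : Dual F K) : Prop :=
  ∀ u : K, ξ u = 0 → ∃ g ∈ G, ∀ l : K, g (l • e) = (l + ξ l • u) • e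

/-- The alternating map of two elements of the field. -/
noncomputable def T₂ (u w : K) : K →ₗ[F] K :=
  ((Algebra.trace F K).comp (LinearMap.mulRight F u)).smulRight w -
    ((Algebra.trace F K).comp (LinearMap.mulRight F w)).smulRight u

omit [Fintype F] [FiniteDimensional F K] in
theorem T₂_apply (u w k : K) :
    T₂ (F := F) u w k = Algebra.trace F K (k * u) • w - Algebra.trace F K (k * w) • u := rfl

section

variable (O : OX f β G)
include O

theorem f_nd {x : V} (h : ∀ y, f x y = 0) : x = 0 := by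
  refine O.nd x fun y => eq_zero_of_trace (F := F) fun k => ?_
  rw [← f_smul_right O]
  exact h _

theorem eichIn_zero {u : V} : EichIn f G u 0 :=
  ⟨1, one_mem G, fun y => by simp⟩

theorem eichIn_self {u : V} (hu : f u u = 0) (c : F) : EichIn f G u (c • u) :=
  ⟨1, one_mem G, fun y => by simp [hu, smul_smul, mul_comm c]⟩

theorem eichIn_add {u w w' : V} (hu : f u u = 0) (hw : f u w = 0) (hw' : f u w' = 0)
    (h : EichIn f G u w) (h' : EichIn f G u w') : EichIn f G u (w + w') := by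
  obtain ⟨g, hg, hgy⟩ := h
  obtain ⟨g', hg', hgy'⟩ := h'
  refine ⟨g * g', mul_mem hg hg', fun y => ?_⟩
  show g (g' y) = _
  rw [hgy, hgy']
  simp only [map_add, map_sub, map_smul, LinearMap.add_apply, hu, hw', f_symm O w u, hw,
    f_symm O w' w, smul_eq_mul]
  have h2 := O.two
  match_scalars <;> field_simp <;> ring

theorem eichIn_swap {u w : V} (hu : f u u = 0) (hw : f w w = 0) (h : EichIn f G u w) :
    EichIn f G w (-u) := by
  obtain ⟨g, hg, hgy⟩ := h
  refine ⟨g, hg, fun y => ?_⟩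
  rw [hgy, hw]
  simp only [map_neg, LinearMap.neg_apply, hu, neg_zero, zero_div, zero_mul, add_zero]
  module

theorem eichIn_conj {u w : V} (h : EichIn f G u w) {g : V ≃ₗ[F] V} (hg : g ∈ G) :
    EichIn f G (g u) (g w) := by
  obtain ⟨t, ht, hty⟩ := h
  refine ⟨g * t * g⁻¹, mul_mem (mul_mem hg ht) (inv_mem hg), fun y => ?_⟩
  obtain ⟨y, rfl⟩ := g.surjective y
  show g (t (g.symm (g y))) = _
  rw [g.symm_apply_apply, hty, O.iso g hg, O.iso g hg, O.iso g hg, map_sub, map_add, map_smul, map_smul]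

theorem perp_preserved {e : V} {g : V ≃ₗ[F] V} (hg : g ∈ G)
    (hge : ∀ l : K, ∃ l' : K, g (l' • e) = l • e) {y : V} (hy : β e y = 0) : β e (g y) = 0 :=
  f_lin O fun u hu => by
    obtain ⟨l, rfl⟩ := mem_lin_iff.1 hu
    obtain ⟨l', hl'⟩ := hge l
    rw [← hl', O.iso g hg]
    exact f_lin' O hy _ (mem_lin_iff.2 ⟨l', rfl⟩)

theorem exists_hyper_at {e : V} (he0 : e ≠ 0) (he : β e e = 0) : ∃ M, Meet F β G M e ∧
    finrank F ↥(M ⊓ Lin F K e) + 1 = finrank F K ∧ ∀ y ∈ M, β e y = 0 := by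
  obtain ⟨M, e₁, P, hd, hperp⟩ := exists_hyper O
  obtain ⟨g, hg, hgM, hgN⟩ := pairs_of_members O P.mem (mem_of_lin O P.ne0 P.sing) he0 he
  refine ⟨_, ⟨hgM, he0, he, fun h => P.ne ?_⟩, ?_, ?_⟩
  · rw [← hgN] at h
    exact Submodule.map_injective_of_injective (f := g.toLinearMap) g.injective h
  · rw [← hgN, ← Submodule.map_inf g.toLinearMap g.injective, LinearEquiv.finrank_map_eq]
    exact hd
  · rintro _ ⟨y, hy, rfl⟩
    refine f_lin O fun v hv => ?_
    rw [← hgN] at hv
    obtain ⟨n, hn, rfl⟩ := hv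
    show f (g y) (g n) = 0
    rw [O.iso g hg]
    exact f_lin' O (hperp y hy) n hn

/-- The shift of a perpendicular member. -/
theorem shift {M : Submodule F V} {e : V} (hM : ∀ y ∈ M, β e y = 0) (he : β e e = 0) {x n : V}
    (hx : x ∈ M) (hxN : x ∉ Lin F K e) (hn : n ∈ Lin F K e) :
    ∃ g ∈ G, (∀ u ∈ Lin F K e, g u = u) ∧ g x = x + n := by
  obtain ⟨k, rfl⟩ := mem_lin_iff.1 hn
  obtain ⟨a, ha, hax⟩ := exists_sep_one O (show x ∉ K ∙ e from hxN) (-k)
  obtain ⟨g, hg, hgy⟩ := O.eich e a he ha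
  refine ⟨g, hg, fun u hu => ?_, ?_⟩
  · obtain ⟨l, rfl⟩ := mem_lin_iff.1 hu
    simp [hgy, he, O.symm a e, ha]
  · rw [hgy, hM x hx, hax, zero_smul, mul_zero, add_zero, add_zero, neg_smul, sub_neg_eq_add]

/-- The transvections with one axis. -/
theorem exists_sh {e : V} (he0 : e ≠ 0) (he : β e e = 0) :
    ∃ (ξ : Dual F K) (k₀ : K), ξ k₀ = 1 ∧ Sh G e ξ := by
  obtain ⟨M, P, hd, hperp⟩ := exists_hyper_at O he0 he
  obtain ⟨g, hg, hgM⟩ := mem_std O P.mem he0 he
  set W := (M ⊓ Lin F K e).comap ((LinearMap.toSpanSingleton K V e).restrictScalars F) with hW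
  have hWtop : W ≠ ⊤ := fun h => by
    have hle : Lin F K e ≤ M ⊓ Lin F K e := fun y hy => by
      obtain ⟨k, rfl⟩ := mem_lin_iff.1 hy
      exact (show k ∈ W from h ▸ Submodule.mem_top)
    have := Submodule.finrank_mono hle
    rw [finrank_lin he0] at this
    omega
  obtain ⟨k₀, -, hk₀⟩ := SetLike.exists_of_lt (lt_top_iff_ne_top.2 hWtop)
  obtain ⟨φ, hφ, hφW⟩ := Submodule.exists_dual_map_eq_bot_of_notMem hk₀ inferInstance
  set ξ : Dual F K := (φ k₀)⁻¹ • φ with hξdef
  have hξ : ξ k₀ = 1 := by rw [hξdef, LinearMap.smul_apply, smul_eq_mul, inv_mul_cancel₀ hφ]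
  have hker : LinearMap.ker ξ = W := by
    symm
    refine Submodule.eq_of_le_of_finrank_le (fun x hx => ?_) ?_
    · have h0 : φ x = 0 := (Submodule.mem_bot F).1 (hφW ▸ Submodule.mem_map_of_mem hx)
      rw [LinearMap.mem_ker, hξdef, LinearMap.smul_apply, h0, smul_zero]
    · let σ : W →ₗ[F] ↥(M ⊓ Lin F K e) :=
        LinearMap.codRestrict _ (((LinearMap.toSpanSingleton K V e).restrictScalars F).comp W.subtype)
          fun x => x.2
      have hσ : Function.Surjective σ := fun y => by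
        obtain ⟨k, hk⟩ := mem_lin_iff.1 y.2.2
        refine ⟨⟨k, ?_⟩, Subtype.ext hk⟩
        show k • e ∈ M ⊓ Lin F K e
        rw [hk]; exact y.2
      have h1 := LinearMap.finrank_le_finrank_of_surjective hσ
      have h2 : finrank F (LinearMap.ker ξ) < finrank F K :=
        Submodule.finrank_lt fun h => one_ne_zero (α := F) (by
          rw [← hξ]; exact LinearMap.mem_ker.1 (h ▸ Submodule.mem_top))
      omega
  refine ⟨ξ, k₀, hξ, fun u hu => ?_⟩
  have huM : u • e ∈ M := (show u ∈ W by rw [← hker]; exact hu).1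
  -- the pair seen from the member
  have hM' : ∀ y ∈ (Lin F K e).map (g⁻¹ : V ≃ₗ[F] V).toLinearMap, β e y = 0 := by
    rintro _ ⟨n, hn, rfl⟩
    refine f_lin O fun v hv => ?_
    show f (g.symm n) v = 0
    rw [← O.iso g hg, g.apply_symm_apply, f_symm O]
    exact f_lin' O (hperp (g v) (hgM ▸ ⟨v, hv, rfl⟩)) n hn
  obtain ⟨t, ht, htfix, htx⟩ := shift O hM' he (x := g.symm (k₀ • e)) (n := g.symm (u • e))
    ⟨k₀ • e, mem_lin_iff.2 ⟨k₀, rfl⟩, rfl⟩
    (fun h => hk₀ (show k₀ • e ∈ M ⊓ Lin F K e from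
      ⟨hgM ▸ ⟨g.symm (k₀ • e), h, g.apply_symm_apply _⟩, mem_lin_iff.2 ⟨k₀, rfl⟩⟩))
    (by
      rw [hgM] at huM
      obtain ⟨v, hv, hv'⟩ := huM
      rw [← hv']; show g.symm (g v) ∈ _; rw [g.symm_apply_apply]; exact hv)
  refine ⟨g * t * g⁻¹, mul_mem (mul_mem hg ht) (inv_mem hg), fun l => ?_⟩
  have hfix : ∀ m ∈ M, g (t (g.symm m)) = m := by
    intro m hm
    rw [hgM] at hm
    obtain ⟨v, hv, rfl⟩ := hm
    show g (t (g.symm (g v))) = g v
    rw [g.symm_apply_apply, htfix v hv]
  have hk₀' : g (t (g.symm (k₀ • e))) = k₀ • e + u • e := by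
    rw [htx, map_add, g.apply_symm_apply, g.apply_symm_apply]
  have hw : (l - ξ l • k₀) • e ∈ M := by
    have : l - ξ l • k₀ ∈ W := by rw [← hker]; simp [hξ]
    exact this.1
  show g (t (g.symm (l • e))) = _
  rw [show l • e = (l - ξ l • k₀) • e + ξ l • (k₀ • e) by rw [sub_smul, smul_assoc, sub_add_cancel],
    map_add, map_add, map_add, hfix _ hw, map_smul g.symm, map_smul t, map_smul g, hk₀', add_smul,
    smul_assoc, smul_add, ← add_assoc, sub_smul, smul_assoc, sub_add_cancel]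

theorem sh_smul {e : V} {ξ : Dual F K} (h : Sh G e ξ) (c : F) : Sh G e (c • ξ) := by
  intro u hu
  rcases eq_or_ne c 0 with rfl | hc
  · exact ⟨1, one_mem G, fun l => by simp⟩
  obtain ⟨g, hg, hgl⟩ := h (c • u) (by
    rw [map_smul]
    rw [LinearMap.smul_apply] at hu
    exact hu)
  exact ⟨g, hg, fun l => by rw [hgl, LinearMap.smul_apply, smul_eq_mul, smul_smul, mul_comm c]⟩

theorem sh_add {e : V} {ξ ξ' : Dual F K} (h : Sh G e ξ) (h' : Sh G e ξ') : Sh G e (ξ' + ξ) := by
  by_cases hk : ∀ l, ξ l = 0 → ξ' l = 0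
  · by_cases h0 : ∃ x, ξ x ≠ 0
    · obtain ⟨x, hx⟩ := h0
      have e1 : ξ' + ξ = (ξ' x / ξ x + 1) • ξ := LinearMap.ext fun l => by
        have := hk (l - (ξ l / ξ x) • x) (by
          rw [map_sub, map_smul, smul_eq_mul, div_mul_cancel₀ _ hx, sub_self])
        rw [map_sub, map_smul, smul_eq_mul, sub_eq_zero] at this
        rw [LinearMap.add_apply, LinearMap.smul_apply, this, smul_eq_mul]
        ring
      rw [e1]; exact sh_smul O h _
    · push Not at h0
      rwa [show ξ = 0 from LinearMap.ext h0, add_zero]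
  push Not at hk
  obtain ⟨x, hx, hx'⟩ := hk
  intro v hv
  obtain ⟨u₁, hu₁, hu₁'⟩ : ∃ u₁, ξ u₁ = 0 ∧ ξ' u₁ = -1 :=
    ⟨(-(ξ' x)⁻¹) • x, by rw [map_smul, hx, smul_zero],
      by rw [map_smul, smul_eq_mul, neg_mul, inv_mul_cancel₀ hx']⟩
  obtain ⟨g₁, hg₁, hl₁⟩ := h u₁ hu₁
  obtain ⟨g₂, hg₂, hl₂⟩ := h' (v - ξ v • u₁) (by
    rw [map_sub, map_smul, hu₁', smul_eq_mul]
    rw [LinearMap.add_apply] at hv
    linear_combination hv)
  refine ⟨g₁ * g₂ * g₁⁻¹, mul_mem (mul_mem hg₁ hg₂) (inv_mem hg₁), fun l => ?_⟩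
  have hinv : g₁.symm (l • e) = (l - ξ l • u₁) • e := g₁.injective (by
    rw [g₁.apply_symm_apply, hl₁, map_sub, map_smul, hu₁, smul_zero, sub_zero, sub_add_cancel])
  show g₁ (g₂ (g₁.symm (l • e))) = _
  rw [hinv, hl₂, hl₁]
  congr 1
  simp only [map_add, map_sub, map_smul, hu₁, hu₁', LinearMap.add_apply, smul_eq_mul]
  module

theorem sh_scale {e : V} (he0 : e ≠ 0) (he : β e e = 0) {ξ : Dual F K} (h : Sh G e ξ) (t : K) :
    Sh G e (ξ.comp (LinearMap.mulRight F (t * t))) := by
  intro u hu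
  rcases eq_or_ne t 0 with rfl | ht
  · exact ⟨1, one_mem G, fun l => by simp⟩
  obtain ⟨s, hs, hsl⟩ := scale O he0 he ht
  obtain ⟨g, hg, hgl⟩ := h (u * (t * t)) hu
  refine ⟨s⁻¹ * g * s, mul_mem (mul_mem (inv_mem hs) hg) hs, fun l => s.injective ?_⟩
  show s (s.symm (g (s (l • e)))) = _
  rw [s.apply_symm_apply, hsl, hgl, hsl]
  congr 1
  show _ = (l + ξ (l * (t * t)) • u) * (t * t)
  rw [add_mul, smul_mul_assoc]

/-- The special linear group of a line. -/
theorem sh_all {e : V} (he0 : e ≠ 0) (he : β e e = 0) (ξ : Dual F K) : Sh G e ξ := by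
  obtain ⟨ξ₀, k₀, hξ₀, h₀⟩ := exists_sh O he0 he
  let A : Submodule F (Dual F K) :=
    { carrier := {ξ | Sh G e ξ}
      zero_mem' := fun u _ => ⟨1, one_mem G, fun l => by simp⟩
      add_mem' := fun {a b} ha hb => sh_add O hb ha
      smul_mem' := fun c a ha => sh_smul O ha c }
  by_contra hc
  obtain ⟨Φ, hΦ, hΦA⟩ := Submodule.exists_dual_map_eq_bot_of_notMem (show ξ ∉ A from hc) inferInstance
  obtain ⟨x, hx⟩ := (Module.evalEquiv F K).surjective Φ
  have hx0 : x ≠ 0 := fun h => hΦ (by rw [← hx, h, map_zero, LinearMap.zero_apply])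
  have hzero : ∀ l, ξ₀ l = 0 := fun l => by
    have hmem : ∀ t : K, ξ₀ (x * (t * t)) = 0 := fun t => by
      have h1 := Submodule.mem_map_of_mem (f := Φ) (show ξ₀.comp (LinearMap.mulRight F (t * t)) ∈ A
        from sh_scale O he0 he h₀ t)
      rw [hΦA, Submodule.mem_bot, ← hx, Module.evalEquiv_apply] at h1
      exact h1
    have := zero_of_squares (two_K O) (AddMonoidHom.mk' (fun c => ξ₀ (x * c)) fun c d => by
      rw [mul_add, map_add]) hmem (l / x)
    rwa [AddMonoidHom.mk'_apply, mul_div_cancel₀ _ hx0] at this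
  rw [hzero] at hξ₀
  exact zero_ne_one hξ₀

/-- A non-trivial element fixing the perpendicular of a line. -/
theorem exists_cm {e : V} (he0 : e ≠ 0) (he : β e e = 0) :
    ∃ δ : K →ₗ[F] K, δ ≠ 0 ∧ ∀ c : F, Cm β G e (c • δ) := by
  obtain ⟨ξ, k₀, hξ, hsh⟩ := exists_sh O he0 he
  obtain ⟨u, hu0, hu⟩ : ∃ u, u ≠ 0 ∧ ξ u = 0 := by
    haveI : Nontrivial (LinearMap.ker ξ) := Module.nontrivial_of_finrank_pos (R := F) (by
      have h1 := LinearMap.finrank_range_add_finrank_ker ξ
      have h2 := Submodule.finrank_le (LinearMap.range ξ)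
      rw [Module.finrank_self] at h2
      have := O.prime.two_le
      omega)
    obtain ⟨⟨x, hx⟩, hx0⟩ := exists_ne (0 : LinearMap.ker ξ)
    exact ⟨x, fun h => hx0 (Subtype.ext h), hx⟩
  obtain ⟨h, hh, hhl⟩ := hsh u hu
  have hinv : ∀ l, h.symm (l • e) = (l - ξ l • u) • e := fun l => h.injective (by
    rw [h.apply_symm_apply, hhl, map_sub, map_smul, hu, smul_zero, sub_zero, sub_add_cancel])
  have hp : ∀ {y}, β e y = 0 → β e (h y) = 0 := fun {y} hy => perp_preserved O hh
    (fun l => ⟨_, by rw [← hinv, h.apply_symm_apply]⟩) hy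
  have hp' : ∀ {y}, β e y = 0 → β e (h.symm y) = 0 := fun {y} hy => perp_preserved O (inv_mem hh)
    (fun l => ⟨l + ξ l • u, by show h.symm _ = _; rw [← hhl, h.symm_apply_apply]⟩) hy
  obtain ⟨y₀, hy₀⟩ := exists_partner O he0
  let ψ : K →ₗ[F] K := ((β e).restrictScalars F).comp
    (h.symm.toLinearMap.comp ((LinearMap.toSpanSingleton K V y₀).restrictScalars F))
  have hψ : ∀ k, ψ k = β e (h.symm (k • y₀)) := fun k => rfl
  have hψy : ∀ y, β e (h.symm y) = ψ (β e y) := fun y => by
    have h1 := hp' (y := y - β e y • y₀) (by rw [map_sub, map_smul, hy₀, smul_eq_mul, mul_one, sub_self])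
    rw [map_sub, map_sub, sub_eq_zero] at h1
    exact h1
  let τ : K →ₗ[F] K := LinearMap.id + ξ.smulRight u
  have hτ : ∀ l, τ l = l + ξ l • u := fun l => rfl
  let P : V → V → K →ₗ[F] K := fun a b => ((β a).restrictScalars F).comp
    (h.toLinearMap.comp ((LinearMap.toSpanSingleton K V b).restrictScalars F))
  have hP : ∀ a b k, P a b k = β a (h (k • b)) := fun a b k => rfl
  let δ : V → V → K →ₗ[F] K := fun a b => τ.comp (((β b).restrictScalars F).comp
    (h.symm.toLinearMap.comp ((LinearMap.toSpanSingleton K V a).restrictScalars F))) - (P a b).comp ψ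
  have hδ : ∀ a b k, δ a b k = τ (β b (h.symm (k • a))) - P a b (ψ k) := fun a b k => rfl
  have hcm : ∀ a b, β e a = 0 → β e b = 0 → Cm β G e (δ a b) := by
    intro a b ha hb
    obtain ⟨g₁, hg₁, h₁⟩ := O.eich e a he ha
    obtain ⟨g₂, hg₂, h₂⟩ := O.eich e b he hb
    set g₂' := h * g₂ * h⁻¹ with hg₂'
    have hm₂ : g₂' ∈ G := mul_mem (mul_mem hh hg₂) (inv_mem hh)
    have hval : ∀ y, g₂' y = h (g₂ (h.symm y)) := fun y => rfl
    have hk : ∀ y, g₁ (g₂' y) = g₂' (g₁ y) + δ a b (β e y) • e := by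
      intro y
      have e₂ : ∀ y, g₂' y = y + h (ψ (β e y) • b) -
          τ (β b (h.symm y) + β b b / 2 * ψ (β e y)) • e := fun y => by
        rw [hval, h₂, map_sub, map_add, h.apply_symm_apply, hψy, hhl, hτ]
      have hz : β e (h (ψ (β e y) • b)) = 0 := hp (by rw [map_smul, hb, smul_zero])
      have hz' : β e (β e y • a) = 0 := by rw [map_smul, ha, smul_zero]
      rw [h₁ (g₂' y), e₂ y, h₁ y, e₂ (_ - _ • e)]
      simp only [map_sub, map_add, map_smul, ha, he, hz, O.symm a e, smul_eq_mul, mul_zero, add_zero,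
        sub_zero]
      have hb0 : β b (h.symm ((β a y + β a a / 2 * β e y) • e)) = 0 := by
        rw [hinv, map_smul, O.symm b e, hb, smul_zero]
      rw [hb0, hδ, hP]
      simp only [map_add, map_sub, map_zero, sub_zero, add_smul, sub_smul]
      module
    refine ⟨(g₁ * g₂') * (g₂' * g₁)⁻¹, mul_mem (mul_mem hg₁ hm₂) (inv_mem (mul_mem hm₂ hg₁)),
      fun y => ?_⟩
    obtain ⟨z, rfl⟩ := (g₂' * g₁).surjective y
    show g₁ (g₂' ((g₂' * g₁).symm ((g₂' * g₁) z))) = _
    rw [(g₂' * g₁).symm_apply_apply, hk]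
    show _ = g₂' (g₁ z) + δ a b (β e (g₂' (g₁ z))) • e
    congr 3
    rw [hval, h₂, map_sub, map_add, h.apply_symm_apply, hhl, map_sub, map_add,
      hp (by rw [map_smul, hb, smul_zero]), h₁]
    simp [ha, he]
  have hlin : ∀ (c : F) a b, δ (c • a) b = c • δ a b := fun c a b => LinearMap.ext fun k => by
    have e1 : β b (h.symm (k • (c • a))) = c • β b (h.symm (k • a)) := by
      rw [smul_comm k c a, LinearEquiv.map_smul, ← algebraMap_smul K c (h.symm _), map_smul,
        smul_eq_mul, Algebra.smul_def]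
    have e2 : β (c • a) (h (ψ k • b)) = c • β a (h (ψ k • b)) := by
      rw [← algebraMap_smul K c a, map_smul, LinearMap.smul_apply, smul_eq_mul, Algebra.smul_def]
    rw [LinearMap.smul_apply, hδ, hδ, hP, hP, e1, e2, τ.map_smul, smul_sub]
  by_contra hc
  push Not at hc
  have hzero : ∀ a b, β e a = 0 → β e b = 0 → δ a b = 0 := fun a b ha hb => by
    by_contra hne
    obtain ⟨c, hc'⟩ := hc _ hne
    refine hc' ?_
    rw [← hlin]
    exact hcm _ b (by rw [← algebraMap_smul K c a, map_smul, ha, smul_zero]) hb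
  have heq : ∀ a b, β e a = 0 → β e b = 0 → ∀ k, P a b (ψ k) = τ (β b (h.symm (k • a))) :=
    fun a b ha hb k => by
      have := hδ a b k
      rw [hzero a b ha hb, LinearMap.zero_apply] at this
      exact (sub_eq_zero.1 this.symm).symm
  have hscal : ∀ a b, β e a = 0 → β e b = 0 → ∀ k, P a b (ψ k) = k * P a b (ψ 1) := by
    intro a b ha hb k
    have h1 := heq (k • a) b (by rw [map_smul, ha, smul_zero]) hb 1
    rw [one_smul, ← heq a b ha hb k, hP, map_smul, LinearMap.smul_apply, smul_eq_mul, ← hP] at h1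
    exact h1.symm
  have hψinj : Function.Injective ψ := fun k k' hkk => sub_eq_zero.1 (by
    have h0 : ψ (k - k') = 0 := by rw [map_sub, hkk, sub_self]
    rw [hψ] at h0
    have h1 := hp h0
    rw [h.apply_symm_apply, map_smul, hy₀, smul_eq_mul, mul_one] at h1
    exact h1)
  have hψsur : Function.Surjective ψ := LinearMap.surjective_of_injective hψinj
  obtain ⟨a, b, ha, hb, hne⟩ : ∃ a b, β e a = 0 ∧ β e b = 0 ∧ P a b (ψ 1) ≠ 0 := by
    haveI := finite_VK O
    obtain ⟨b, hb, hbe⟩ : ∃ b, β e b = 0 ∧ b ∉ K ∙ e := by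
      by_contra hno
      push Not at hno
      have h1 := Submodule.finrank_mono (show LinearMap.ker (β e) ≤ K ∙ e from fun x hx => hno x hx)
      have h2 := LinearMap.finrank_range_add_finrank_ker (β e)
      have h3 := Submodule.finrank_le (LinearMap.range (β e))
      rw [Module.finrank_self] at h3
      rw [finrank_span_singleton he0] at h1
      have := three_le O
      omega
    have hhb : h b ∉ K ∙ e := fun hbm => hbe (by
      obtain ⟨l, hl⟩ := Submodule.mem_span_singleton.1 hbm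
      exact Submodule.mem_span_singleton.2 ⟨l - ξ l • u, by rw [← hinv, hl, h.symm_apply_apply]⟩)
    obtain ⟨a, ha, hab⟩ := exists_sep_one O hhb 1
    obtain ⟨k, hk⟩ := hψsur 1
    refine ⟨a, b, ha, hb, fun h0 => ?_⟩
    have := hscal a b ha hb k
    rw [hk, h0, mul_zero, hP, one_smul, hab] at this
    exact one_ne_zero this
  -- the transpose is semilinear
  have hsemi : ∀ c : K, ∃ μ : K, ∀ k, c * ψ k = ψ (k * μ) := by
    intro c
    refine ⟨P a (c • b) (ψ 1) / P a b (ψ 1), fun k => ?_⟩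
    have hinjP : Function.Injective (P a b) := fun s s' hss => by
      obtain ⟨s, rfl⟩ := hψsur s
      obtain ⟨s', rfl⟩ := hψsur s'
      rw [hscal a b ha hb s, hscal a b ha hb s'] at hss
      exact congrArg ψ (mul_right_cancel₀ hne hss)
    refine hinjP ?_
    rw [hscal a b ha hb (k * _), mul_assoc, div_mul_cancel₀ _ hne,
      ← hscal a (c • b) ha (by rw [map_smul, hb, smul_zero]) k, hP, hP, mul_comm, mul_smul]
  choose μ hμ using hsemi
  let T := Algebra.trace F K
  have htr : ∀ k l, T (ψ k * l) = T (k * τ l) := fun k l => by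
    have h1 : f (h.symm (k • y₀)) (l • e) = T (ψ k * l) := by
      rw [f_smul_right O, O.symm, hψ, mul_comm]
    rw [← h1, ← O.iso h hh, h.apply_symm_apply, hhl, f_smul_left O, map_smul, smul_eq_mul,
      O.symm y₀ e, hy₀, mul_one, hτ]
  have hμτ : ∀ c l, τ (c * l) = μ c * τ l := fun c l => sub_eq_zero.1 (eq_zero_of_trace (F := F)
    fun k => by
      rw [mul_sub, map_sub, ← htr, ← mul_assoc k, ← htr, ← hμ, mul_comm c (ψ k), mul_assoc, sub_self])
  have hΛ : ∀ c, μ c * u = c * u + ξ (c * u) • u := fun c => by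
    have := hμτ c u
    rw [hτ, hτ, hu, zero_smul, add_zero] at this
    exact this.symm
  have hmul : ∀ c d, μ (c * d) = μ c * μ d := fun c d => mul_right_cancel₀ hu0 (by
    have h1 := hμτ (c * d) u
    have h2 := hμτ c (d * u)
    have h3 := hμτ d u
    rw [mul_assoc c d u] at h1
    rw [h3, h1] at h2
    have hτu : τ u = u := by rw [hτ, hu, zero_smul, add_zero]
    rw [hτu] at h2
    rw [h2, mul_assoc])
  have hΛ' : ∀ c, μ c = c + algebraMap F K (ξ (c * u)) := fun c => mul_right_cancel₀ hu0 (by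
    rw [hΛ, add_mul, Algebra.smul_def])
  have hzero' : ∀ c, ξ (c * u) = 0 := by
    intro c
    by_contra hne'
    have h1 := hmul c c
    rw [hΛ', hΛ'] at h1
    have h2 : (2 * algebraMap F K (ξ (c * u))) * c =
        algebraMap F K (ξ (c * c * u) - ξ (c * u) * ξ (c * u)) := by
      rw [map_sub, map_mul (algebraMap F K)]; linear_combination -h1
    have h2K : (algebraMap F K) 2 = (2 : K) := map_ofNat _ 2
    have h3 : c = algebraMap F K ((ξ (c * c * u) - ξ (c * u) * ξ (c * u)) / (2 * ξ (c * u))) := by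
      rw [map_div₀, map_mul (algebraMap F K), h2K, ← h2, mul_div_cancel_left₀]
      exact mul_ne_zero (two_K O) ((map_ne_zero _).2 hne')
    rw [h3, ← Algebra.smul_def, map_smul, hu, smul_zero] at hne'
    exact hne' rfl
  have := hzero' (k₀ / u)
  rw [div_mul_cancel₀ _ hu0, hξ] at this
  exact one_ne_zero this

/-- A root element inside a line, with all scalars. -/
theorem exists_root {e : V} (he0 : e ≠ 0) (he : β e e = 0) :
    ∃ u w : K, u ∉ (F ∙ w) ∧ w ≠ 0 ∧ ∀ c : F, EichIn f G (u • e) (c • (w • e)) := by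
  obtain ⟨δ, hδ0, hδ⟩ := exists_cm O he0 he
  have halt := cm_alt O (by have := hδ 1; rwa [one_smul] at this) he0 he
  let T := Algebra.trace F K
  obtain ⟨z, hz⟩ : ∃ z, δ z ≠ 0 := by
    by_contra hc
    push Not at hc
    exact hδ0 (LinearMap.ext hc)
  set w := δ z with hw
  let ξ : Dual F K := T.comp (LinearMap.mulLeft F z)
  have hξ : ∀ l, ξ l = T (z * l) := fun l => rfl
  have hξδ : ∀ k, ξ (δ k) = -T (k * w) := fun k => by
    rw [hξ, mul_comm z, halt, mul_comm]
  have hξw : ξ w = 0 := by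
    have h1 := hξδ z
    rw [hξ] at h1 ⊢
    have : (2 : F) * T (z * w) = 0 := by linear_combination h1
    exact (mul_eq_zero.1 this).resolve_left O.two
  have toEich : ∀ (u : K) (c : F), Cm β G e (c • T₂ u w) → EichIn f G (u • e) (c • (w • e)) := by
    rintro u c ⟨g, hg, hgy⟩
    refine ⟨g, hg, fun y => ?_⟩
    rw [hgy, LinearMap.smul_apply, T₂_apply]
    have e1 : f (u • e) y = T (β e y * u) := by rw [f_smul_left O, mul_comm]
    have e2 : f (w • e) y = T (β e y * w) := by rw [f_smul_left O, mul_comm]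
    have e3 : f (w • e) (w • e) = 0 := by
      rw [f_smul_left O, map_smul, he, smul_zero, mul_zero, map_zero]
    simp only [map_smul, LinearMap.smul_apply, e1, e2, e3, smul_zero, mul_zero, zero_div, zero_mul,
      add_zero, smul_eq_mul, smul_sub, sub_smul, smul_assoc, smul_smul]
    module
  by_cases hker : ∃ u, ξ u = 0 ∧ u ∉ F ∙ w
  · obtain ⟨u, hu, huw⟩ := hker
    refine ⟨u, w, huw, hz, fun c => toEich u c ?_⟩
    obtain ⟨g, hg, hgl⟩ := sh_all O he0 he ξ u hu
    obtain ⟨d, hd, hdy⟩ := hδ c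
    have hβ : ∀ y, β e (g.symm y) = β e y + T (β e y * u) • z := fun y => sub_eq_zero.1
      (eq_zero_of_trace (F := F) fun l => by
        have h1 : T (l * β e (g.symm y)) = f (g.symm y) (l • e) := by
          rw [f_smul_right O, O.symm (g.symm y)]
        have h2 : f (g.symm y) (l • e) = T ((l + ξ l • u) * β e y) := by
          rw [← O.iso g hg, g.apply_symm_apply, hgl, f_smul_right O, O.symm y]
        rw [mul_sub, map_sub, h1, h2, add_mul, mul_add, map_add, map_add, smul_mul_assoc, map_smul,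
          mul_smul_comm, map_smul, hξ, mul_comm z l, mul_comm (β e y) u]
        simp only [smul_eq_mul]
        ring)
    have h1 : Cm β G e (c • δ + c • T₂ u w) := by
      refine ⟨g * d * g⁻¹, mul_mem (mul_mem hg hd) (inv_mem hg), fun y => ?_⟩
      show g (d (g.symm y)) = _
      rw [hdy, map_add, g.apply_symm_apply, hgl, hβ]
      congr 2
      simp only [LinearMap.add_apply, LinearMap.smul_apply, map_add, map_smul, T₂_apply, hξδ, ← hw,
        hξw, smul_eq_mul, mul_zero, add_zero]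
      module
    have h2 := cm_add O he h1 (cm_neg O he (hδ c))
    rwa [add_neg_cancel_comm] at h2
  push Not at hker
  have hξ0 : ξ ≠ 0 := fun h => hz (by
    have hz0 : z = 0 := eq_zero_of_trace (F := F) fun k => by
      rw [mul_comm, ← hξ, h, LinearMap.zero_apply]
    rw [hw, hz0, map_zero])
  obtain ⟨u, hu⟩ : ∃ u, ξ u = 1 := by
    obtain ⟨x, hx⟩ : ∃ x, ξ x ≠ 0 := by
      by_contra hc
      push Not at hc
      exact hξ0 (LinearMap.ext hc)
    exact ⟨(ξ x)⁻¹ • x, by rw [map_smul, smul_eq_mul, inv_mul_cancel₀ hx]⟩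
  have huw : u ∉ F ∙ w := fun h => by
    obtain ⟨c, rfl⟩ := Submodule.mem_span_singleton.1 h
    rw [map_smul, hξw, smul_zero] at hu
    exact zero_ne_one hu
  refine ⟨u, w, huw, hz, fun c => toEich u c ?_⟩
  suffices δ = T₂ u w from this ▸ hδ c
  have hD : ∀ k, T ((δ k - T₂ (F := F) u w k) * k) = 0 := fun k => by
    have h1 := halt k k
    have h2 : (2 : F) * T (δ k * k) = 0 := by linear_combination h1
    rw [sub_mul, map_sub, (mul_eq_zero.1 h2).resolve_left O.two, T₂_apply, sub_mul, map_sub,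
      smul_mul_assoc, smul_mul_assoc, map_smul, map_smul, mul_comm w, mul_comm u, smul_eq_mul,
      smul_eq_mul]
    ring
  have hin : ∀ k, ∃ c : F, c • w = δ k - T₂ (F := F) u w k := fun k =>
    Submodule.mem_span_singleton.1 (hker _ (by
      rw [map_sub, hξδ, T₂_apply, map_sub, map_smul, map_smul, hξw, hu]
      simp [T]))
  have hzero : ∀ k, T (k * w) ≠ 0 → δ k - T₂ (F := F) u w k = 0 := fun k hk => by
    obtain ⟨c, hc⟩ := hin k
    have h1 := hD k
    rw [← hc, smul_mul_assoc, map_smul, smul_eq_mul, mul_comm w] at h1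
    rw [← hc, (mul_eq_zero.1 h1).resolve_right hk, zero_smul]
  obtain ⟨k₁, hk₁⟩ := ExtSymp.exists_trace_ne (F := F) hz
  refine LinearMap.ext fun k => sub_eq_zero.1 ?_
  by_cases hk : T (k * w) = 0
  · have h1 := hzero (k + k₁) (by rw [add_mul, map_add, hk, zero_add]; exact hk₁)
    have h2 := hzero k₁ hk₁
    rw [map_add, map_add, add_sub_add_comm, h2, add_zero] at h1
    exact h1
  · exact hzero k hk

/-- All root elements inside a line. -/
theorem root_all {e : V} (he0 : e ≠ 0) (he : β e e = 0) (u v : K) :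
    EichIn f G (u • e) (v • e) := by
  have hti : ∀ x y : K, f (x • e) (y • e) = 0 := fun x y => by
    rw [f_smul_left O, map_smul, he, smul_zero, mul_zero, map_zero]
  have hc : ∀ (c : F) (x : K), c • (x • e) = (c • x) • e := fun c x => (smul_assoc c x e).symm
  let R : K → Submodule F K := fun u =>
    { carrier := {w | ∀ c : F, EichIn f G (u • e) (c • (w • e))}
      zero_mem' := fun c => by rw [zero_smul, smul_zero]; exact eichIn_zero O
      add_mem' := fun {a b} ha hb c => by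
        rw [add_smul, smul_add]
        exact eichIn_add O (hti _ _) (by rw [hc]; exact hti _ _) (by rw [hc]; exact hti _ _) (ha c) (hb c)
      smul_mem' := fun d a ha c => by rw [smul_assoc, smul_smul]; exact ha _ }
  have hfull : ∀ u w : K, u ∉ F ∙ w → w ∈ R u → w ≠ 0 → R u = ⊤ := by
    intro u w huw hw hw0
    have huu : u ∈ R u := fun c => eichIn_self O (hti u u) c
    refine Submodule.eq_top_iff'.2 fun v => ?_
    by_cases hv : v ∈ Submodule.span F {u, w}
    · exact Submodule.span_le.2 (by simp [Set.insert_subset_iff, huu, hw]) hv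
    have hw' : w ∉ Submodule.span F {u, v} := fun h => by
      obtain ⟨a, b, hab⟩ := Submodule.mem_span_pair.1 h
      rcases eq_or_ne b 0 with rfl | hb
      · rw [zero_smul, add_zero] at hab
        have ha : a ≠ 0 := fun h => hw0 (by rw [← hab, h, zero_smul])
        exact huw (Submodule.mem_span_singleton.2 ⟨a⁻¹, by rw [← hab, smul_smul, inv_mul_cancel₀ ha, one_smul]⟩)
      · exact hv (Submodule.mem_span_pair.2 ⟨-(a / b), b⁻¹, smul_right_injective K hb (by
          show b • (-(a / b) • u + b⁻¹ • w) = b • v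
          rw [smul_add, smul_smul, smul_smul, mul_neg, mul_div_cancel₀ _ hb, mul_inv_cancel₀ hb,
            one_smul, ← hab]
          module)⟩)
    obtain ⟨φ, hφ, hφ'⟩ := Submodule.exists_dual_map_eq_bot_of_notMem hw' inferInstance
    have hz : ∀ x ∈ Submodule.span F {u, v}, φ x = 0 := fun x hx =>
      (Submodule.mem_bot F).1 (hφ' ▸ Submodule.mem_map_of_mem hx)
    obtain ⟨g, hg, hgl⟩ := sh_all O he0 he ((φ w)⁻¹ • φ) v (by
      rw [LinearMap.smul_apply, hz v (Submodule.subset_span (by simp)), smul_zero])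
    have hgu : g (u • e) = u • e := by
      rw [hgl, LinearMap.smul_apply, hz u (Submodule.subset_span (by simp)), smul_zero, zero_smul,
        add_zero]
    have hgw : g (w • e) = (w + v) • e := by
      rw [hgl, LinearMap.smul_apply, smul_eq_mul, inv_mul_cancel₀ hφ, one_smul]
    have hwv : w + v ∈ R u := fun c => by
      have h1 := eichIn_conj O (hw c) hg
      rwa [hgu, map_smul, hgw] at h1
    simpa using (R u).sub_mem hwv hw
  have hsym : ∀ u w : K, w ∈ R u → u ∈ R w := fun u w hw c => by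
    rcases eq_or_ne c 0 with rfl | hcne
    · rw [zero_smul]; exact eichIn_zero O
    obtain ⟨g, hg, hgy⟩ := eichIn_swap O (hti u u) (by rw [hc]; exact hti _ _) (hw (-c))
    refine ⟨g, hg, fun y => ?_⟩
    rw [hgy]
    simp only [map_smul, map_neg, LinearMap.smul_apply, LinearMap.neg_apply, smul_eq_mul, hti, neg_zero,
      mul_zero, zero_div, zero_mul, add_zero]
    module
  obtain ⟨u₀, w₀, huw, hw0, hroot⟩ := exists_root O he0 he
  have h1 := hfull u₀ w₀ huw hroot hw0
  have key : ∀ x : K, x ∉ F ∙ u₀ → u₀ ≠ 0 → R x = ⊤ := fun x hx hu0 =>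
    hfull x u₀ hx (hsym u₀ x (h1 ▸ Submodule.mem_top)) hu0
  have hu00 : u₀ ≠ 0 := fun h => huw (h ▸ zero_mem _)
  have hw₀u : w₀ ∉ F ∙ u₀ := fun h => by
    obtain ⟨c, hc'⟩ := Submodule.mem_span_singleton.1 h
    have hc0 : c ≠ 0 := fun h0 => hw0 (by rw [← hc', h0, zero_smul])
    exact huw (Submodule.mem_span_singleton.2 ⟨c⁻¹, by
      rw [← hc', smul_smul, inv_mul_cancel₀ hc0, one_smul]⟩)
  have hall : R u = ⊤ ∨ u = 0 := by
    by_cases hu : u ∈ F ∙ u₀
    · obtain ⟨c, rfl⟩ := Submodule.mem_span_singleton.1 hu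
      rcases eq_or_ne c 0 with rfl | hc0
      · exact Or.inr (zero_smul _ _)
      refine Or.inl (hfull _ w₀ (fun h => huw ?_) (hsym _ _ (key w₀ hw₀u hu00 ▸ Submodule.mem_top)) hw0)
      have := Submodule.smul_mem _ c⁻¹ h
      rwa [smul_smul, inv_mul_cancel₀ hc0, one_smul] at this
    · exact Or.inl (key u hu hu00)
  rcases hall with h | rfl
  · have := (show v ∈ R u from h ▸ Submodule.mem_top) 1
    rwa [one_smul] at this
  · exact ⟨1, one_mem G, fun y => by simp⟩

end

end CfsgLib.MaxSub.ExtOrthMax
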