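/-
All Eichler transformations at a singular vector.
-/
import Cfsg.Agent.Lib.MaxSub.ExtOrthMax.Shear
import Mathlib.NumberTheory.LegendreSymbol.QuadraticChar.Basic

set_option autoImplicit false
set_option maxHeartbeats 400000
set_option linter.unusedSectionVars false

namespace CfsgLib.MaxSub.ExtOrthMax

open Module
open CfsgLib.MaxSub.ExtLin (Lin mem_lin_iff finrank_lin)
open CfsgLib.MaxSub.ExtSymp (eq_zero_of_trace)

variable {F K V : Type*} [Field F] [Fintype F] [Field K] [Algebra F K] [FiniteDimensional F K]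
  [AddCommGroup V] [Module F V] [Module K V] [IsScalarTower F K V] [FiniteDimensional F V]
  {f : V →ₗ[F] V →ₗ[F] F} {β : V →ₗ[K] V →ₗ[K] K} {G : Subgroup (V ≃ₗ[F] V)}

/-- The vectors with all their Eichler transformations at `e`. -/
def HasEich (f : V →ₗ[F] V →ₗ[F] F) (G : Subgroup (V ≃ₗ[F] V)) (e w : V) : Prop :=
  f e w = 0 ∧ ∀ c : F, EichIn f G e (c • w)

section

variable (O : OX f β G)
include O

theorem f_self_sing {e : V} (he : β e e = 0) : f e e = 0 := by rw [O.tr, he, map_zero]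

/-- They form a subspace. -/
def WE (e : V) (he : β e e = 0) : Submodule F V where
  carrier := {w | HasEich f G e w}
  zero_mem' := ⟨map_zero _, fun c => by rw [smul_zero]; exact eichIn_zero O⟩
  add_mem' {a b} ha hb := ⟨by rw [map_add, ha.1, hb.1, add_zero], fun c => by
    rw [smul_add]
    exact eichIn_add O (f_self_sing O he) (by rw [map_smul, ha.1, smul_zero])
      (by rw [map_smul, hb.1, smul_zero]) (ha.2 c) (hb.2 c)⟩
  smul_mem' c a ha := ⟨by rw [map_smul, ha.1, smul_zero], fun d => by rw [smul_smul]; exact ha.2 _⟩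

theorem we_conj {e w : V} {he : β e e = 0} (hw : w ∈ WE O e he) {g : V ≃ₗ[F] V} (hg : g ∈ G)
    (hge : g e = e) : g w ∈ WE O e he :=
  ⟨by conv_lhs => rw [← hge]
      rw [O.iso g hg, hw.1],
    fun c => by
      have h := eichIn_conj O (hw.2 c) hg
      rwa [hge, map_smul] at h⟩

theorem lin_we {e : V} (he0 : e ≠ 0) (he : β e e = 0) (k : K) : k • e ∈ WE O e he :=
  ⟨f_lin' O he (k • e) (mem_lin_iff.2 ⟨k, rfl⟩), fun c => by
    have h := root_all O he0 he 1 (c • k)
    rwa [one_smul, smul_assoc] at h⟩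

/-- A member containing a vector gives it its vectors. -/
theorem mem_we {e x : V} (he0 : e ≠ 0) (he : β e e = 0) {M : Submodule F V} (hM : IsMem β G M)
    (heM : e ∈ M) (hx : x ∈ M) : x ∈ WE O e he := by
  refine ⟨mem_ti O hM e heM x hx, fun c => ?_⟩
  obtain ⟨g, hg, rfl⟩ := mem_std O hM he0 he
  obtain ⟨e', he', hee⟩ := heM
  obtain ⟨x', hx', rfl⟩ := hx
  obtain ⟨a, rfl⟩ := mem_lin_iff.1 he'
  obtain ⟨b, rfl⟩ := mem_lin_iff.1 hx'
  have h := eichIn_conj O (root_all O he0 he a (c • b)) hg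
  rw [smul_assoc, g.map_smul c] at h
  rw [show g (a • e) = e from hee] at h
  exact h

/-- A perpendicular member through a given singular vector. -/
theorem exists_member_at {e : V} (he0 : e ≠ 0) (he : β e e = 0) :
    ∃ M x, IsMem β G M ∧ e ∈ M ∧ x ∈ M ∧ x ∉ Lin F K e ∧ ∀ y ∈ M, β e y = 0 := by
  obtain ⟨M, P, hd, hperp⟩ := exists_hyper_at O he0 he
  have hU : M ⊓ Lin F K e ≠ ⊥ := fun h => by
    rw [h, finrank_bot] at hd
    have := O.prime.two_le
    omega
  obtain ⟨u, hu, hu0⟩ := (Submodule.ne_bot_iff _).1 hU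
  obtain ⟨k, rfl⟩ := mem_lin_iff.1 hu.2
  obtain ⟨x, hx, hxe⟩ : ∃ x ∈ M, x ∉ Lin F K e := by
    by_contra hc
    push Not at hc
    exact P.ne (eq_of_le_mem O P.mem (mem_of_lin O he0 he) hc)
  by_cases hk : k ∈ (F ∙ (1 : K))
  · obtain ⟨c, rfl⟩ := Submodule.mem_span_singleton.1 hk
    have hc0 : c ≠ 0 := fun h => hu0 (by rw [h, zero_smul, zero_smul])
    refine ⟨M, x, P.mem, ?_, hx, hxe, hperp⟩
    have := M.smul_mem c⁻¹ hu.1
    rwa [smul_assoc, one_smul, smul_smul, inv_mul_cancel₀ hc0, one_smul] at this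
  have hk' : k ∉ (F ∙ (1 - k)) := fun h => by
    obtain ⟨c, hc⟩ := Submodule.mem_span_singleton.1 h
    have hc1 : c + 1 ≠ 0 := fun h' => by
      rw [eq_neg_of_add_eq_zero_left h', neg_one_smul, neg_sub, sub_eq_self] at hc
      exact one_ne_zero hc
    refine hk (Submodule.mem_span_singleton.2 ⟨c / (c + 1), smul_right_injective K hc1 ?_⟩)
    show (c + 1) • (c / (c + 1)) • (1 : K) = (c + 1) • k
    rw [smul_smul, mul_div_cancel₀ _ hc1, add_smul, one_smul]
    conv_rhs => arg 2; rw [← hc]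
    rw [smul_sub]
    abel
  obtain ⟨φ, hφ, hφ'⟩ := Submodule.exists_dual_map_eq_bot_of_notMem hk' inferInstance
  obtain ⟨g, hg, hgl⟩ := sh_all O he0 he ((φ k)⁻¹ • φ) (1 - k) (by
    have h0 : φ (1 - k) = 0 :=
      (Submodule.mem_bot F).1 (hφ' ▸ Submodule.mem_map_of_mem (Submodule.mem_span_singleton_self _))
    rw [LinearMap.smul_apply, h0, smul_zero])
  have hge : g (k • e) = e := by
    rw [hgl, LinearMap.smul_apply, smul_eq_mul, inv_mul_cancel₀ hφ, one_smul, add_sub_cancel, one_smul]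
  have hgN : ∀ l : K, g (l • e) ∈ Lin F K e := fun l => mem_lin_iff.2 ⟨_, (hgl l).symm⟩
  have hsur : ∀ l : K, ∃ l' : K, g (l' • e) = l • e := by
    intro l
    have hinj : Function.Injective fun s : K => s + ((φ k)⁻¹ • φ) s • (1 - k) := fun s s' hss =>
      smul_left_injective K he0 (g.injective (by
        show g (s • e) = g (s' • e)
        simp only at hss
        rw [hgl, hgl, hss]))
    haveI := finite_K O
    obtain ⟨l', hl'⟩ := Finite.surjective_of_injective hinj l
    exact ⟨l', by rw [hgl, ← hl']⟩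
  refine ⟨M.map g.toLinearMap, g x, mem_map O P.mem hg, ⟨k • e, hu.1, hge⟩, ⟨x, hx, rfl⟩,
    fun h => ?_, ?_⟩
  · obtain ⟨l, hl⟩ := mem_lin_iff.1 h
    obtain ⟨l', hl'⟩ := hsur l
    rw [← hl', g.injective.eq_iff] at hl
    exact hxe (mem_lin_iff.2 ⟨l', hl⟩)
  · rintro _ ⟨y, hy, rfl⟩
    exact perp_preserved O hg hsur (hperp y hy)

theorem exists_trace_rep {x : K} {P : Submodule F K} (hx : x ∉ P) :
    ∃ l : K, Algebra.trace F K (l * x) = -1 ∧ ∀ p ∈ P, Algebra.trace F K (l * p) = 0 := by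
  obtain ⟨φ, hφ, hφP⟩ := Submodule.exists_dual_map_eq_bot_of_notMem hx inferInstance
  refine ⟨((Algebra.traceForm F K).toDual (traceForm_nondegenerate F K)).symm ((-(φ x)⁻¹) • φ), ?_,
    fun p hp => ?_⟩
  · rw [← Algebra.traceForm_apply,
      LinearMap.BilinForm.apply_toDual_symm_apply (hB := traceForm_nondegenerate F K),
      LinearMap.smul_apply, smul_eq_mul, neg_mul, inv_mul_cancel₀ hφ]
  · have h0 : φ p = 0 := (Submodule.mem_bot F).1 (hφP ▸ Submodule.mem_map_of_mem hp)
    rw [← Algebra.traceForm_apply,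
      LinearMap.BilinForm.apply_toDual_symm_apply (hB := traceForm_nondegenerate F K),
      LinearMap.smul_apply, h0, smul_zero]

theorem f_left_smul {e : V} (k : K) (y : V) :
    f e (k • y) = Algebra.trace F K (k * β e y) := f_smul_right O e k y

/-- Large degree. -/
theorem full_large {e : V} (he0 : e ≠ 0) (he : β e e = 0) (hr : 3 ≤ finrank F K) {w : V}
    (hw : f e w = 0) : w ∈ WE O e he := by
  let T := Algebra.trace F K
  have key : ∀ (f' : V) (k : K), β f' f' = 0 → β e f' = 1 → T k = 0 → k • f' ∈ WE O e he := by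
    intro f' k hf' hef' hk
    have hf0 : f' ≠ 0 := fun h => by rw [h, map_zero] at hef'; exact zero_ne_one hef'
    obtain ⟨k₂, hk₂, hk₂k⟩ : ∃ k₂ ∈ LinearMap.ker T, k₂ ∉ (F ∙ k) := by
      by_contra hc
      push Not at hc
      have h1 := Submodule.finrank_mono (show LinearMap.ker T ≤ F ∙ k from hc)
      have h2 := LinearMap.finrank_range_add_finrank_ker T
      have h3 := Submodule.finrank_le (LinearMap.range T)
      rw [Module.finrank_self] at h3
      have h4 : finrank F (F ∙ k) ≤ 1 := by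
        simpa using finrank_span_le_card ({k} : Set K) (R := F)
      omega
    obtain ⟨l, hl1, hl2⟩ := exists_trace_rep O hk₂k
    obtain ⟨g, hg, hgy⟩ := root_all O hf0 hf' k k₂
    have e1 : ∀ (s t : K), f (s • f') (t • e) = T (s * t) := fun s t => by
      rw [f_smul_left O, map_smul, O.symm f' e, hef', smul_eq_mul, mul_one]
    have e2 : f (k₂ • f') (k₂ • f') = 0 := by
      rw [f_smul_left O, map_smul, hf', smul_zero, mul_zero, map_zero]
    have hge : g e = e := by
      have := hgy ((1 : K) • e)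
      rw [e1, e1, e2, mul_one, mul_one, show T k = 0 from hk, show T k₂ = 0 from hk₂] at this
      simpa using this
    have hgl : g (l • e) = l • e + k • f' := by
      rw [hgy, e1, e1, e2, mul_comm k, mul_comm k₂, hl1, hl2 k (Submodule.mem_span_singleton_self k)]
      module
    have h := (WE O e he).sub_mem (we_conj O (lin_we O he0 he l) hg hge) (lin_we O he0 he l)
    rwa [hgl, add_sub_cancel_left] at h
  have hnz : ∀ w : V, f e w = 0 → β e w ≠ 0 → w ∈ WE O e he := by
    intro w hw hk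
    obtain ⟨c, hc1, hc2⟩ := sing_shift O he (y := (β e w)⁻¹ • w)
      (by rw [map_smul, smul_eq_mul, inv_mul_cancel₀ hk])
    have h := key _ (β e w) hc1 hc2 (by rw [← O.tr]; exact hw)
    rw [smul_add, smul_smul, smul_smul, mul_inv_cancel₀ hk, one_smul] at h
    have := (WE O e he).sub_mem h (lin_we O he0 he (β e w * c))
    rwa [add_sub_cancel_right] at this
  by_cases hk : β e w = 0
  · obtain ⟨e', he', hee'⟩ := exists_opp O he0 he
    haveI : Nontrivial (LinearMap.ker T) := Module.nontrivial_of_finrank_pos (R := F) (by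
      have h2 := LinearMap.finrank_range_add_finrank_ker T
      have h3 := Submodule.finrank_le (LinearMap.range T)
      rw [Module.finrank_self] at h3
      omega)
    obtain ⟨⟨k₁, hk₁⟩, hk₁0⟩ := exists_ne (0 : LinearMap.ker T)
    have h1 := key e' k₁ he' hee' hk₁
    have h2 := hnz (w + k₁ • e') (by rw [map_add, hw, f_smul_right O, hee', mul_one]; simpa using hk₁)
      (by rw [map_add, hk, zero_add, map_smul, hee', smul_eq_mul, mul_one]
          exact fun h => hk₁0 (Subtype.ext h))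
    have := (WE O e he).sub_mem h2 h1
    rwa [add_sub_cancel_right] at this
  · exact hnz w hw hk

/-- Growth at a singular vector perpendicular to a hyperbolic pair. -/
theorem grow_plane {e e' e₁ f₁ x₁ : V} (he : β e e = 0) (hee' : β e e' = 1) (he' : β e' e' = 0)
    (he₁ : β e₁ e₁ = 0) (h1 : β e e₁ = 0) (h2 : β e' e₁ = 0) (h3 : β e f₁ = 0) (h4 : β e' f₁ = 0)
    (h5 : β f₁ f₁ = 0) (h6 : β e₁ f₁ = 1) (hd : 5 ≤ finrank K V) (hx : x₁ ∈ WE O e he)
    (hφ : β e₁ x₁ ≠ 0) :
    (∀ k : K, k • e₁ ∈ WE O e he) ∧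
      ∀ a, β e a = 0 → β e₁ a = 0 → a ∈ WE O e he := by
  haveI := finite_VK O
  have hv : ∀ a, β e a = 0 → β e₁ a = 0 →
      β e₁ x₁ • a - (β a x₁ + β a a / 2 * β e₁ x₁) • e₁ ∈ WE O e he := by
    intro a ha ha1
    obtain ⟨g, hg, hgy⟩ := O.eich e₁ a he₁ ha1
    have hge : g e = e := by simp [hgy, O.symm e₁ e, h1, O.symm a e, ha]
    have := (WE O e he).sub_mem (we_conj O hx hg hge) hx
    rw [hgy] at this
    convert this using 1
    abel
  obtain ⟨a₀, ha₀, ha₀', ha₀q⟩ : ∃ a, β e a = 0 ∧ β e₁ a = 0 ∧ β a a ≠ 0 := by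
    by_contra hc
    push Not at hc
    obtain ⟨a, ha, ha1, ha2, hae⟩ : ∃ a, β e a = 0 ∧ β e' a = 0 ∧ β e₁ a = 0 ∧ a ∉ K ∙ e₁ := by
      by_contra hno
      push Not at hno
      have hle : perp₂ β e e' ⊓ LinearMap.ker (β e₁) ≤ K ∙ e₁ := fun x hx => hno x hx.1.1 hx.1.2 hx.2
      have hA := perp₂_rank O e e'
      have hB := LinearMap.finrank_range_add_finrank_ker (β e₁)
      have hC := Submodule.finrank_le (LinearMap.range (β e₁))
      rw [Module.finrank_self] at hC
      have hD := Submodule.finrank_sup_add_finrank_inf_eq (perp₂ β e e') (LinearMap.ker (β e₁))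
      have hE := Submodule.finrank_le (perp₂ β e e' ⊔ LinearMap.ker (β e₁))
      have hF := Submodule.finrank_mono hle
      have hG : finrank K (K ∙ e₁) ≤ 1 := by
        simpa using finrank_span_le_card ({e₁} : Set V) (R := K)
      omega
    refine hae (Submodule.mem_span_singleton.2 ⟨β f₁ a, (sub_eq_zero.1 (O.nd _ fun y => ?_)).symm⟩)
    set y' := y - β e' y • e - β e y • e' - β e₁ y • f₁ with hy'
    have hye : β e y' = 0 := by
      simp only [hy', map_sub, map_smul, he, hee', h3, smul_eq_mul, mul_zero, sub_zero, mul_one, sub_self]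
    have hye1 : β e₁ y' = 0 := by
      simp only [hy', map_sub, map_smul, O.symm e₁ e, h1, O.symm e₁ e', h2, h6, smul_eq_mul, mul_zero,
        sub_zero, mul_one, sub_self]
    have h0 : β a y' = 0 := by
      have e1 := hc (a + y') (by rw [map_add, ha, hye, add_zero]) (by rw [map_add, ha2, hye1, add_zero])
      have e2 := hc a ha ha2
      have e3 := hc y' hye hye1
      simp only [map_add, LinearMap.add_apply, e2, e3, O.symm y' a, zero_add, add_zero] at e1
      exact (mul_eq_zero.1 (show (2 : K) * β a y' = 0 by linear_combination e1)).resolve_left (two_K O)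
    simp only [hy', map_sub, map_smul, O.symm a e, ha, O.symm a e', ha1, O.symm a f₁, smul_eq_mul,
      mul_zero, sub_zero] at h0
    rw [map_sub, LinearMap.sub_apply, map_smul, LinearMap.smul_apply, smul_eq_mul]
    linear_combination h0
  have hK := two_K O
  have hsq : ∀ k : K, (k * k * (β e₁ x₁ * β a₀ a₀)) • e₁ ∈ WE O e he := by
    intro k
    have hA := hv (k • a₀) (by rw [map_smul, ha₀, smul_zero]) (by rw [map_smul, ha₀', smul_zero])
    have hB := hv ((-k) • a₀) (by rw [map_smul, ha₀, smul_zero]) (by rw [map_smul, ha₀', smul_zero])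
    have hS := (WE O e he).neg_mem ((WE O e he).add_mem hA hB)
    convert hS using 1
    simp only [map_smul, LinearMap.smul_apply, smul_eq_mul]
    match_scalars <;> field_simp <;> ring
  have hline : ∀ k : K, k • e₁ ∈ WE O e he := by
    intro k
    set C := β e₁ x₁ * β a₀ a₀ with hC
    have hC0 : C ≠ 0 := mul_ne_zero hφ ha₀q
    have := zero_of_squares hK (AddMonoidHom.mk' (fun c : K =>
      (Submodule.Quotient.mk ((c * C) • e₁) : V ⧸ WE O e he)) fun a b => by
        rw [add_mul, add_smul, Submodule.Quotient.mk_add])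
      (fun x => (Submodule.Quotient.mk_eq_zero _).2 (hsq x)) (k / C)
    rw [AddMonoidHom.mk'_apply, Submodule.Quotient.mk_eq_zero, div_mul_cancel₀ _ hC0] at this
    exact this
  refine ⟨hline, fun a ha ha1 => ?_⟩
  have h := (WE O e he).add_mem
    (hv ((β e₁ x₁)⁻¹ • a) (by rw [map_smul, ha, smul_zero]) (by rw [map_smul, ha1, smul_zero]))
    (hline (β ((β e₁ x₁)⁻¹ • a) x₁ + β ((β e₁ x₁)⁻¹ • a) ((β e₁ x₁)⁻¹ • a) / 2 * β e₁ x₁))
  rwa [sub_add_cancel, smul_smul, mul_inv_cancel₀ hφ, one_smul] at h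

/-- The perpendicular of the line, in degree two. -/
theorem perp_line_two {e : V} (he0 : e ≠ 0) (he : β e e = 0) (hd : 5 ≤ finrank K V) {w : V}
    (hw : β e w = 0) : w ∈ WE O e he := by
  haveI := finite_VK O
  have hK := two_K O
  obtain ⟨M, x, hM, heM, hxM, hxe, hperp⟩ := exists_member_at O he0 he
  obtain ⟨e', he', hee'⟩ := exists_opp O he0 he
  set x₀ := x - β e' x • e with hx₀
  have hx₀W : x₀ ∈ WE O e he := (WE O e he).sub_mem (mem_we O he0 he hM heM hxM) (lin_we O he0 he _)
  have hx₀e : β e x₀ = 0 := by rw [hx₀, map_sub, map_smul, hperp x hxM, he, smul_zero, sub_zero]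
  have hx₀e' : β e' x₀ = 0 := by
    rw [hx₀, map_sub, map_smul, O.symm e' e, hee', smul_eq_mul, mul_one, sub_self]
  have hx₀0 : x₀ ≠ 0 := fun h => hxe (by
    rw [hx₀, sub_eq_zero] at h
    exact mem_lin_iff.2 ⟨_, h.symm⟩)
  clear_value x₀
  have hproj : ∀ y, β e (y - β e' y • e - β e y • e') = 0 ∧ β e' (y - β e' y • e - β e y • e') = 0 :=
    fun y => by
      constructor <;> simp only [map_sub, map_smul, he, he', hee', O.symm e' e, smul_eq_mul, mul_zero,
        sub_zero, mul_one, sub_self]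
  -- a hyperbolic pair perpendicular to the first one
  obtain ⟨e₁, he₁P, he₁0, he₁⟩ := exists_sing_in O (P := perp₂ β e e') (by
    have := perp₂_rank O e e'; omega)
  obtain ⟨f₀, hf₀e, hf₀e', hf₀⟩ : ∃ f₀, β e f₀ = 0 ∧ β e' f₀ = 0 ∧ β e₁ f₀ = 1 := by
    obtain ⟨y, hy⟩ := exists_partner O he₁0
    refine ⟨_, (hproj y).1, (hproj y).2, ?_⟩
    rw [map_sub, map_sub, map_smul, map_smul, O.symm e₁ e, LinearMap.mem_ker.1 he₁P.1, O.symm e₁ e',
      LinearMap.mem_ker.1 he₁P.2, smul_zero, smul_zero, sub_zero, sub_zero, hy]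
  obtain ⟨c, hf₁, hef₁⟩ := sing_shift O he₁ hf₀
  set f₁ := f₀ + c • e₁ with hf₁def
  have hf₁e : β e f₁ = 0 := by
    rw [hf₁def, map_add, map_smul, hf₀e, LinearMap.mem_ker.1 he₁P.1, smul_zero, add_zero]
  have hf₁e' : β e' f₁ = 0 := by
    rw [hf₁def, map_add, map_smul, hf₀e', LinearMap.mem_ker.1 he₁P.2, smul_zero, add_zero]
  clear_value f₁
  -- a pair whose first vector is not perpendicular to the given vector
  obtain ⟨p, q, hp, hq, hpq, hpe, hpe', hqe, hqe', hpx⟩ : ∃ p q, β p p = 0 ∧ β q q = 0 ∧ β p q = 1 ∧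
      β e p = 0 ∧ β e' p = 0 ∧ β e q = 0 ∧ β e' q = 0 ∧ β p x₀ ≠ 0 := by
    by_cases h : β e₁ x₀ = 0
    · by_cases h' : β f₁ x₀ = 0
      · obtain ⟨y, hy⟩ := exists_partner O hx₀0
        obtain ⟨y₂, hy₂e, hy₂e', hy₂1, hy₂2, hy₂x⟩ : ∃ y, β e y = 0 ∧ β e' y = 0 ∧ β e₁ y = 0 ∧
            β f₁ y = 0 ∧ β x₀ y = 1 := by
          set y' := y - β e' y • e - β e y • e' with hy'
          refine ⟨y' - β f₁ y' • e₁ - β e₁ y' • f₁, ?_, ?_, ?_, ?_, ?_⟩
          · simp only [map_sub, map_smul, hy', (hproj y).1, LinearMap.mem_ker.1 he₁P.1, hf₁e, smul_eq_mul,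
              mul_zero, sub_zero]
          · simp only [map_sub, map_smul, hy', (hproj y).2, LinearMap.mem_ker.1 he₁P.2, hf₁e',
              smul_eq_mul, mul_zero, sub_zero]
          · simp only [map_sub, map_smul, he₁, hef₁, smul_eq_mul, mul_zero, sub_zero, mul_one, sub_self]
          · simp only [map_sub, map_smul, hf₁, O.symm f₁ e₁, hef₁, smul_eq_mul, mul_zero, sub_zero,
              mul_one, sub_self]
          · simp only [map_sub, map_smul, hy', O.symm x₀ e, hx₀e, O.symm x₀ e', hx₀e', O.symm x₀ e₁, h,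
              O.symm x₀ f₁, h', hy, smul_eq_mul, mul_zero, sub_zero]
        refine ⟨e₁ + y₂ + (-(β y₂ y₂ / 2)) • f₁, f₁, ?_, hf₁, ?_, ?_, ?_, hf₁e, hf₁e', ?_⟩
        · simp only [map_add, map_smul, LinearMap.add_apply, LinearMap.smul_apply, he₁, hy₂1, hef₁,
            O.symm y₂ e₁, O.symm f₁ e₁, O.symm y₂ f₁, hy₂2, hf₁, smul_eq_mul, mul_zero, mul_one,
            add_zero, zero_add]
          field_simp
          ring
        · simp only [map_add, map_smul, LinearMap.add_apply, LinearMap.smul_apply, hef₁, O.symm y₂ f₁,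
            hy₂2, hf₁, smul_eq_mul, mul_zero, add_zero]
        · rw [map_add, map_add, map_smul, LinearMap.mem_ker.1 he₁P.1, hy₂e, hf₁e, smul_zero, add_zero,
            add_zero]
        · rw [map_add, map_add, map_smul, LinearMap.mem_ker.1 he₁P.2, hy₂e', hf₁e', smul_zero, add_zero,
            add_zero]
        · simp only [map_add, map_smul, LinearMap.add_apply, LinearMap.smul_apply, h, h', O.symm y₂ x₀,
            hy₂x, smul_eq_mul, mul_zero, add_zero, zero_add]
          exact one_ne_zero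
      · exact ⟨f₁, e₁, hf₁, he₁, by rw [O.symm]; exact hef₁, hf₁e, hf₁e',
          LinearMap.mem_ker.1 he₁P.1, LinearMap.mem_ker.1 he₁P.2, h'⟩
    · exact ⟨e₁, f₁, he₁, hf₁, hef₁, LinearMap.mem_ker.1 he₁P.1, LinearMap.mem_ker.1 he₁P.2, hf₁e,
        hf₁e', h⟩
  obtain ⟨hA, hA'⟩ := grow_plane O he hee' he' hp hpe hpe' hqe hqe' hq hpq hd hx₀W hpx
  have hpW : p ∈ WE O e he := by have := hA 1; rwa [one_smul] at this
  obtain ⟨hB, -⟩ := grow_plane O he hee' he' hq hqe hqe' hpe hpe' hp (by rw [O.symm]; exact hpq) hd hpW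
    (by rw [O.symm, hpq]; exact one_ne_zero)
  have h := (WE O e he).add_mem (hA' (w - β p w • q) (by rw [map_sub, map_smul, hw, hqe, smul_zero, sub_zero])
    (by rw [map_sub, map_smul, hpq, smul_eq_mul, mul_one, sub_self])) (hB (β p w))
  rwa [sub_add_cancel] at h

omit O in
/-- An image of a set under a map with fibres of at most two elements is large. -/
theorem card_le_two_mul {α : Type*} [DecidableEq α] [Neg α] (S : Finset α) (g : α → α)
    (h : ∀ a ∈ S, ∀ b ∈ S, g a = g b → b = a ∨ b = -a) : S.card ≤ 2 * (S.image g).card := by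
  refine Finset.card_le_mul_card_image S 2 fun z hz => ?_
  obtain ⟨a, ha, rfl⟩ := Finset.mem_image.1 hz
  refine (Finset.card_le_card (t := ({a, -a} : Finset α)) fun b hb => ?_).trans Finset.card_le_two
  obtain ⟨hb, hab⟩ := Finset.mem_filter.1 hb
  simpa using h a ha b hb hab.symm

/-- A rational point of a conic whose square of abscissa is outside the base field. -/
theorem exists_param (hr : finrank F K = 2) {δ : K} (hδ : ∀ c : K, c * c ≠ -δ) :
    ∃ τ ρ : K, τ * τ + δ * (ρ * ρ) = 1 ∧ τ ≠ 0 ∧ ρ ≠ 0 ∧ ∀ c : F, algebraMap F K c ≠ τ * τ := by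
  classical
  haveI := finite_K O
  letI := Fintype.ofFinite K
  have h2 := two_K O
  have hq : Fintype.card K = Fintype.card F ^ 2 := by rw [Module.card_eq_pow_finrank (K := F), hr]
  obtain ⟨i, hi⟩ : IsSquare (-1 : K) := FiniteField.isSquare_neg_one_iff.2 (by
    rw [hq, Nat.pow_mod]
    have := Nat.mod_lt (Fintype.card F) (show 0 < 4 by norm_num)
    interval_cases (Fintype.card F % 4) <;> norm_num)
  have hδ' : ∀ c : K, c * c ≠ δ := fun c h => hδ (i * c) (by linear_combination c * c * (-hi) - h)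
  have hδ0 : δ ≠ 0 := fun h => hδ 0 (by rw [h, mul_zero, neg_zero])
  have hd : ∀ t : K, 1 + δ * (t * t) ≠ 0 := fun t h => by
    by_cases ht : t = 0
    · rw [ht] at h; simp at h
    exact hδ t⁻¹ (by field_simp; linear_combination h)
  have hn : ∀ t : K, 1 - δ * (t * t) ≠ 0 := fun t h => by
    by_cases ht : t = 0
    · rw [ht] at h; simp at h
    exact hδ' t⁻¹ (by field_simp; linear_combination h)
  let τ : K → K := fun t => (1 - δ * (t * t)) / (1 + δ * (t * t))
  by_contra hc
  push Not at hc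
  set S : Finset K := Finset.univ.erase 0 with hS
  have hcS : S.card + 1 = Fintype.card K := by
    rw [hS, Finset.card_erase_add_one (Finset.mem_univ _), Finset.card_univ]
  have h1 : S.card ≤ 2 * (S.image τ).card := card_le_two_mul S τ fun a _ b _ h => by
    simp only [τ, div_eq_div_iff (hd a) (hd b)] at h
    have hab : 2 * δ * (b * b - a * a) = 0 := by linear_combination h
    have := (mul_eq_zero.1 hab).resolve_left (mul_ne_zero h2 hδ0)
    exact mul_self_eq_mul_self_iff.1 (sub_eq_zero.1 this)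
  have h3 : (S.image τ).card ≤ 2 * ((S.image τ).image fun z => z * z).card :=
    card_le_two_mul _ _ fun a _ b _ h => mul_self_eq_mul_self_iff.1 h.symm
  have h4 : ((S.image τ).image fun z => z * z).card ≤
      (((Finset.univ : Finset F).erase 0).erase 1).card := by
    refine le_trans (Finset.card_le_card fun z hz => ?_)
      (Finset.card_image_le (f := algebraMap F K))
    obtain ⟨z', hz', rfl⟩ := Finset.mem_image.1 hz
    obtain ⟨t, ht, rfl⟩ := Finset.mem_image.1 hz'
    have ht0 : t ≠ 0 := (Finset.mem_erase.1 ht).1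
    have hτ0 : τ t ≠ 0 := div_ne_zero (hn t) (hd t)
    obtain ⟨c, hc⟩ := hc (τ t) (2 * t / (1 + δ * (t * t)))
      (by simp only [τ]; have : 1 + δ * t ^ 2 ≠ 0 := by rw [sq]; exact hd t
          field_simp; ring) hτ0
      (div_ne_zero (mul_ne_zero h2 ht0) (hd t))
    refine Finset.mem_image.2 ⟨c, Finset.mem_erase.2 ⟨fun h => ?_, Finset.mem_erase.2
      ⟨fun h => ?_, Finset.mem_univ _⟩⟩, hc⟩
    · rw [h, map_one] at hc
      simp only [τ] at hc
      have : 1 + δ * t ^ 2 ≠ 0 := by rw [sq]; exact hd t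
      field_simp at hc
      refine mul_ne_zero (mul_ne_zero (mul_ne_zero h2 h2) hδ0) (mul_ne_zero ht0 ht0) ?_
      linear_combination hc
    · rw [h, map_zero, eq_comm, mul_self_eq_zero] at hc
      exact hτ0 hc
  have h5 : (((Finset.univ : Finset F).erase 0).erase 1).card + 2 = Fintype.card F := by
    rw [← Finset.card_univ, ← Finset.card_erase_add_one (Finset.mem_univ (0 : F)),
      ← Finset.card_erase_add_one (show (1 : F) ∈ (Finset.univ : Finset F).erase 0 from
        Finset.mem_erase.2 ⟨one_ne_zero, Finset.mem_univ _⟩)]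
  rw [hq] at hcS
  nlinarith

/-- The product of the three Eichler transformations of an anisotropic vector. -/
theorem half_turn {e e' a : V} (he : β e e = 0) (he' : β e' e' = 0) (hee' : β e e' = 1)
    (ha : β e a = 0) (ha' : β e' a = 0) (haa : β a a ≠ 0) :
    ∃ g ∈ G, g e = -((2 / β a a) • e') ∧ (∀ c : K, g (c • e') = -((c * β a a / 2) • e)) ∧
      ∀ p, β e p = 0 → β e' p = 0 → g p = p - (2 * β a p / β a a) • a := by
  have h2 := two_K O
  obtain ⟨g₁, hg₁, h₁⟩ := O.eich e a he ha
  obtain ⟨g₂, hg₂, h₂⟩ := O.eich e' ((2 / β a a) • a) he' (by rw [map_smul, ha', smul_zero])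
  refine ⟨g₁ * g₂ * g₁, mul_mem (mul_mem hg₁ hg₂) hg₁, ?_, fun c => ?_, fun p hp hp' => ?_⟩
  all_goals show g₁ (g₂ (g₁ _)) = _
  all_goals
    simp only [h₁, h₂, map_add, map_sub, map_smul, map_neg, LinearMap.smul_apply, he, he', hee',
      ha, ha', O.symm e' e, O.symm a e, O.symm a e', smul_eq_mul]
  · match_scalars <;> field_simp <;> ring
  · match_scalars <;> field_simp <;> ring
  · simp only [hp, hp']
    match_scalars <;> field_simp <;> ring

/-- Spreading along a line of the anisotropic plane. -/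
theorem line_four {e e' x y : V} (hr : finrank F K = 2) (he0 : e ≠ 0) (he : β e e = 0)
    (he' : β e' e' = 0) (hee' : β e e' = 1)
    (haniso : ∀ p, β e p = 0 → β e' p = 0 → β p p = 0 → p = 0)
    (hx0 : x ≠ 0) (hx : x ∈ WE O e he) (hxe : β e x = 0) (hxe' : β e' x = 0)
    (hy0 : y ≠ 0) (hye : β e y = 0) (hye' : β e' y = 0) (hxy : β x y = 0) :
    (∀ k : K, k • x ∈ WE O e he) ∧ ∃ c : K, c ≠ 0 ∧ c • y ∈ WE O e he := by
  have h2 := two_K O
  have hxx : β x x ≠ 0 := fun h => hx0 (haniso x hxe hxe' h)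
  obtain ⟨τ, ρ, hτρ, hτ, hρ, hτF⟩ := exists_param O hr (δ := β y y / β x x) fun c hc => by
    have hz : β (c • x + y) (c • x + y) = 0 := by
      simp only [map_add, map_smul, LinearMap.add_apply, LinearMap.smul_apply, hxy, O.symm y x,
        smul_eq_mul]
      field_simp at hc
      linear_combination hc
    have h := haniso _ (by rw [map_add, map_smul, hxe, hye, smul_zero, add_zero])
      (by rw [map_add, map_smul, hxe', hye', smul_zero, add_zero]) hz
    have hc0 : c = 0 := by
      have h1 := congrArg (β x) h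
      rw [map_add, map_smul, hxy, map_zero, add_zero, smul_eq_mul] at h1
      exact (mul_eq_zero.1 h1).resolve_right hxx
    rw [hc0, zero_smul, zero_add] at h
    exact hy0 h
  have hrot : ∀ s : K, τ * τ + β y y / β x x * (s * s) = 1 →
      (2 * τ) • (τ • x + s • y) ∈ WE O e he := by
    intro s hs
    set b := τ • x + s • y with hbdef
    have hbe : β e b = 0 := by simp [hbdef, hxe, hye]
    have hbe' : β e' b = 0 := by simp [hbdef, hxe', hye']
    have hbb : β b b = β x x := by
      simp only [hbdef, map_add, map_smul, LinearMap.add_apply, LinearMap.smul_apply, hxy, O.symm y x,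
        smul_eq_mul]
      field_simp at hs
      linear_combination hs
    have hbx : β b x = τ * β x x := by
      simp only [hbdef, map_add, map_smul, LinearMap.add_apply, LinearMap.smul_apply, hxy, O.symm y x,
        smul_eq_mul, mul_zero, add_zero]
    obtain ⟨g₁, hg₁, h1e, -, h1p⟩ := half_turn O he he' hee' hxe hxe' hxx
    obtain ⟨g₂, hg₂, -, h2e, h2p⟩ := half_turn O he he' hee' hbe hbe' (by rwa [hbb])
    have hge : (g₂ * g₁) e = e := by
      show g₂ (g₁ e) = e
      rw [h1e, map_neg, h2e, neg_neg, hbb,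
        show 2 / β x x * β x x / 2 = (1 : K) by field_simp, one_smul]
    have h := (WE O e he).add_mem (we_conj O hx (mul_mem hg₂ hg₁) hge) hx
    rw [show (g₂ * g₁) x = g₂ (g₁ x) from rfl, h1p x hxe hxe',
      h2p _ (by simp [hxe]) (by simp [hxe']), hbb, map_sub, map_smul, hbx, smul_eq_mul] at h
    convert h using 1
    match_scalars <;> field_simp <;> ring
  have hp := hrot ρ hτρ
  have hm := hrot (-ρ) (by rw [neg_mul_neg]; exact hτρ)
  have hk : (4 * (τ * τ)) • x ∈ WE O e he := by
    convert (WE O e he).add_mem hp hm using 1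
    match_scalars <;> ring
  have hl : (4 * (τ * ρ)) • y ∈ WE O e he := by
    convert (WE O e he).sub_mem hp hm using 1
    match_scalars <;> ring
  have h4 : (4 : K) ≠ 0 := by
    rw [show (4 : K) = 2 * 2 by norm_num]; exact mul_ne_zero h2 h2
  refine ⟨fun k => ?_, _, mul_ne_zero h4 (mul_ne_zero hτ hρ), hl⟩
  let S : Submodule F K :=
    (WE O e he).comap ((LinearMap.id : K →ₗ[K] K).smulRight x |>.restrictScalars F)
  have hmem : ∀ c : K, c ∈ S ↔ c • x ∈ WE O e he := fun c => Iff.rfl
  suffices S = ⊤ from (hmem k).1 (this ▸ Submodule.mem_top)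
  by_contra hS
  have h1 : (1 : K) ∈ S := (hmem 1).2 (by rwa [one_smul])
  haveI : Nontrivial S := ⟨⟨⟨1, h1⟩, 0, fun h => one_ne_zero (congrArg Subtype.val h)⟩⟩
  have hlt := Submodule.finrank_lt hS
  rw [hr] at hlt
  have hp0 : 0 < finrank F S := Module.finrank_pos
  obtain ⟨c, hc⟩ := exists_smul_eq_of_finrank_eq_one (show finrank F S = 1 by omega)
    (show (⟨1, h1⟩ : S) ≠ 0 from fun h => one_ne_zero (congrArg Subtype.val h))
    ⟨_, (hmem _).2 hk⟩
  have hc' : c • (1 : K) = 4 * (τ * τ) := congrArg Subtype.val hc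
  refine hτF (c / 4) ?_
  rw [map_div₀, map_ofNat, Algebra.algebraMap_eq_smul_one, hc']
  field_simp

/-- The perpendicular of the line, in degree two and dimension four. -/
theorem perp_line_four {e : V} (hr : finrank F K = 2) (he0 : e ≠ 0) (he : β e e = 0)
    (hd : finrank K V = 4)
    (hno : ∀ u z : V, u ≠ 0 → β u u = 0 → β z z = 0 → β u z = 0 → z ∈ K ∙ u) {w : V}
    (hw : β e w = 0) : w ∈ WE O e he := by
  haveI := finite_VK O
  obtain ⟨M, x, hM, heM, hxM, hxe, hperp⟩ := exists_member_at O he0 he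
  obtain ⟨e', he', hee'⟩ := exists_opp O he0 he
  set P := perp₂ β e e' with hPdef
  have haniso : ∀ p, β e p = 0 → β e' p = 0 → β p p = 0 → p = 0 := fun p hp hp' hpp => by
    obtain ⟨c, rfl⟩ := Submodule.mem_span_singleton.1 (hno e p he0 he hpp hp)
    rw [map_smul, O.symm e' e, hee', smul_eq_mul, mul_one] at hp'
    rw [hp', zero_smul]
  have hP2 : finrank K P = 2 := le_antisymm (by
    by_contra hc
    obtain ⟨p, hp, hp0, hpp⟩ := exists_sing_in O (P := P) (by omega)
    exact hp0 (haniso p hp.1 hp.2 hpp)) (by have : finrank K V ≤ finrank K P + 2 := perp₂_rank O e e'; omega)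
  set x₀ := x - β e' x • e with hx₀
  have hx₀W : x₀ ∈ WE O e he := (WE O e he).sub_mem (mem_we O he0 he hM heM hxM) (lin_we O he0 he _)
  have hx₀e : β e x₀ = 0 := by rw [hx₀, map_sub, map_smul, hperp x hxM, he, smul_zero, sub_zero]
  have hx₀e' : β e' x₀ = 0 := by
    rw [hx₀, map_sub, map_smul, O.symm e' e, hee', smul_eq_mul, mul_one, sub_self]
  have hx₀0 : x₀ ≠ 0 := fun h => hxe (by
    rw [hx₀, sub_eq_zero] at h
    exact mem_lin_iff.2 ⟨_, h.symm⟩)
  clear_value x₀
  have hxx : β x₀ x₀ ≠ 0 := fun h => hx₀0 (haniso x₀ hx₀e hx₀e' h)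
  -- the perpendicular in the plane
  set D := P ⊓ LinearMap.ker (β x₀) with hD
  have hD1 : finrank K D = 1 := by
    have hlt : finrank K D < finrank K P := Submodule.finrank_lt_finrank_of_lt
      (lt_of_le_of_ne inf_le_left fun h => hxx (show x₀ ∈ D by rw [h]; exact ⟨hx₀e, hx₀e'⟩).2)
    have hB := LinearMap.finrank_range_add_finrank_ker (β x₀)
    have hC := Submodule.finrank_le (LinearMap.range (β x₀))
    rw [Module.finrank_self] at hC
    have hE := Submodule.finrank_sup_add_finrank_inf_eq P (LinearMap.ker (β x₀))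
    have hF := Submodule.finrank_le (P ⊔ LinearMap.ker (β x₀))
    rw [← hD] at hE
    omega
  haveI : Nontrivial D := Module.nontrivial_of_finrank_pos (R := K) (by omega)
  obtain ⟨⟨y, ⟨hye, hye'⟩, hxy⟩, hy0⟩ := exists_ne (0 : D)
  have hy0' : y ≠ 0 := fun h => hy0 (Subtype.ext h)
  obtain ⟨hx₀K, c, hc0, hcy⟩ := line_four O hr he0 he he' hee' haniso hx₀0 hx₀W hx₀e hx₀e'
    hy0' hye hye' hxy
  obtain ⟨hyK, -⟩ := line_four O hr he0 he he' hee' haniso (smul_ne_zero hc0 hy0') hcy
    (by rw [map_smul, LinearMap.mem_ker.1 hye, smul_zero])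
    (by rw [map_smul, LinearMap.mem_ker.1 hye', smul_zero]) hx₀0 hx₀e hx₀e'
    (by rw [map_smul, LinearMap.smul_apply, O.symm, LinearMap.mem_ker.1 hxy, smul_zero])
  -- decomposition
  set w₁ := w - β e' w • e with hw₁
  have hw₁e : β e w₁ = 0 := by rw [hw₁, map_sub, map_smul, hw, he, smul_zero, sub_zero]
  have hw₁e' : β e' w₁ = 0 := by
    rw [hw₁, map_sub, map_smul, O.symm e' e, hee', smul_eq_mul, mul_one, sub_self]
  obtain ⟨d, hd'⟩ := exists_smul_eq_of_finrank_eq_one hD1 hy0
    ⟨w₁ - (β x₀ w₁ / β x₀ x₀) • x₀,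
      ⟨show β e _ = 0 by rw [map_sub, map_smul, hw₁e, hx₀e, smul_zero, sub_zero],
        show β e' _ = 0 by rw [map_sub, map_smul, hw₁e', hx₀e', smul_zero, sub_zero]⟩,
      show β x₀ _ = 0 by rw [map_sub, map_smul, smul_eq_mul, div_mul_cancel₀ _ hxx, sub_self]⟩
  have hd2 : d • y = w₁ - (β x₀ w₁ / β x₀ x₀) • x₀ := congrArg Subtype.val hd'
  have h := (WE O e he).add_mem ((WE O e he).add_mem (hyK (d / c)) (hx₀K (β x₀ w₁ / β x₀ x₀)))
    (lin_we O he0 he (β e' w))
  rwa [smul_smul, div_mul_cancel₀ _ hc0, hd2, sub_add_cancel, hw₁, sub_add_cancel] at h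

/-- Degree two. -/
theorem full_two {e : V} (he0 : e ≠ 0) (he : β e e = 0) (hr : finrank F K = 2) {w : V}
    (hw : f e w = 0) : w ∈ WE O e he := by
  have hperp2 : ∀ {e : V}, e ≠ 0 → (he : β e e = 0) → ∀ {w : V}, β e w = 0 → w ∈ WE O e he := by
    intro e he0 he w hw
    rcases O.dim_two hr with hd | ⟨hd, hno⟩
    · exact perp_line_two O he0 he hd hw
    · exact perp_line_four O hr he0 he hd hno hw
  obtain ⟨M, x, hM, heM, hxM, hxe, hperp⟩ := exists_member_at O he0 he
  obtain ⟨g, hg, hgM⟩ := mem_std O hM he0 he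
  rw [hgM] at heM
  obtain ⟨e₂, he₂, hge⟩ := heM
  obtain ⟨a, rfl⟩ := mem_lin_iff.1 he₂
  have ha0 : a ≠ 0 := fun h => he0 (by rw [← hge, h, zero_smul, map_zero])
  obtain ⟨y, hyM, hye⟩ : ∃ y, (∀ m ∈ M, f y m = 0) ∧ β e y ≠ 0 := by
    by_contra hc
    push Not at hc
    have hinj : Function.Injective f :=
      LinearMap.ker_eq_bot.1 (LinearMap.ker_eq_bot'.2 fun z hz => f_nd O fun t => by
        rw [hz, LinearMap.zero_apply])
    have hNM : Lin F K e ≤ M := fun n hn => by
      by_contra hnM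
      obtain ⟨χ, hχ, hχM⟩ := Submodule.exists_dual_map_eq_bot_of_notMem hnM inferInstance
      obtain ⟨s, hs⟩ := (LinearMap.injective_iff_surjective_of_finrank_eq_finrank
        (Subspace.dual_finrank_eq (K := F) (V := V)).symm).1 hinj χ
      have hs0 : ∀ m ∈ M, f s m = 0 := fun m hm => by
        rw [hs]; exact (Submodule.mem_bot F).1 (hχM ▸ Submodule.mem_map_of_mem hm)
      refine hχ ?_
      rw [← hs]
      exact f_lin' O (hc s hs0) n hn
    rw [← eq_of_le_mem O (mem_of_lin O he0 he) hM hNM] at hxM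
    exact hxe hxM
  have hyW : y ∈ WE O e he := by
    have hae : β (a • e) (a • e) = 0 := by simp [he]
    have h1 : β e (g.symm y) = 0 := f_lin O fun v hv => by
      rw [← O.iso g hg, g.apply_symm_apply]
      exact hyM _ (hgM ▸ ⟨v, hv, rfl⟩)
    obtain ⟨h2, h3⟩ := hperp2 (e := a • e) (smul_ne_zero ha0 he0) hae
      (w := g.symm y) (by rw [map_smul, LinearMap.smul_apply, h1, smul_zero])
    refine ⟨?_, fun c => ?_⟩
    · rw [f_symm O]; exact hyM e (hgM ▸ ⟨a • e, mem_lin_iff.2 ⟨a, rfl⟩, hge⟩)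
    · have h := eichIn_conj O (h3 c) hg
      rw [g.map_smul c, g.apply_symm_apply] at h
      rwa [show g (a • e) = e from hge] at h
  let T := Algebra.trace F K
  have hker : finrank F (LinearMap.ker T) ≤ 1 := by
    have h1 := LinearMap.finrank_range_add_finrank_ker T
    have h2 : 0 < finrank F (LinearMap.range T) := by
      obtain ⟨k, hk⟩ := ExtSymp.exists_trace_ne (F := F) (one_ne_zero : (1 : K) ≠ 0)
      rw [mul_one] at hk
      haveI : Nontrivial (LinearMap.range T) :=
        ⟨⟨⟨T k, ⟨k, rfl⟩⟩, 0, fun h => hk (congrArg Subtype.val h)⟩⟩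
      exact Module.finrank_pos
    omega
  have hky : T (β e y) = 0 := by rw [← O.tr]; exact hyW.1
  have hkw : T (β e w) = 0 := by rw [← O.tr]; exact hw
  have hne : (⟨β e y, hky⟩ : LinearMap.ker T) ≠ 0 := fun h => hye (congrArg Subtype.val h)
  have h1 : finrank F (LinearMap.ker T) = 1 := le_antisymm hker (by
    haveI : Nontrivial (LinearMap.ker T) := ⟨⟨_, _, hne⟩⟩
    exact Module.finrank_pos)
  obtain ⟨c, hc⟩ := exists_smul_eq_of_finrank_eq_one h1 hne ⟨β e w, hkw⟩
  have hc' : c • β e y = β e w := congrArg Subtype.val hc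
  have := (WE O e he).add_mem (hperp2 he0 he (w := w - c • y) (by
    rw [map_sub, ← algebraMap_smul K c y, map_smul, ← hc', algebraMap_smul, sub_self]))
    ((WE O e he).smul_mem c hyW)
  rwa [sub_add_cancel] at this

/-- All Eichler transformations at a singular vector. -/
theorem eich_all {e : V} (he0 : e ≠ 0) (he : β e e = 0) {w : V} (hw : f e w = 0) :
    EichIn f G e w := by
  have h : w ∈ WE O e he := by
    rcases Nat.lt_or_ge (finrank F K) 3 with hr | hr
    · exact full_two O he0 he (by have := O.prime.two_le; omega) hw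
    · exact full_large O he0 he hr hw
  have := h.2 1
  rwa [one_smul] at this

end

end CfsgLib.MaxSub.ExtOrthMax
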