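/-
Normalisers of extension fields of orthogonal type are maximal.
-/
import Cfsg.Agent.Lib.MaxSub.ExtOrthMax.Generate
import Cfsg.Agent.Lib.MaxSub.ExtLin.Main
import Cfsg.Agent.Lib.Aschbacher.OrthEven.Proper

set_option autoImplicit false
set_option maxHeartbeats 400000
set_option linter.unusedSectionVars false

namespace CfsgLib.MaxSub.ExtOrthMax

open Matrix Module Cfsg Cfsg.Geo
open CfsgLib.Eichler (Sieg IsEich exists_eich eich_unique)
open CfsgLib.WittExtension (quadIso)
open QuadraticMap (polar polarBilin)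

variable {F : Type*} [Field F] [Fintype F] {ι : Type} [Fintype ι] [DecidableEq ι]

local notation "VV" => (ι → F)
local notation "MM" => Matrix ι ι F

/-- An overgroup of the normaliser outside it contains `Ω`. -/
theorem over_of {L : Type*} [Field L] [Algebra F L] {R : QuadraticForm F (ι → F)}
    (hR : (polarBilin R).Nondegenerate) (h2 : (2 : F) ≠ 0) {r : ℕ} (hr : r.Prime)
    (hrank : finrank F L = r) (hdim : 3 * r ≤ Fintype.card ι)
    (hthree : Fintype.card ι = 3 * r → 3 ≤ r) (hn : 5 ≤ Fintype.card ι)
    (h8 : r = 2 → Fintype.card ι < 10 →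
      ∀ S : Submodule F VV, (∀ x ∈ S, R x = 0) → finrank F S < 4)
    {A : Subalgebra F MM} (ρ : L →ₐ[F] MM) (hρ : ∀ M, M ∈ A ↔ ∃ l, ρ l = M)
    (hinj : Function.Injective ρ)
    (hsa' : ∀ (k : L) (u v : VV), polar R (ρ k *ᵥ u) v = polar R u (ρ k *ᵥ v))
    {M : Subgroup (GL ι F)}
    (hle : subalgebraNormalizer A ⊓ (Subgroup.closure (Sieg R)).map (Orth.toMat R) ≤ M)
    (hMG : M ≤ (Subgroup.closure (Sieg R)).map (Orth.toMat R)) {g₀ : GL ι F} (hg₀ : g₀ ∈ M)
    (hg₀N : g₀ ∉ subalgebraNormalizer A) : (Subgroup.closure (Sieg R)).map (Orth.toMat R) ≤ M := by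
  classical
  letI : Module L VV := Module.compHom _
    ((Matrix.toLinAlgEquiv' : MM ≃ₐ[F] _).toAlgHom.toRingHom.comp ρ.toRingHom)
  have hsmul : ∀ (k : L) (x : VV), k • x = ρ k *ᵥ x := fun k x => Matrix.toLinAlgEquiv'_apply _ _
  haveI : IsScalarTower F L VV := ⟨fun a k x => by
    rw [hsmul, hsmul, map_smul, Matrix.smul_mulVec]⟩
  haveI : FiniteDimensional F L := FiniteDimensional.of_finrank_pos (by rw [hrank]; exact hr.pos)
  haveI : Finite L := Module.finite_of_finite F
  haveI : Module.Finite L VV := Module.Finite.right F L VV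
  let f : VV →ₗ[F] VV →ₗ[F] F := polarBilin R
  have hf : ∀ x y, f x y = polar R x y := fun x y => rfl
  have hsa : ∀ (k : L) (u v : VV), f (k • u) v = f u (k • v) := fun k u v => by
    rw [hsmul, hsmul]; exact hsa' k u v
  let D := (Algebra.traceForm F L).toDual (traceForm_nondegenerate F L)
  let φ : VV → VV → Dual F L := fun x y =>
    { toFun := fun k => f (k • x) y
      map_add' := fun a b => by rw [add_smul, map_add, LinearMap.add_apply]
      map_smul' := fun a k => by rw [smul_assoc, map_smul, LinearMap.smul_apply, RingHom.id_apply] }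
  let b : VV → VV → L := fun x y => D.symm (φ x y)
  have hb : ∀ x y k, Algebra.trace F L (b x y * k) = f (k • x) y := fun x y k => by
    rw [← Algebra.traceForm_apply]
    exact LinearMap.BilinForm.apply_toDual_symm_apply (hB := traceForm_nondegenerate F L) (φ x y) k
  have hext : ∀ {p p' : L}, (∀ k, Algebra.trace F L (p * k) = Algebra.trace F L (p' * k)) → p = p' :=
    fun {p p'} h => sub_eq_zero.1 (ExtSymp.eq_zero_of_trace (F := F) fun k => by
      rw [mul_comm, sub_mul, map_sub, h, sub_self])
  let β : VV →ₗ[L] VV →ₗ[L] L := LinearMap.mk₂ L b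
    (fun x x' y => hext fun k => by
      rw [add_mul, map_add, hb, hb, hb, smul_add, map_add, LinearMap.add_apply])
    (fun c x y => hext fun k => by
      rw [smul_eq_mul, hb, smul_smul, mul_comm c, mul_assoc, hb, mul_comm k, mul_comm c])
    (fun x y y' => hext fun k => by rw [add_mul, map_add, hb, hb, hb, map_add])
    (fun c x y => hext fun k => by
      rw [smul_eq_mul, hb, ← hsa, smul_smul, mul_comm c (b x y), mul_assoc, hb])
  have hβb : ∀ x y, β x y = b x y := fun x y => rfl
  have htr : ∀ x y, f x y = Algebra.trace F L (β x y) := fun x y => by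
    rw [hβb, ← mul_one (b x y), hb, one_smul]
  have hsymm : ∀ x y, β x y = β y x := fun x y => hext fun k => by
    rw [hβb, hβb, hb, hb, hsa, hf, hf, QuadraticMap.polar_comm]
  have hnd : ∀ x, (∀ y, β x y = 0) → x = 0 := fun x hx => hR.1 x fun y => by
    show f x y = 0
    rw [htr, hx, map_zero]
  -- normalisation
  have hnorm : ∀ g : quadIso R, (∀ (k : L) (v : VV), g.1 (k • v) ∈ L ∙ g.1 v) →
      Orth.toMat R g ∈ subalgebraNormalizer A := by
    intro g hg
    have hm' : ∀ v : VV, ∃ z, z ∉ L ∙ v := fun v => by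
      by_contra hc
      push Not at hc
      have h1 := Submodule.finrank_mono (show (⊤ : Submodule L VV) ≤ L ∙ v from fun z _ => hc z)
      have h2 : finrank L (L ∙ v) ≤ 1 := by
        simpa using finrank_span_le_card ({v} : Set VV) (R := L)
      rw [finrank_top] at h1
      have h3 := Module.finrank_mul_finrank F L VV
      rw [hrank, Module.finrank_fintype_fun_eq_card] at h3
      have h4 : r * finrank L VV ≤ r * 1 := Nat.mul_le_mul_left r (h1.trans h2)
      have := hr.two_le
      omega
    have hsemi : ∀ k : L, ∃ k' : L, ∀ v, g.1 (k • v) = k' • g.1 v := by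
      refine ExtLin.exists_semilinear hm' hg ?_
      intro k v
      by_cases hv : v = 0
      · simp [hv]
      let Lm : L →ₗ[F] VV :=
        g.1.toLinearMap ∘ₗ ((LinearMap.id : L →ₗ[L] L).smulRight (g.1.symm v)).restrictScalars F
      have hL : ∀ a, Lm a = g.1 (a • g.1.symm v) := fun a => rfl
      have hle' : LinearMap.range Lm ≤ (L ∙ v).restrictScalars F := by
        rintro _ ⟨a, rfl⟩
        have := hg a (g.1.symm v)
        rwa [LinearEquiv.apply_symm_apply] at this
      have hker : LinearMap.ker Lm = ⊥ := LinearMap.ker_eq_bot'.2 fun a ha =>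
        (smul_eq_zero.1 (g.1.map_eq_zero_iff.1 ((hL a).symm.trans ha))).resolve_right
          fun e => hv (g.1.symm.map_eq_zero_iff.1 e)
      have heq : LinearMap.range Lm = (L ∙ v).restrictScalars F :=
        Submodule.eq_of_le_of_finrank_eq hle' (by
          rw [LinearMap.finrank_range_of_inj (LinearMap.ker_eq_bot.1 hker),
            ← ExtLin.finrank_lin (F := F) (K := L) hv]
          rfl)
      obtain ⟨a, ha⟩ := heq.ge (show k • v ∈ (L ∙ v).restrictScalars F from
        Submodule.mem_span_singleton.2 ⟨k, rfl⟩)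
      exact Submodule.mem_span_singleton.2 ⟨a, by rw [← ha, hL, LinearEquiv.symm_apply_apply]⟩
    choose θ hθ using hsemi
    set G := Orth.toMat R g with hG
    have hval : ∀ k : L, ρ (θ k) = (G : MM) * ρ k * ((G⁻¹ : GL ι F) : MM) := fun k => by
      refine Matrix.toLin'.injective (LinearMap.ext fun v => ?_)
      have h := hθ k (((G⁻¹ : GL ι F) : MM) *ᵥ v)
      rw [← Orth.toMat_mulVec, ← Orth.toMat_mulVec, ← hG, hsmul, hsmul, Matrix.mulVec_mulVec v (G : MM),
        Units.mul_inv, Matrix.one_mulVec, Matrix.mulVec_mulVec, Matrix.mulVec_mulVec] at h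
      exact h.symm
    have hsur : Function.Surjective θ := Finite.surjective_of_injective fun a b hab => hinj (by
      have := congrArg ρ hab
      rw [hval, hval] at this
      exact G.isUnit.mul_left_cancel ((G⁻¹).isUnit.mul_right_cancel this))
    intro N
    refine ⟨fun hN => ?_, fun hN => ?_⟩
    · obtain ⟨k, rfl⟩ := (hρ N).1 hN
      exact hval k ▸ (hρ _).2 ⟨_, rfl⟩
    · obtain ⟨l, hl⟩ := (hρ _).1 hN
      obtain ⟨a, rfl⟩ := hsur l
      rw [hval] at hl
      exact G.isUnit.mul_left_cancel ((G⁻¹).isUnit.mul_right_cancel hl) ▸ (hρ _).2 ⟨_, rfl⟩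
  -- the Eichler transformations over the extension
  have h2L : (2 : L) ≠ 0 := fun h => h2 ((algebraMap F L).injective (by rw [map_ofNat, map_zero]; exact h))
  have hiso : ∀ g : VV ≃ₗ[F] VV, (∀ x y, β (g x) (g y) = β x y) → g ∈ quadIso R := fun g hg x => by
    have h := QuadraticMap.polar_self R (g x)
    rw [← hf, htr, hg, ← htr, hf, QuadraticMap.polar_self, nsmul_eq_mul, nsmul_eq_mul, Nat.cast_ofNat] at h
    exact (mul_left_cancel₀ h2 h).symm
  have heich : ∀ e a : VV, β e e = 0 → β e a = 0 → ∃ g : quadIso R, g ∈ Subgroup.closure (Sieg R) ∧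
      Orth.toMat R g ∈ subalgebraNormalizer A ∧
      ∀ y, g.1 y = y + β e y • a - (β a y + β a a / 2 * β e y) • e := by
    intro e a he hea
    let E : VV → VV →ₗ[L] VV := fun a => LinearMap.id + (β e).smulRight a -
      (β a + (β a a / 2) • β e).smulRight e
    have hE : ∀ a y, E a y = y + β e y • a - (β a y + β a a / 2 * β e y) • e := fun a y => rfl
    have hEiso : ∀ x y, β (E a x) (E a y) = β x y := fun x y => by
      simp only [hE, map_add, map_sub, map_smul, LinearMap.add_apply, LinearMap.sub_apply,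
        LinearMap.smul_apply, he, hea, hsymm a e, hsymm x e, hsymm x a, smul_eq_mul]
      field_simp
      ring
    have hEinj : Function.Injective (E a) := LinearMap.ker_eq_bot.1 (LinearMap.ker_eq_bot'.2
      fun x hx => hnd x fun y => by rw [← hEiso, hx, map_zero, LinearMap.zero_apply])
    let gE : VV ≃ₗ[F] VV := (LinearEquiv.ofBijective (E a)
      ⟨hEinj, Finite.surjective_of_injective hEinj⟩).restrictScalars F
    have hgE : ∀ y, gE y = E a y := fun y => rfl
    let gq : quadIso R := ⟨gE, hiso gE hEiso⟩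
    refine ⟨gq, ?_, hnorm gq fun k v => ?_, fun y => hE a y⟩
    · rw [← OmegaSimple.commutator_eq R hR
        (by rw [Module.finrank_fintype_fun_eq_card]; omega), _root_.commutator_def]
      by_cases he0 : e = 0
      · have : gq = 1 := Subtype.ext (LinearEquiv.ext fun y => by
          show gE y = y
          rw [hgE, hE, he0]; simp)
        rw [this]; exact one_mem _
      obtain ⟨e', he', hee'⟩ : ∃ e', β e' e' = 0 ∧ β e e' = 1 := by
        obtain ⟨y, hy⟩ : ∃ y, β e y ≠ 0 := by
          by_contra hc
          push Not at hc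
          exact he0 (hnd e hc)
        set y' := (β e y)⁻¹ • y with hy'
        have h1 : β e y' = 1 := by rw [hy', map_smul, smul_eq_mul, inv_mul_cancel₀ hy]
        refine ⟨y' + (-(β y' y' / 2)) • e, ?_, by rw [map_add, h1, map_smul, he, smul_zero, add_zero]⟩
        simp only [map_add, map_smul, LinearMap.add_apply, LinearMap.smul_apply, he, hsymm y' e, h1,
          smul_eq_mul, mul_zero, add_zero, mul_one]
        field_simp
        ring
      let T : VV →ₗ[L] VV := LinearMap.id + (β e').smulRight e + ((-(1 / 2) : L) • β e).smulRight e'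
      have hT : ∀ y, T y = y + β e' y • e + (-(1 / 2) * β e y) • e' := fun y => rfl
      have hTiso : ∀ x y, β (T x) (T y) = β x y := fun x y => by
        simp only [hT, map_add, map_smul, LinearMap.add_apply, LinearMap.smul_apply, he, he',
          hsymm e' e, hee', hsymm x e, hsymm x e', smul_eq_mul]
        field_simp
        ring
      have hTinj : Function.Injective T := LinearMap.ker_eq_bot.1 (LinearMap.ker_eq_bot'.2
        fun x hx => hnd x fun y => by rw [← hTiso, hx, map_zero, LinearMap.zero_apply])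
      let gT : VV ≃ₗ[F] VV := (LinearEquiv.ofBijective T
        ⟨hTinj, Finite.surjective_of_injective hTinj⟩).restrictScalars F
      let tq : quadIso R := ⟨gT, hiso gT hTiso⟩
      have hcomm : tq * gq * tq⁻¹ * gq⁻¹ = gq := by
        rw [mul_inv_eq_iff_eq_mul, mul_inv_eq_iff_eq_mul]
        refine Subtype.ext (LinearEquiv.ext fun y => ?_)
        show T (E a y) = E a (E a (T y))
        simp only [hE, hT, map_add, map_sub, map_smul, he, he', hsymm e' e, hee', hea, hsymm a e,
          hsymm e' a, smul_eq_mul]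
        match_scalars <;> field_simp <;> ring
      have hmem := Subgroup.commutator_mem_commutator (Subgroup.mem_top tq) (Subgroup.mem_top gq)
      rwa [commutatorElement_def, hcomm] at hmem
    · exact Submodule.mem_span_singleton.2 ⟨k, ((E a).map_smul k v).symm⟩
  let G : Subgroup (VV ≃ₗ[F] VV) := (M.comap (Orth.toMat R)).map (quadIso R).subtype
  have O : OX f β G := by
    refine
      { two := h2
        tr := htr
        symm := hsymm
        nd := hnd
        eich := fun e a he hea => ?_
        iso := ?_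
        prime := by rw [hrank]; exact hr
        dim := by rw [hrank, Module.finrank_fintype_fun_eq_card]; exact hdim
        small := fun h => ⟨?_, ?_⟩
        dim_two := fun h => ?_
        nospread := ?_ }
    · obtain ⟨g, hgS, hgN, hgy⟩ := heich e a he hea
      exact ⟨g.1, ⟨g, hle ⟨hgN, Subgroup.mem_map_of_mem _ hgS⟩, rfl⟩, hgy⟩
    · rintro _ ⟨g, -, rfl⟩ x y
      exact OrthOrder.polar_map g.2 x y
    · rw [hrank]
      refine hthree ?_
      have h3 := Module.finrank_mul_finrank F L VV
      rw [hrank, h, Module.finrank_fintype_fun_eq_card] at h3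
      omega
    · rintro _ ⟨g, hg, rfl⟩
      obtain ⟨g', hg', hgg⟩ := hMG (show Orth.toMat R g ∈ M from hg)
      have heq : g' = g := Subtype.ext (LinearEquiv.ext fun v => by
        rw [← Orth.toMat_mulVec, ← Orth.toMat_mulVec, hgg])
      rw [← OmegaSimple.commutator_eq R hR
        (by rw [Module.finrank_fintype_fun_eq_card]; omega)] at hg'
      rw [← heq]
      exact MonoidHom.mem_ker.1
        (Abelianization.commutator_subset_ker (LinearEquiv.det.comp (quadIso R).subtype) hg')
    · have h3 := Module.finrank_mul_finrank F L VV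
      rw [h, Module.finrank_fintype_fun_eq_card] at h3
      rcases Nat.lt_or_ge (finrank L VV) 5 with h5 | h5
      swap
      · exact Or.inl h5
      rw [← hrank, h] at hdim hthree
      refine Or.inr ⟨by omega, fun u z hu0 hu hz huz => ?_⟩
      by_contra hzu
      have hli : LinearIndependent L ![u, z] := (LinearIndependent.pair_iff' hu0).2
        fun a ha => hzu (Submodule.mem_span_singleton.2 ⟨a, ha⟩)
      set S := Submodule.span L (Set.range ![u, z]) with hSdef
      have hS0 : ∀ x ∈ S.restrictScalars F, R x = 0 := fun x hx => by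
        obtain ⟨c, rfl⟩ := (Submodule.mem_span_range_iff_exists_fun L).1 hx
        have hq : β (∑ i, c i • ![u, z] i) (∑ i, c i • ![u, z] i) = 0 := by
          simp [Fin.sum_univ_two, hu, hz, huz, hsymm z u]
        have h := QuadraticMap.polar_self R (∑ i, c i • ![u, z] i)
        rw [← hf, htr, hq, map_zero, nsmul_eq_mul, Nat.cast_ofNat] at h
        exact (mul_eq_zero.1 h.symm).resolve_left h2
      have hS4 : finrank F (S.restrictScalars F) = 4 := by
        rw [show finrank F (S.restrictScalars F) = finrank F S from rfl,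
          ← Module.finrank_mul_finrank F L S, h,
          show finrank L S = 2 by rw [hSdef, finrank_span_eq_card hli, Fintype.card_fin]]
      have := h8 (hrank ▸ h) (by omega) _ hS0
      omega
    · obtain ⟨g, hg, hgg⟩ := hMG hg₀
      have := mt (hnorm g) (by rw [hgg]; exact hg₀N)
      push Not at this
      exact ⟨g.1, ⟨g, by show Orth.toMat R g ∈ M; rw [hgg]; exact hg₀, rfl⟩, this⟩
  obtain ⟨e, he0, he⟩ := exists_sing O
  obtain ⟨e', he', hee'⟩ := exists_opp O he0 he
  obtain ⟨k, hk⟩ := ExtSymp.exists_trace_ne (F := F) (one_ne_zero : (1 : L) ≠ 0)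
  rw [mul_one] at hk
  have hQ : ∀ x, β x x = 0 → R x = 0 := fun x hx => by
    have h := QuadraticMap.polar_self R x
    rw [← hf, htr, hx, map_zero, nsmul_eq_mul, Nat.cast_ofNat] at h
    exact (mul_eq_zero.1 h.symm).resolve_left h2
  have hfull : ∀ x, x ≠ 0 → β x x = 0 → Orth.Full (M.comap (Orth.toMat R)) x := by
    intro x hx0 hx a ha g hg
    obtain ⟨t, ⟨t', ht', rfl⟩, hty⟩ := eich_all O hx0 hx (w := a) ha
    have : t' = g := eich_unique R (e := x) (w := a) (fun y => by
      have h := hty y
      rw [hf, hf, hf, QuadraticMap.polar_self, nsmul_eq_mul, Nat.cast_ofNat,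
        mul_div_cancel_left₀ _ h2] at h
      rw [show t'.1 y = _ from h]
      module) hg
    exact this ▸ ht'
  have hk0 : k ≠ 0 := fun h => hk (by rw [h, map_zero])
  have he'0 : e' ≠ 0 := fun h => by rw [h, map_zero] at hee'; exact zero_ne_one hee'
  have hke : β (k • e') (k • e') = 0 := by simp [he']
  rw [Subgroup.map_le_iff_le_comap]
  refine Orth.le_of_full_pair hR (by rw [Module.finrank_fintype_fun_eq_card]; omega) (hQ e he)
    (hQ _ hke) ?_ (hfull e he0 he) (hfull _ (smul_ne_zero hk0 he'0) hke)
  rw [← hf, htr, map_smul, hee', smul_eq_mul, mul_one]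
  exact hk

omit [Fintype F] in
/-- The degree of a field of matrices divides the dimension. -/
theorem degree_dvd {L : Type*} [Field L] [Algebra F L] (ρ : L →ₐ[F] MM) :
    finrank F L ∣ Fintype.card ι := by
  letI : Module L VV := Module.compHom _
    ((Matrix.toLinAlgEquiv' : MM ≃ₐ[F] _).toAlgHom.toRingHom.comp ρ.toRingHom)
  haveI : IsScalarTower F L VV := ⟨fun a k x => by
    show Matrix.toLinAlgEquiv' (ρ (a • k)) x = a • Matrix.toLinAlgEquiv' (ρ k) x
    rw [map_smul, map_smul, LinearMap.smul_apply]⟩
  exact ⟨finrank L VV, by rw [Module.finrank_mul_finrank, Module.finrank_fintype_fun_eq_card]⟩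

theorem degree_dvd_card [Nonempty ι] {r : ℕ} {A : Subalgebra F MM} (hA : IsFieldSubalgebra r A) :
    r ∣ Fintype.card ι := by
  have hfield : IsField ↥A := by
    refine ⟨⟨0, 1, fun h => zero_ne_one (congrArg (fun x : ↥A => (x : MM)) h)⟩,
      fun x y => Subtype.ext (hA.comm x x.2 y y.2), fun {a} ha => ?_⟩
    obtain ⟨y, hy, hay⟩ := hA.inv a a.2 fun h => ha (Subtype.ext h)
    exact ⟨⟨y, hy⟩, Subtype.ext hay⟩
  letI : Field ↥A := hfield.toField
  have h := degree_dvd (L := ↥A) A.val
  rwa [show finrank F ↥A = r from hA.finrank_eq] at h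

/-- The normaliser of an extension field with trace form is maximal in `Ω`, also in dimension three over
the extension when its degree is odd. -/
theorem ext_orth_maximal_three {Q : (ι → F) → F} (hQ : IsNondegenerateQuadraticForm Q)
    (hn : 5 ≤ Fintype.card ι) (hodd : Odd (Fintype.card F)) {r : ℕ} (hr : r.Prime)
    (hdim : 3 * r ≤ Fintype.card ι) (hthree : Fintype.card ι = 3 * r → 3 ≤ r)
    (h8 : r = 2 → Fintype.card ι < 10 → ¬ IsPlusTypeOn Q ⊤)
    {A : Subalgebra F MM} (hA : IsFieldSubalgebra r A)
    (hsa : IsSelfAdjointFor (polar Q) A) :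
    IsMaximalIn (omegaGL Q) (subalgebraNormalizer A ⊓ omegaGL Q) := by
  refine ⟨lt_of_le_of_ne inf_le_right fun e => Aschbacher.OrthEven.not_le_subalgebraNormalizer hQ
    (by omega) hA hr.two_le (e.ge.trans inf_le_left), fun M hle hMG => ?_⟩
  by_cases h : M ≤ subalgebraNormalizer A
  · exact Or.inl (le_antisymm (le_inf h hMG) hle)
  obtain ⟨g₀, hg₀, hg₀N⟩ := SetLike.not_le_iff_exists.1 h
  obtain ⟨R, rfl, hR⟩ := Orth.exists_form hQ
  haveI : Nonempty ι := Fintype.card_pos_iff.1 (by omega)
  have hfield : IsField ↥A := by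
    refine ⟨⟨0, 1, fun h => zero_ne_one (congrArg (fun x : ↥A => (x : MM)) h)⟩,
      fun x y => Subtype.ext (hA.comm x x.2 y y.2), fun {a} ha => ?_⟩
    obtain ⟨y, hy, hay⟩ := hA.inv a a.2 fun h => ha (Subtype.ext h)
    exact ⟨⟨y, hy⟩, Subtype.ext hay⟩
  letI : Field ↥A := hfield.toField
  refine Or.inr (le_antisymm hMG ?_)
  rw [Orth.omegaGL_eq hR (by omega)] at hle hMG ⊢
  exact over_of (L := ↥A) hR (CfsgLib.FiniteForms.two_ne_zero_of_odd (F := F) rfl hodd) hr
    hA.finrank_eq hdim hthree hn (fun h2r h10 S hS => by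
      by_contra hc
      have h8c : Fintype.card ι = 8 := by
        obtain ⟨m, hm⟩ := degree_dvd_card hA
        rw [h2r] at hm hdim hthree
        omega
      obtain ⟨f, hf⟩ := exists_linearIndependent_of_le_finrank (show 4 ≤ finrank F S by omega)
      refine h8 h2r h10 ⟨Submodule.span F (Set.range (S.subtype ∘ f)), le_top,
        fun x hx => hS x (Submodule.span_le.2 (by rintro _ ⟨i, rfl⟩; exact (f i).2) hx), ?_⟩
      rw [finrank_top, finrank_span_eq_card (hf.map' _ S.ker_subtype), Fintype.card_fin,
        Module.finrank_fintype_fun_eq_card]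
      omega) A.val (fun N => ⟨fun hN => ⟨⟨N, hN⟩, rfl⟩, fun ⟨l, hl⟩ => hl ▸ l.2⟩)
    Subtype.val_injective (fun k u v => hsa _ k.2 u v) hle hMG hg₀ hg₀N

/-- The normaliser of an extension field with trace form is maximal in `Ω`. -/
theorem ext_orth_maximal {Q : (ι → F) → F} (hQ : IsNondegenerateQuadraticForm Q)
    (hn : 5 ≤ Fintype.card ι) (hodd : Odd (Fintype.card F)) {r : ℕ} (hr : r.Prime)
    (hdim : 4 * r ≤ Fintype.card ι)
    (h8 : r = 2 → Fintype.card ι < 10 → ¬ IsPlusTypeOn Q ⊤)
    {A : Subalgebra F MM} (hA : IsFieldSubalgebra r A)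
    (hsa : IsSelfAdjointFor (polar Q) A) :
    IsMaximalIn (omegaGL Q) (subalgebraNormalizer A ⊓ omegaGL Q) :=
  ext_orth_maximal_three hQ hn hodd hr (by omega) (fun h => absurd h (by have := hr.pos; omega))
    h8 hA hsa

end CfsgLib.MaxSub.ExtOrthMax
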